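import Cfsg.Agent.H40.E8FKit

/-! Tower E8F, slot Iw: the Iwasawa decomposition. -/

set_option autoImplicit false

namespace H78.E8F

open Cfsg.Lie H63 H64 H65 H40.E8F Subgroup

theorem jobIw : JobIw := by
  intro D _ _ _ Ω _ O g hg
  have h := (stB_xU D Ω).toStN.toSt
  let P : GL D.Idx Ω → Prop := fun k => ∃ w : List (ℕ × O),
    (k : Matrix D.Idx D.Idx Ω) = W D Ω (w.map fun p => (p.1, (p.2 : Ω)))
  have Px : ∀ r (t : Ω) k, t ∈ O → P k → P (xU D Ω r t * k) := fun r t k ht ⟨w, e⟩ =>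
    ⟨(r, ⟨t, ht⟩) :: w, by rw [Units.val_mul, e]; rfl⟩
  suffices ∃ b ∈ (stB_xU D Ω).rgd.B, ∃ k, P k ∧ g = b * k by
    obtain ⟨b, hb, k, ⟨w, e⟩, rfl⟩ := this
    exact ⟨w, b, hb, by rw [Units.val_mul, e]⟩
  rw [group_eq_Gp] at hg
  set T := (stB_xU D Ω).rgd
  have key : ∀ i, ∀ b ∈ T.B, ∀ k, P k → ∃ b' ∈ T.B, ∃ k', P k' ∧ T.n i * (b * k) = b' * k' := by
    intro i b hb k hk
    obtain ⟨c, hc, u, hu, rfl⟩ := T.mem_B'.1 hb
    obtain ⟨a, ha, x, hx, rfl⟩ := T.mem_U_split i hu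
    obtain ⟨t, rfl⟩ := h.mem_XR.1 hx
    have h1 := T.B.mul_mem (T.H_le_B (T.n_H i c hc)) (T.U_le_B (T.Up_le_U i (T.n_conj_Up i ha)))
    by_cases ht : t ∈ O
    · refine ⟨_, h1, T.n i * (xU D Ω ((H64.wdata D).p i) t * k), ?_, by group⟩
      rw [show T.n i = _ from nn_eq _ _ _ _, mul_assoc, mul_assoc]
      exact Px _ _ _ O.one_mem (Px _ _ _ (by simp)
        (Px _ _ _ O.one_mem (Px _ _ _ ht hk)))
    · have h0 : t ≠ 0 := fun e => ht (e ▸ O.zero_mem)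
      refine ⟨_, mul_mem h1 (mul_mem (T.H_le_B (h.nn_mul_nn_mem (simpleR i) one_ne_zero h0))
        (inv_mem (T.U_le_B (T.X_le_U ((H64.wdata D).pos_p i) hx)))), _,
        Px (D.neg (simpleR i : Rt D)) t⁻¹ k ((O.mem_or_inv_mem t).resolve_left ht) hk, ?_⟩
      rw [nn_eq _ _ _ t, ← xU_inv]
      change T.n i * (_ * (_ * xU D Ω (simpleR i : Rt D) t) * _) =
        _ * (T.n i * _ * (xU D Ω (simpleR i : Rt D) t)⁻¹) * _
      group
  rw [← T.PJ_univ, RGD.PJ, ← closure_eq T.B, ← Subgroup.closure_union] at hg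
  induction hg using closure_induction_left with
  | one => exact ⟨1, one_mem _, 1, ⟨[], rfl⟩, (mul_one _).symm⟩
  | mul_left x hx y _ ih =>
    obtain ⟨b, hb, k, hk, rfl⟩ := ih
    rcases hx with hx | ⟨j, -, rfl⟩
    · exact ⟨x * b, mul_mem hx hb, k, hk, (mul_assoc _ _ _).symm⟩
    · exact key j b hb k hk
  | inv_mul_cancel x hx y _ ih =>
    obtain ⟨b, hb, k, hk, rfl⟩ := ih
    rcases hx with hx | ⟨j, -, rfl⟩
    · exact ⟨x⁻¹ * b, mul_mem (inv_mem hx) hb, k, hk, (mul_assoc _ _ _).symm⟩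
    · rw [T.n_inv_eq, mul_assoc, ← mul_assoc _ b]
      exact key j _ (mul_mem (T.H_le_B (inv_mem (T.n_sq j))) hb) k hk

end H78.E8F
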