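import Cfsg.Agent.H78.E8Val
import Cfsg.Agent.H78.E8Iw
import Cfsg.Agent.H46.LangAlg

/-! Tower E8F, slots Red and B. -/

set_option autoImplicit false

namespace H78.E8F

open Cfsg.Lie H63 H64 H65 H40.E8F Matrix

theorem lift_word {k K : Type} [Field k] [Field K] [Algebra k K] (A : Subalgebra k K) (w : List (ℕ × K))
    (h : ∀ p ∈ w, p.2 ∈ A) : ∃ w' : List (ℕ × A), (w'.map fun p => (p.1, A.val.toRingHom p.2)) = w := by
  induction w with
  | nil => exact ⟨[], rfl⟩
  | cons p w ih =>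
    obtain ⟨w', e⟩ := ih fun q hq => h q (List.mem_cons_of_mem _ hq)
    exact ⟨(p.1, ⟨p.2, h p List.mem_cons_self⟩) :: w', by rw [List.map_cons, e]; rfl⟩

theorem jobRed : JobRed := by
  classical
  intro D _ _ k _ _ O _ _ j y x w hw hy
  let K := IsLocalRing.ResidueField O
  let ρ : O →+* K := IsLocalRing.residue O
  let _ : Algebra k K := (ρ.comp j).toAlgebra
  let w₁ := w.map fun p => (p.1, ρ p.2)
  let A := Algebra.adjoin k ((w₁.map Prod.snd).toFinset : Set K)
  obtain ⟨w₂, e⟩ := lift_word A w₁ fun p hp =>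
    Algebra.subset_adjoin (List.mem_toFinset.2 (List.mem_map_of_mem hp))
  have : Algebra.FiniteType k A := (Subalgebra.fg_iff_finiteType _).1 (Subalgebra.fg_adjoin_finset _)
  obtain ⟨m, hm⟩ := Ideal.exists_maximal A
  obtain ⟨χ, -⟩ := H46.exists_pt_of_isMaximal (k := k) m
  obtain ⟨g, g1, g2⟩ := exists_W (D := D) (w₂.map fun p => (p.1, χ.toRingHom p.2))
  refine ⟨g, g1, fun r hr => ?_⟩
  have h1 : (W D A w₂ *ᵥ (algebraMap k A ∘ x)) (Sum.inr r) = 0 := Subtype.ext (by
    have h2 := congrFun (comp_mulVec A.val.toRingHom (W D A w₂) (algebraMap k A ∘ x)) (Sum.inr r)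
    have h3 := congrFun (comp_mulVec ρ (W D O w) y) (Sum.inr r)
    rw [W_map, e] at h2
    rw [W_map, Function.comp_apply, hw r hr, map_zero, show ρ ∘ y = A.val.toRingHom ∘ algebraMap k A ∘ x from
      funext fun i => Ideal.Quotient.eq.2 (hy i)] at h3
    exact h2.trans h3.symm)
  have h2 := congrFun (comp_mulVec χ.toRingHom (W D A w₂) (algebraMap k A ∘ x)) (Sum.inr r)
  rw [W_map, ← g2, Function.comp_apply, h1, map_zero, show χ.toRingHom ∘ algebraMap k A ∘ x = x from
    funext fun i => χ.commutes (x i)] at h2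
  exact h2.symm

theorem jobB : JobB := by
  intro D _ _ _ k _ _ h hh hr x
  obtain ⟨Ω, _, O, j, y, ⟨g, g1, g2⟩, hy⟩ := jobVal D k h hh hr x
  obtain ⟨w, b, hb, e⟩ := jobIw D Ω O g g1
  refine jobRed D k O j y x w (fun r hr => Subtype.ext ?_) hy
  have h1 := (act_B (inv_mem hb) g2).1 r hr
  rw [act, act, e, ← mulVec_mulVec, mulVec_mulVec _ _ (b : Matrix D.Idx D.Idx Ω), Units.inv_mul,
    one_mulVec] at h1
  have h2 := congrFun (comp_mulVec O.subtype (W D O w) y) (Sum.inr r)
  rw [W_map] at h2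
  exact h2.trans h1

end H78.E8F
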