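import Cfsg.Agent.H78.CoR

/-! Elements of order 5 of the orthogonal group of the hyperbolic space of dimension 8 over the
field with two elements. -/

set_option autoImplicit false
set_option maxRecDepth 100000
set_option synthInstance.maxSize 2000

namespace H78
open H50.Co H56 H79

theorem card_le_of_fib {G X : Type*} [Group G] {H K : Subgroup G} (f : G → X) {S : Set X}
    (hS : S.Finite) (h1 : ∀ e ∈ H, f e ∈ S) (h2 : ∀ a ∈ H, ∀ b ∈ H, f a = f b → a⁻¹ * b ∈ K) :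
    Nat.card H ≤ S.ncard * Nat.card (H ⊓ K : Subgroup G) := by
  rw [card_inf_eq_subgroupOf, ← (K.subgroupOf H).index_mul_card, ← Nat.card_coe_set_eq]
  have := hS.to_subtype
  refine Nat.mul_le_mul_right _ (Nat.card_le_card_of_injective
    (fun q : H ⧸ K.subgroupOf H => (⟨f q.out, h1 _ q.out.2⟩ : S)) fun a b e => ?_)
  rw [← a.out_eq, ← b.out_eq]
  exact QuotientGroup.eq.2 (h2 _ a.out.2 _ b.out.2 (congrArg Subtype.val e))

theorem exists_conj_mem {G : Type*} [Group G] [Finite G] {p n : ℕ} [Fact p.Prime] {K L : Subgroup G}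
    (h : K ≤ L) (hn : Nat.card L = n * Nat.card K) (hp : ¬ p ∣ n) {g : G} (hg : g ∈ L)
    (e : g ^ p = 1) : ∃ t ∈ L, t * g * t⁻¹ ∈ K := by
  classical
  have := Fintype.ofFinite (L ⧸ K.subgroupOf L)
  have c := (K.subgroupOf L).index_mul_card
  rw [Nat.card_congr (Subgroup.subgroupOfEquivOfLe h).toEquiv, hn] at c
  obtain ⟨t, ht⟩ := Equiv.Perm.exists_fixed_point_of_prime (p := p) (n := 1)
    (σ := MulAction.toPermHom L (L ⧸ K.subgroupOf L) ⟨g, hg⟩) (by
      rwa [← Nat.card_eq_fintype_card, ← Subgroup.index, Nat.eq_of_mul_eq_mul_right Nat.card_pos c])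
    (by rw [pow_one, ← map_pow, show (⟨g, hg⟩ : L) ^ p = 1 from Subtype.ext e, map_one])
  obtain ⟨t, rfl⟩ := QuotientGroup.mk_surjective t
  refine ⟨t⁻¹, inv_mem t.2, ?_⟩
  rw [inv_inv, mul_assoc]
  exact (QuotientGroup.eq (a := t) (b := ⟨g, hg⟩ * t)).1 ht.symm

/-- the quadratic form on codes -/
def qN (n : ℕ) : ZMod 2 := cond ((n.testBit 0 && n.testBit 4) ^^ (n.testBit 1 && n.testBit 5) ^^
  (n.testBit 2 && n.testBit 6) ^^ (n.testBit 3 && n.testBit 7)) 1 0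
/-- the bilinear form on codes -/
def bN (m n : ℕ) : ZMod 2 := qN (m ^^^ n) + qN m + qN n
/-- the reflections on codes -/
def rN (a n : ℕ) : ℕ := if bN a n = 1 then n ^^^ a else n

theorem q8_vec (n : ℕ) : q8 (vec n) = qN n := by
  have k : ∀ b : Bool, (if b = true then (1 : ZMod 2) else 0) = cond b 1 0 := by decide
  simp only [q8_eq, qf, vec, k]
  simp only [qN, Fin.sum_univ_four, Sum.elim_inl, Sum.elim_inr, Fin.val_zero,
    Fin.val_one, Fin.val_two, show ((3 : Fin 4) : ℕ) = 3 from rfl, Nat.reduceAdd]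
  generalize n.testBit 0 = a, n.testBit 1 = b, n.testBit 2 = c, n.testBit 3 = d, n.testBit 4 = e,
    n.testBit 5 = f, n.testBit 6 = g, n.testBit 7 = h
  revert a b c d e f g h; decide +kernel

theorem B8_vec (m n : ℕ) : B8 (vec m) (vec n) = bN m n := by
  rw [bN, ← q8_vec, ← q8_vec, ← q8_vec, vec_xor, q8_add]
  generalize q8 (vec m) = a, q8 (vec n) = b, B8 (vec m) (vec n) = c
  revert a b c; decide

theorem rf_vec {a : ℕ} (h : qN a = 1) (n : ℕ) : rf (vec a) (vec n) = vec (rN a n) := by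
  rw [rN, ← B8_vec]
  split_ifs with e
  · rw [rf_one (q8_vec a ▸ h) e, vec_xor]
  · exact rf_zero (by_contra fun c => e (zmod2_ne_zero.1 c))

theorem vec_zero : vec 0 = 0 := funext fun i => by simp [vec]

theorem vec_eq_iff {m n : ℕ} : vec m = vec n ↔ m % 256 = n % 256 := by
  have k : ∀ i < 8, ∀ n, (n % 256).testBit i = n.testBit i := fun i hi n => by
    rw [show 256 = 2 ^ 8 by rfl, Nat.testBit_mod_two_pow, decide_eq_true hi, Bool.true_and]
  refine ⟨fun e => Nat.eq_of_testBit_eq fun i => ?_, fun e => funext fun i => ?_⟩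
  · by_cases hi : i < 8
    · obtain ⟨j, rfl⟩ : ∃ j : Fin 4 ⊕ Fin 4, Sum.elim Fin.val (fun j => 4 + j.val) j = i := by
        revert i; decide
      have := congrFun e j
      rw [k _ hi, k _ hi]
      simp only [vec] at this
      revert this
      cases m.testBit _ <;> cases n.testBit _ <;> simp
    · simp only [show 256 = 2 ^ 8 by rfl, Nat.testBit_mod_two_pow, decide_eq_false hi, Bool.false_and]
  · have hi : Sum.elim Fin.val (fun j : Fin 4 => 4 + j.val) i < 8 := by revert i; decide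
    simp only [vec, ← k _ hi m, ← k _ hi n, e]

theorem all_vec {p : V8 → Prop} : (∀ v, p v) ↔ ∀ n < 256, p (vec n) :=
  ⟨fun h _ _ => h _, fun h v => by obtain ⟨n, a, rfl⟩ := exists_vec v; exact h n a⟩

theorem ex_vec {p : V8 → Prop} : (∃ v, p v) ↔ ∃ n < 256, p (vec n) :=
  ⟨fun ⟨v, h⟩ => by obtain ⟨n, a, rfl⟩ := exists_vec v; exact ⟨n, a, h⟩, fun ⟨_, _, h⟩ => ⟨_, h⟩⟩

theorem ncard_vec (p : V8 → Prop) : {v | p v}.ncard = {n | n < 256 ∧ p (vec n)}.ncard := by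
  rw [← Set.InjOn.ncard_image (f := vec) fun a ha b hb e => by
    have := vec_eq_iff.1 e
    rwa [Nat.mod_eq_of_lt ha.1, Nat.mod_eq_of_lt hb.1] at this]
  congr 1
  ext v
  obtain ⟨n, a, rfl⟩ := exists_vec v
  exact ⟨fun h => ⟨n, ⟨a, h⟩, rfl⟩, fun ⟨_, h, e⟩ => e ▸ h.2⟩

theorem ncard_nat (p : ℕ → Prop) [DecidablePred p] :
    {n | n < 256 ∧ p n}.ncard = ((Finset.range 256).filter p).card := by
  rw [← Set.ncard_coe_finset]; congr 1; ext n; simp

/-- a product of four reflections -/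
noncomputable def cx (a b c d : V8) : O8 := rf a * rf b * (rf c * rf d)
/-- the standard element of order 5 -/
noncomputable def k5 : O8 := cx (vec 17) (vec 35) (vec 100) (vec 19)
/-- a second element of order 5 -/
noncomputable def k6 : O8 := cx (vec 136) (vec 31) (vec 68) (vec 23)
/-- the standard element on codes -/
def f5 (n : ℕ) : ℕ := 0xde8bb8ed8cd9eabfd683b0e584d1e2b7a8fdce9bfaaf9cc9a0f5c693f2a794c189dcefbadb8ebde881d4e7b2d386b5e0ffaa99ccadf8cb9ef7a291c4a5f0c396c89daefb9acffca9c095a6f392c7f4a1beebd88decb98adfb6e3d085e4b182d79fcaf9accd98abfe97c2f1a4c590a3f6e9bc8fdabbeedd88e1b487d2b3e6d5805e0b386d0c596a3f5603306504516237287d4e1b7a2f1c492075461372271441095c6f3a5b0e3d6801546732530635607f2a194c2d784b1e7722114425704316481d2e7b1a4f7c2940152673124774213e6b580d6c390a5f36635005643102571f4a792c4d182b7e1742712445102376693c0f5a3b6e5d086134075233665500 >>> (8 * (n % 256)) % 256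
/-- the second element on codes -/
def f6 (n : ℕ) : ℕ := 0x683a6a38bfedbdefe8baeab83f6d3d6f2b79297bfcaefeacabf9a9fb7c2e7e2c1b49194bcc9ece9c9bc999cb4c1e4e1c580a5a088fdd8ddfd88ada880f5d0d5fa8faaaf87f2d7d2f287a2a78ffadfdafebb9e9bb3c6e3e6c6b39693bbceebeecdb89d98b0c5e0e5c5b09590b8cde8edc98ca9ac84f1d4d1f184a1a48cf9dcd9ff7a5f5a72072227077257527a0f2a2f0b4e6b6e46331613334663664e3b1e1b384d686d45301510304560654d381d183c795c597104212404715451790c292c037653567e0b2e2b0b7e5b5e76032623074267624a3f1a1f3f4a6f6a4237121734416461493c191c3c496c6941341114307550557d082d28087d585d750025200 >>> (8 * (n % 256)) % 256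

theorem cx_vec {a b c d T : ℕ} (h : qN a = 1 ∧ qN b = 1 ∧ qN c = 1 ∧ qN d = 1)
    (e : ∀ n < 256, rN a (rN b (rN c (rN d n))) = T >>> (8 * n) % 256) (n : ℕ) :
    cx (vec a) (vec b) (vec c) (vec d) (vec n) = vec (T >>> (8 * (n % 256)) % 256) := by
  simp only [← e _ (Nat.mod_lt _ (by decide)), (vec_eq_iff (m := n)).2 (Nat.mod_mod _ _).symm,
    cx, O.mul_apply, rf_vec h.1, rf_vec h.2.1, rf_vec h.2.2.1, rf_vec h.2.2.2]

theorem cx_mem {a b c d : ℕ} (h : qN a = 1 ∧ qN b = 1 ∧ qN c = 1 ∧ qN d = 1) :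
    cx (vec a) (vec b) (vec c) (vec d) ∈ Om :=
  mul_mem (rf_mul_mem (q8_vec a ▸ h.1) (q8_vec b ▸ h.2.1))
    (rf_mul_mem (q8_vec c ▸ h.2.2.1) (q8_vec d ▸ h.2.2.2))

theorem k5_vec (n : ℕ) : k5 (vec n) = vec (f5 n) := cx_vec (by decide) (by decide +kernel) n
theorem k6_vec (n : ℕ) : k6 (vec n) = vec (f6 n) := cx_vec (by decide) (by decide +kernel) n
theorem k5_mem : k5 ∈ Om := cx_mem (by decide)
theorem k6_mem : k6 ∈ Om := cx_mem (by decide)

/-- translate a statement on vectors into one on codes -/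
local macro "vcode" : tactic => `(tactic| (simp only [ncard_vec, all_vec, ex_vec, ← vec_zero, k5_vec, k6_vec,
  ← vec_xor, vec_eq_iff, q8_vec, B8_vec, ne_eq, ncard_nat]; decide +kernel))

theorem k5_five : k5 ^ 5 = 1 := O.ext (by
  simp only [pow_succ, pow_zero, O.mul_apply, O.one_apply]; vcode)
theorem k5_ne : k5 (vec 17) ≠ vec 17 := by vcode
theorem k5_fix : {v | k5 v = v}.ncard = 16 := by vcode
theorem k6_fix : {v | k6 v = v}.ncard = 16 := by vcode
theorem k5_sing : ∃ v ≠ 0, q8 v = 0 ∧ k5 v = v := by vcode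
theorem dec56 (v : V8) : ∃ a b, k5 a = a ∧ k6 b = b ∧ v = a + b := by
  refine ⟨v + k5 v + k5 (k5 v) + k5 (k5 (k5 v)) + k5 (k5 (k5 (k5 v))), _, ?_, ?_,
    (vadd_cancel _ _).symm⟩ <;> revert v <;> vcode
theorem orth56 : ∀ a, k5 a = a → ∀ b, k6 b = b → B8 a b = 0 := by vcode
theorem b_fix : k5 (vec 136) = vec 136 ∧ k5 (vec 31) = vec 31 ∧ k5 (vec 68) = vec 68 ∧
    k5 (vec 23) = vec 23 := by vcode
theorem a_fix : k6 (vec 17) = vec 17 ∧ k6 (vec 35) = vec 35 ∧ k6 (vec 100) = vec 100 ∧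
    k6 (vec 19) = vec 19 := by vcode
theorem fix6_of {v : V8} (h : ∀ a, k5 a = a → B8 a v = 0) : k6 v = v := by
  simp only [k6, cx, O.mul_apply, rf_zero (h _ b_fix.1), rf_zero (h _ b_fix.2.1),
    rf_zero (h _ b_fix.2.2.1), rf_zero (h _ b_fix.2.2.2)]
theorem exists_com : ∀ v, k6 v = v → ∃ u, k6 u = u ∧ v = u + k5 u := by vcode
theorem sing_com : ∀ v, k6 v = v → q8 v = 0 → v = 0 ∨ q8 (v + k5 v) = 1 := by vcode

/-- the elements that fix the fixed vectors of `k` -/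
def fixT (k : O8) : Subgroup O8 where
  carrier := {m | ∀ v, k v = v → m v = v}
  one_mem' _ _ := rfl
  mul_mem' ha hb v e := by rw [O.mul_apply, hb v e, ha v e]
  inv_mem' {a} ha v e := by nth_rewrite 1 [← ha v e]; exact O.inv_apply_apply _ _

theorem fix6_map {m : O8} (h : m ∈ fixT k5) {v : V8} (e : k6 v = v) : k6 (m v) = m v :=
  fix6_of fun a ha => by rw [← h a ha, m.map_polar, orth56 a ha v e]

theorem conj_cx (m : O8) (a b c d : V8) : m * cx a b c d * m⁻¹ = cx (m a) (m b) (m c) (m d) := by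
  simp only [cx, ← conj_refl]; group

theorem comm_k5 {m : O8} (h : m ∈ fixT k6) : m * k5 = k5 * m := by
  rw [← mul_inv_eq_iff_eq_mul, k5, conj_cx, h _ a_fix.1, h _ a_fix.2.1, h _ a_fix.2.2.1,
    h _ a_fix.2.2.2]

theorem fix_span {m : O8} {a b c d : ℕ} (h1 : m (vec a) = vec a) (h2 : m (vec b) = vec b)
    (h3 : m (vec c) = vec c) (h4 : m (vec d) = vec d) {v : V8} (h : ∃ p q r s : Bool,
      v = vec (cond p a 0 ^^^ cond q b 0 ^^^ cond r c 0 ^^^ cond s d 0)) : m v = v := by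
  obtain ⟨p, q, r, s, rfl⟩ := h
  have : ∀ (p : Bool) a, m (vec a) = vec a → m (vec (cond p a 0)) = vec (cond p a 0) := fun p a h => by
    cases p
    exacts [by rw [cond_false, vec_zero, map_zero], h]
  simp only [vec_xor, map_add, this _ _ h1, this _ _ h2, this _ _ h3, this _ _ h4]

theorem fix_of {m : O8} (c : m * k5 = k5 * m) (e : m (vec 17) = vec 17) : m ∈ fixT k6 := fun v hv => by
  have c : ∀ n, m (vec n) = vec n → m (vec (f5 n)) = vec (f5 n) := fun n h => by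
    rw [← k5_vec, ← O.mul_apply, c, O.mul_apply, h]
  refine fix_span e (c _ e) (c _ (c _ e)) (c _ (c _ (c _ e))) ?_
  revert v; vcode

theorem k5_orb {m : O8} (c : m * k5 = k5 * m) : ∃ i < 5, m (vec 17) = (k5 ^ i) (vec 17) := by
  have c : ∀ v, k5 (m v) = m (k5 v) := fun v => by rw [← O.mul_apply, ← c, O.mul_apply]
  have h1 : ∀ v, v + k5 v + k5 (k5 v) + k5 (k5 (k5 v)) + k5 (k5 (k5 (k5 v))) = 0 → q8 v = 1 →
      B8 v (k5 v) = 1 → v = vec 17 ∨ v = k5 (vec 17) ∨ v = k5 (k5 (vec 17)) ∨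
      v = k5 (k5 (k5 (vec 17))) ∨ v = k5 (k5 (k5 (k5 (vec 17)))) := by vcode
  rcases h1 (m (vec 17)) (by simp only [c, ← map_add, O.apply_eq_zero]; vcode)
    ((O.map_Q m _).trans (by vcode)) (by rw [c, m.map_polar]; vcode) with e | e | e | e | e
  exacts [⟨0, by decide, e⟩, ⟨1, by decide, e⟩, ⟨2, by decide, e⟩, ⟨3, by decide, e⟩,
    ⟨4, by decide, e⟩]

theorem k5_res {m : O8} (c : m * k5 = k5 * m) : ∃ i < 5, (k5 ^ i)⁻¹ * m ∈ fixT k6 := by
  obtain ⟨i, hi, e⟩ := k5_orb c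
  exact ⟨i, hi, fix_of (((Commute.refl k5).pow_left i).inv_left.mul_left c) (by
    rw [O.mul_apply, e, O.inv_apply_apply])⟩

theorem eq_one_of_fix {m : O8} (h1 : m ∈ fixT k5) (h2 : m ∈ fixT k6) : m = 1 := O.ext fun v => by
  obtain ⟨a, b, ha, hb, rfl⟩ := dec56 v
  rw [map_add, h1 a ha, h2 b hb, O.one_apply]

theorem k5_cent (m : O8) (_ : m ∈ Om) (c : m * k5 = k5 * m) (h : ∀ v, k5 v = v → m v = v) :
    m ∈ Subgroup.zpowers k5 := by
  obtain ⟨i, -, e⟩ := k5_res c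
  exact ⟨i, (zpow_natCast k5 i).trans (inv_mul_eq_one.1 (eq_one_of_fix
    (mul_mem (inv_mem (pow_mem (fun _ e => e) i)) h) e))⟩

theorem fix_of_four {m : O8} (c : m * k5 = k5 * m) (h : m ^ 4 = 1) : m ∈ fixT k6 := by
  obtain ⟨i, -, e⟩ := k5_res c
  have := pow_mem e 5
  rwa [((show Commute m k5 from c).pow_right i).symm.inv_left.mul_pow, inv_pow, ← pow_mul, mul_comm i,
    pow_mul, k5_five, one_pow, inv_one, one_mul, pow_succ, h, one_mul] at this

theorem exists_swap5 : ∃ m ∈ Om, m * k5 * m⁻¹ = k6 := by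
  have li : ∀ a : Fin 4 → ℕ, (∀ g : Fin 4 → ZMod 2, (∀ j, ∑ i, g i * bN (a i) (a j) = 0) → g = 0) →
      LinearIndependent (ZMod 2) fun i => vec (a i) := fun a h =>
    Fintype.linearIndependent_iff.2 fun g hg => congrFun (h g fun j => by
      have := congrArg (fun v => B8 v (vec (a j))) hg
      simpa only [H58.polar_sum_left, QuadraticMap.polar_smul_left, B8_vec, smul_eq_mul,
        QuadraticMap.polar_zero_left] using this)
  obtain ⟨g, hg⟩ := witt_family nd8 _ _ (li ![17, 35, 100, 19] (by decide +kernel))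
    (li ![136, 31, 68, 23] (by decide +kernel)) (by vcode) (by vcode)
  obtain ⟨m, hm, e⟩ := exists_Om_of g (t := vec 136) (by vcode)
  refine ⟨m, hm, ?_⟩
  rw [k5, conj_cx, e _ (by vcode), e _ (by vcode), e _ (by vcode), e _ (by vcode)]
  exact congr(cx $(hg 0) $(hg 1) $(hg 2) $(hg 3))

theorem card_fix_conj {m k : O8} (hm : m ∈ Om) :
    Nat.card (Om ⊓ fixT (m * k * m⁻¹) : Subgroup O8) = Nat.card (Om ⊓ fixT k : Subgroup O8) := by
  rw [← Subgroup.card_map_of_injective (K := Om ⊓ fixT k) (f := (MulAut.conj m).toMonoidHom)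
    (MulAut.conj m).injective]
  congr 2
  ext g
  refine ⟨fun h => ⟨m⁻¹ * g * m, ⟨Om.mul_mem (Om.mul_mem (Om.inv_mem hm) h.1) hm, fun v e => ?_⟩, by
    simp [mul_assoc]⟩, ?_⟩
  · rw [O.mul_apply, O.mul_apply, h.2 _ (by simp only [O.mul_apply, O.inv_apply_apply, e]),
      O.inv_apply_apply]
  · rintro ⟨g, h, rfl⟩
    refine ⟨Om.mul_mem (Om.mul_mem hm h.1) (Om.inv_mem hm), fun v e => ?_⟩
    show (m * g * m⁻¹) v = v
    rw [O.mul_apply, O.mul_apply, h.2 _ (by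
      rw [← O.inv_apply_apply m (k _), ← O.mul_apply m, ← O.mul_apply _ m⁻¹, e]), O.apply_inv_apply]

theorem le_card_fix : 60 ≤ Nat.card (Om ⊓ fixT k5 : Subgroup O8) := by
  have st : ∀ (H : Subgroup O8) (a : V8) (S : Set V8), (∀ e ∈ H, e a ∈ S) →
      Nat.card H ≤ S.ncard * Nat.card (H ⊓ MulAction.stabilizer O8 a : Subgroup O8) := fun H a S h =>
    card_le_of_fib (fun e => e a) S.toFinite h fun b _ c _ e => by
      show (b⁻¹ * c) a = a
      rw [O.mul_apply, ← e, O.inv_apply_apply]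
  have pl : ∀ {e : O8} {a : V8} (b : V8), e ∈ MulAction.stabilizer O8 a → B8 a (e b) = B8 a b :=
    fun {e a} b h => by rw [← e.map_polar a b, show e a = a from h]
  have h1 := st Om (vec 136) {v | q8 v = 1} fun e _ => (O.map_Q e _).trans (by vcode)
  have h2 := st (Om ⊓ MulAction.stabilizer O8 (vec 136)) (vec 31)
    {v | q8 v = 1 ∧ B8 (vec 136) v = 1} fun e h =>
      ⟨(O.map_Q e _).trans (by vcode), (pl _ h.2).trans (by vcode)⟩
  have h3 := st (Om ⊓ MulAction.stabilizer O8 (vec 136) ⊓ MulAction.stabilizer O8 (vec 31)) (vec 68)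
    {v | q8 v = 1 ∧ B8 (vec 136) v = 0 ∧ B8 (vec 31) v = 1 ∧ v ≠ vec 136} fun e h =>
      ⟨(O.map_Q e _).trans (by vcode), (pl _ h.1.2).trans (by vcode), (pl _ h.2).trans (by vcode),
        fun c => absurd (e.injective (c.trans (show e _ = _ from h.1.2).symm)) (by vcode)⟩
  have h4 := st (Om ⊓ MulAction.stabilizer O8 (vec 136) ⊓ MulAction.stabilizer O8 (vec 31) ⊓
    MulAction.stabilizer O8 (vec 68)) (vec 23)
    {v | q8 v = 1 ∧ B8 (vec 136) v = 0 ∧ B8 (vec 31) v = 0 ∧ B8 (vec 68) v = 1} fun e h =>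
      ⟨(O.map_Q e _).trans (by vcode), (pl _ h.1.1.2).trans (by vcode),
        (pl _ h.1.2).trans (by vcode), (pl _ h.2).trans (by vcode)⟩
  have h5 := Subgroup.card_le_of_le (show Om ⊓ MulAction.stabilizer O8 (vec 136) ⊓
    MulAction.stabilizer O8 (vec 31) ⊓ MulAction.stabilizer O8 (vec 68) ⊓
    MulAction.stabilizer O8 (vec 23) ≤ Om ⊓ fixT k5 from fun e h => ⟨h.1.1.1.1, fun v hv =>
      fix_span h.1.1.1.2 h.1.1.2 h.1.2 h.2 (by revert v; vcode)⟩)
  rw [show Set.ncard _ = 120 by vcode, card_Om] at h1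
  rw [show Set.ncard _ = 56 by vcode] at h2
  rw [show Set.ncard _ = 27 by vcode] at h3
  rw [show Set.ncard _ = 16 by vcode] at h4
  omega

/-- the singular vectors of the space moved by the standard element -/
def sing5 : SubMulAction (fixT k5) V8 where
  carrier := {v | k6 v = v ∧ q8 v = 0 ∧ v ≠ 0}
  smul_mem' m _ h := ⟨fix6_map m.2 h.1, (O.map_Q m.1 _).trans h.2.1,
    fun e => h.2.2 ((O.apply_eq_zero m.1).1 e)⟩

theorem exists_perm5 : ∃ φ : fixT k5 →* Equiv.Perm (Fin 5), Function.Injective φ := by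
  have c : Nat.card sing5 = 5 := (Nat.card_coe_set_eq {v | k6 v = v ∧ q8 v = 0 ∧ v ≠ 0}).trans
    (by vcode)
  refine ⟨(Finite.equivFinOfCardEq c).permCongrHom.toMonoidHom.comp
    (MulAction.toPermHom (fixT k5) sing5), (injective_iff_map_eq_one _).2 fun m h =>
      Subtype.ext (eq_one_of_fix m.2 fun v hv => ?_)⟩
  replace h := (MulEquiv.map_eq_one_iff (Finite.equivFinOfCardEq c).permCongrHom).1 h
  have f : ∀ n, k6 (vec n) = vec n ∧ q8 (vec n) = 0 ∧ vec n ≠ 0 → m.1 (vec n) = vec n := fun n e =>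
    congrArg Subtype.val (Equiv.ext_iff.1 h ⟨_, e⟩)
  exact fix_span (f 2 (by vcode)) (f 33 (by vcode)) (f 48 (by vcode)) (f 102 (by vcode))
    (by revert v; vcode)

theorem fix_alt : Nat.card (Om ⊓ fixT k5 : Subgroup O8) = 60 ∧
    Nonempty ((Om ⊓ fixT k5 : Subgroup O8) ≃* alternatingGroup (Fin 5)) := by
  obtain ⟨φ, hφ⟩ := exists_perm5
  have c : Nat.card (Equiv.Perm (Fin 5)) = 120 := by rw [Nat.card_perm, Nat.card_fin]; rfl
  have h1 := Nat.card_le_card_of_injective φ hφ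
  have h2 := (Om.subgroupOf (fixT k5)).index_mul_card
  have h3 : (Om.subgroupOf (fixT k5)).index ≠ 1 := fun e => rf_not_mem (a := vec 17) (by vcode)
    (Subgroup.subgroupOf_eq_top.1 (Subgroup.index_eq_one.1 e) fun v e =>
      rf_zero' (orth56 v e _ a_fix.1))
  have h4 := (Om.subgroupOf (fixT k5)).index_ne_zero_of_finite
  have h5 := le_card_fix
  rw [← card_inf_eq_subgroupOf, inf_comm] at h2
  have h6 : Nat.card (Om ⊓ fixT k5 : Subgroup O8) = 60 := by
    have : 2 ≤ (Om.subgroupOf (fixT k5)).index := by omega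
    nlinarith
  let ψ := φ.comp (Subgroup.inclusion (inf_le_right : Om ⊓ fixT k5 ≤ fixT k5))
  have h7 := MonoidHom.ofInjective (f := ψ) (hφ.comp (Subgroup.inclusion_injective _))
  have h8 := ψ.range.index_mul_card
  rw [← Nat.card_congr h7.toEquiv, h6, c] at h8
  exact ⟨h6, ⟨h7.trans (MulEquiv.subgroupCongr
    (Equiv.Perm.eq_alternatingGroup_of_index_eq_two (by omega)))⟩⟩

theorem card_fix6 : Nat.card (Om ⊓ fixT k6 : Subgroup O8) = 60 := by
  obtain ⟨m, hm, e⟩ := exists_swap5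
  rw [← e, card_fix_conj hm, fix_alt.1]

theorem card_cent_k5 : Nat.card (Om ⊓ CZ k5 : Subgroup O8) = 300 := by
  rw [card_step (Om ⊓ CZ k5) (vec 17) (S := {v | ∃ i < 5, v = vec (f5^[i] 17)}) fun v => ?_,
    show Om ⊓ CZ k5 ⊓ MulAction.stabilizer O8 (vec 17) = Om ⊓ fixT k6 from Subgroup.ext fun g =>
      ⟨fun e => ⟨e.1.1, fix_of (mem_CZ.1 e.1.2) e.2⟩, fun e =>
        ⟨⟨e.1, mem_CZ.2 (comm_k5 e.2)⟩, e.2 _ a_fix.1⟩⟩, card_fix6, show Set.ncard _ = 5 by vcode]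
  have k : ∀ i : ℕ, (k5 ^ i) (vec 17) = vec (f5^[i] 17) := fun i => by
    induction i with
    | zero => rfl
    | succ i ih => rw [pow_succ', O.mul_apply, ih, k5_vec, Function.iterate_succ_apply']
  refine ⟨fun ⟨i, _, e⟩ => ⟨k5 ^ i, pow_mem (Subgroup.mem_inf.2 ⟨k5_mem, mem_CZ.2 rfl⟩) i, by rw [k, e]⟩,
    fun ⟨g, a, e⟩ => ?_⟩
  obtain ⟨i, hi, b⟩ := k5_orb (mem_CZ.1 a.2)
  exact ⟨i, hi, by rw [← e, b, k]⟩

theorem exists_conj_k5 {k : O8} (hk : k ∈ Om) (h5 : k ^ 5 = 1) {v : V8} (v0 : v ≠ 0)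
    (hv : k v = v) : ∃ m ∈ Om, m * k * m⁻¹ ∈ Subgroup.zpowers k5 := by
  have : Fact (Nat.Prime 5) := ⟨by decide⟩
  obtain ⟨σ, hσ, sw⟩ := exists_swap5
  have o6 : orderOf k6 = 5 := orderOf_eq_prime (by rw [← sw, conj_pow, k5_five]; group) fun e =>
    absurd (show k6 (vec 136) = vec 136 by rw [e]; rfl) (by vcode)
  obtain ⟨t, ht, h1⟩ := exists_conj_mem (p := 5) (n := 580608) (K := Om ⊓ CZ k5) inf_le_left
    (by rw [card_Om, card_cent_k5]) (by decide) hk h5
  have c := mem_CZ.1 h1.2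
  obtain ⟨i, hi, h2⟩ := k5_res c
  obtain ⟨s, hs, h3⟩ := exists_conj_mem (p := 5) (n := 12) (K := Subgroup.zpowers k6)
    (L := Om ⊓ fixT k6) ((Subgroup.zpowers_le (G := O8)).2 ⟨k6_mem, fun _ e => e⟩)
    (by rw [card_fix6, Nat.card_zpowers, o6]) (by decide)
    ⟨Om.mul_mem (Om.inv_mem (Om.pow_mem k5_mem i)) h1.1, h2⟩ (by
      rw [((show Commute _ k5 from c).pow_right i).symm.inv_left.mul_pow, inv_pow, ← pow_mul,
        mul_comm i, pow_mul, k5_five, conj_pow, h5]; group)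
  classical
  obtain ⟨j, hj, h4⟩ := Finset.mem_image.1 (mem_zpowers_iff_mem_range_orderOf.1 h3)
  rw [o6, Finset.mem_range] at hj
  have h5 : s * t * k * (s * t)⁻¹ = k5 ^ i * k6 ^ j := by
    rw [h4, ← mul_assoc, ← mul_assoc, ← ((show Commute s k5 from comm_k5 hs.2).pow_right i).eq]; group
  have k : ∀ (g : O8) (f : ℕ → ℕ), (∀ n, g (vec n) = vec (f n)) → ∀ i n,
      (g ^ i) (vec n) = vec (f^[i] n) := fun g f h i n => by
    induction i with
    | zero => rfl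
    | succ i ih => rw [pow_succ', O.mul_apply, ih, h, Function.iterate_succ_apply']
  have h6 : ∀ i < 5, ∀ j < 5, ∀ v, (k5 ^ i * k6 ^ j) v = v → v = 0 ∨ i = 0 ∨ j = 0 := by
    simp only [O.mul_apply, all_vec, k _ _ k5_vec, k _ _ k6_vec]; vcode
  rcases h6 i hi j hj ((s * t) v) (by
    rw [← h5, O.mul_apply, O.inv_apply_apply, O.mul_apply (s * t), hv])
    with e | rfl | rfl
  · exact absurd ((O.apply_eq_zero _).1 e) v0
  · refine ⟨σ⁻¹ * (s * t), mul_mem (inv_mem hσ) (mul_mem hs.1 ht), j, ?_⟩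
    show k5 ^ (j : ℤ) = _
    rw [pow_zero, one_mul, ← sw, conj_pow] at h5
    rw [zpow_natCast, show k5 ^ j = σ⁻¹ * (σ * k5 ^ j * σ⁻¹) * σ by group, ← h5]; group
  · exact ⟨s * t, mul_mem hs.1 ht, i, by rw [h5, pow_zero, mul_one]; exact zpow_natCast _ _⟩

theorem cnt16 {u w : V8} (u1 : k5 u = u) (u2 : q8 u = 0) (u3 : u ≠ 0) (h : B8 w u = 1) :
    {v | q8 v = q8 w ∧ ∀ r, k5 r = r → B8 r u = 0 → B8 r v = B8 r w}.ncard ≤ 16 := by
  classical
  have k : ∀ u, k5 u = u → q8 u = 0 → u ≠ 0 → ∀ a, k5 a = a →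
      (∀ r, k5 r = r → B8 r u = 0 → B8 r a = 0) → a = 0 ∨ a = u := by vcode
  refine k6_fix ▸ (Set.ncard_le_ncard ?_ (Set.toFinite _)).trans (Set.ncard_image_le
    (f := fun b => if q8 (w + b) = q8 w then w + b else w + b + u) (Set.toFinite _))
  rintro v ⟨h1, h2⟩
  obtain ⟨a, b, ha, hb, e⟩ := dec56 (w + v)
  replace e : v = w + b + a := by rw [add_assoc, add_comm b, ← e, vadd_cancel]
  refine ⟨b, hb, ?_⟩
  rcases k u u1 u2 u3 a ha fun r hr c => by
    have := h2 r hr c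
    rwa [e, B8_add_right, B8_add_right, orth56 r hr b hb, add_zero, add_eq_left] at this
    with rfl | rfl
  · rw [add_zero] at e
    simp only [← e, h1, if_true]
  · refine (if_neg fun c => ?_).trans e.symm
    rw [e, q8_add, c, u2, B8_add_left, h, B8_comm b, orth56 a ha b hb, add_zero, add_zero,
      add_eq_left] at h1
    exact one_ne_zero h1

theorem k0_fix5 : k0 ∈ Om ⊓ fixT k5 ∧ k0 * k5 ≠ k5 * k0 := by
  refine ⟨⟨k0_mem, fun v e => ?_⟩, fun e => ?_⟩
  · show (rf (vec 17) * rf (vec 35)) v = v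
    rw [O.mul_apply, rf_zero' (orth56 v e _ a_fix.2.1), rf_zero' (orth56 v e _ a_fix.1)]
  · have : (rf (vec 17) * rf (vec 35) * k5) (vec 17) = (k5 * (rf (vec 17) * rf (vec 35))) (vec 17) :=
      congrArg (fun g : O8 => g (vec 17)) e
    revert this
    simp only [O.mul_apply, k5_vec, rf_vec (show qN 17 = 1 by decide),
      rf_vec (show qN 35 = 1 by decide)]
    vcode

end H78
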