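import Cfsg.Agent.H14.CBSpec
import Cfsg.Agent.H14.FEKit

/-! Tower CB, job Cm: two 2-groups that commute modulo a group of odd order. -/

set_option autoImplicit false

namespace H78.CBCm

open Cfsg Subgroup MulAction H14 H98 H1.Gold H31.S2 H14.GC H14.FE H14.NF H14.CB
open scoped commutatorElement

universe u

theorem jobCm : JCm.{u} := by
  intro G _ _ A B V O hA hB hV hVA hVB hO hn hc
  have nA : A ≤ nor O := (le_sup_left.trans le_sup_left).trans hn
  have nB : B ≤ nor O := (le_sup_right.trans le_sup_left).trans hn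
  have nV : V ≤ nor O := le_sup_right.trans hn
  have hU : IsPGroup 2 (V ⊔ A : Subgroup G) := IsPGroup.to_sup_of_normal_right' hV hA hVA
  have hW : IsPGroup 2 (V ⊔ B : Subgroup G) := IsPGroup.to_sup_of_normal_right' hV hB hVB
  have hAY : A ≤ nor (B ⊔ O) := fun a ha => mem_normalizer_of_cj_le (by
    rw [cj_sup, cj_eq_self (nA ha)]
    refine sup_le ?_ le_sup_right
    rintro _ ⟨b, hb, rfl⟩
    have e : (MulAut.conj a).toMonoidHom b = ⁅a, b⁆ * b := by
      rw [commutatorElement_def, inv_mul_cancel_right]; rfl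
    rw [e]
    exact mul_mem (mem_sup_right (hc a ha b hb)) (mem_sup_left hb))
  have hYn : B ⊔ O ≤ nor O := sup_le nB le_normalizer
  obtain ⟨P, hP, UP, hPY⟩ := exists_inv_syl hU (sup_le (le_normalizer_sup hVB nV) hAY)
  have hPn : P ≤ nor O := hP.le.trans (sup_le hYn (sup_le nV nA))
  have hY : B ⊔ O ≤ P ⊔ O := by
    obtain ⟨y, hy, h1⟩ := hPY.exists_cj_le hB le_sup_left
    rw [← cj_eq_self_of_mem hy, cj_sup, cj_eq_self (hYn hy)]
    exact sup_le_sup_right (h1.trans inf_le_left) _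
  obtain ⟨g, hg, h1⟩ := hP.exists_cj_le hW
    (sup_le (le_sup_left.trans le_sup_right) (le_sup_left.trans le_sup_left))
  obtain ⟨s, hs, o, ho, rfl⟩ := (mem_sup_left_norm hPn).1
    (sup_le hY (UP.trans le_sup_left) hg)
  have h2 : cj o (V ⊔ B) ≤ P := by
    rw [← cj_cj, cj_le_iff, cj_eq_self_of_mem (inv_mem hs)] at h1
    exact h1
  have ni := ni_of_odd hO
  refine ⟨o, ho, mem_centralizer_iff.2 fun v hv => ?_, ?_⟩
  · have h3 : o * v * o⁻¹ * v⁻¹ = 1 := ni.eq_one hP.isPGroup
      (mul_mem (h2 (conj_mem_cj (mem_sup_left hv))) (inv_mem (UP (mem_sup_left hv))))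
      (comm_mem_left ho (nV hv))
    exact (commutatorElement_eq_one_iff_mul_comm.1 h3).symm
  · rintro _ ⟨b, hb, rfl⟩
    refine mem_centralizer_iff.2 fun a ha => commutatorElement_eq_one_iff_mul_comm.1 ?_
    refine ni.eq_one hP.isPGroup
      (comm_mem (UP (mem_sup_right ha)) (h2 (conj_mem_cj (mem_sup_right hb)))) ?_
    have e : ⁅a, (MulAut.conj o).toMonoidHom b⁆ = a * o * a⁻¹ * (a * b * o⁻¹ * (a * b)⁻¹) *
        ⁅a, b⁆ * (b * o * b⁻¹) * o⁻¹ := by
      show ⁅a, o * b * o⁻¹⁆ = _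
      simp only [commutatorElement_def]
      group
    rw [e]
    exact mul_mem (mul_mem (mul_mem (mul_mem (conj_mem_of_mem_normalizer (nA ha) ho)
      (conj_mem_of_mem_normalizer (mul_mem (nA ha) (nB hb)) (inv_mem ho))) (hc a ha b hb))
      (conj_mem_of_mem_normalizer (nB hb) ho)) (inv_mem ho)

end H78.CBCm
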