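import Cfsg.Agent.H64.YEMod
import Cfsg.Agent.H67.SPIII
import Cfsg.Agent.H67.UAFQ
import Cfsg.Agent.H67.UAFP
import Cfsg.Agent.H72.UMFV
import Cfsg.Agent.H59.UMFW
import Cfsg.Agent.H59.UMIC
import Cfsg.Agent.H81.UAFX
import Cfsg.Agent.H81.UAQK
import Cfsg.Agent.H55.UMFB
import Cfsg.Agent.H66.UAFY
import Cfsg.Agent.H66.UAFA

/-! STD-SP (row S3129), endgame: the unitary models.  `Y = XU m K`, `τ = ta m K`.
Notes: `blueprints/STDSP_YU.md`. -/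

set_option autoImplicit false
set_option linter.unusedSectionVars false

namespace H78.YU

open H64.SG (O2 Syl Cz Cs Ns cjs Is2 Inv2 IsO2 fx)
open H67 H67.UA H64.YE Subgroup Matrix
open H67.SP (Qx bc fa mt_bc mt_fa mid iv IsIns ins Alt kk vx)
open H67.SA (cm St la)
open H59.SO (AutOn)
open H64.SF (Outer)

section Y

variable (m : ℕ) (K : Type) [Field K] [StarRing K] [CharP K 2] [Finite K]

/-- the field involution -/
def ta : MulAut (XU m K) := fa (sg K) fun _ => rfl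
noncomputable abbrev U0 : Subgroup (XU m K) := GA.UU (XU m K)
noncomputable abbrev P0 : Subgroup (XU m K) := GA.PP (XU m K)
noncomputable abbrev Z0 : Subgroup (XU m K) := GA.ZZ (XU m K)
noncomputable abbrev Q0 : Subgroup (XU m K) := GA.QQ (XU m K)
noncomputable abbrev r0 : XU m K := TT (ev 0)

section Inst

variable [Par m K]

instance base : Base m K :=
  have q := jobFQ m K
  have v := H72.FV.jobFV m K q
  have w := H59.UM.jobFW m K q v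
  have x := H81.UAX.jobFX m K q v w
  { q, v, w, x, H81.UAX.jobFO m K q v w x, H55.UMFB.jobFB m K q v with }
instance fA : GA.FA (XU m K) := H66.UAK.jobFA m K (base m K) (H66.UAK.jobFY m K (base m K))
instance fP : GA.FP (XU m K) := jobFP m K (base m K)
theorem iC : IC m K := H59.UM.jobIC m K (base m K)
instance fI : GA.FI (XU m K) := ⟨(iC m K).ic, H81.UAQ.jobQK m K (base m K)⟩

end Inst

variable {m K}

/-- the conjugate vector -/
def br (v : Vn m K) : Vn m K := fun i => star (v i)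

theorem ta_apply (g : XU m K) (i j : Fin (m + 1)) : mt (ta m K g) i j = star (mt g i j) := rfl
@[simp] theorem br_br (v : Vn m K) : br (br v) = v := funext fun _ => star_star _
theorem br_add (v w : Vn m K) : br (v + w) = br v + br w := funext fun _ => star_add _ _
theorem br_smul (a : K) (v : Vn m K) : br (a • v) = star a • br v := funext fun _ => star_mul' _ _
@[simp] theorem br_zero : br (0 : Vn m K) = 0 := funext fun _ => star_zero _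
@[simp] theorem br_ev (i : Fin (m + 1)) : br (ev i : Vn m K) = ev i := funext fun j => by
  rw [br, ev_apply]; split_ifs <;> simp
theorem hf_br (x y : Vn m K) : hf (br x) (br y) = hf y x := by
  rw [← star_hf x y]; simp [hf, br, star_sum]
theorem ac_ta (g : XU m K) (v : Vn m K) : ac (ta m K g) (br v) = br (ac g v) := funext fun i => by
  simp [ac, br, mulVec, dotProduct, ta_apply, star_sum]
theorem ta_ta (g : XU m K) : ta m K (ta m K g) = g :=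
  X_ext (Matrix.ext fun _ _ => star_star _)
theorem ok_br {u x : Vn m K} {c : K} (h : Ok u x c) : Ok (br u) (br x) (star c) :=
  ⟨by rw [Iso, hf_br, h.iso], by rw [hf_br, hf_symm h.perp], by rw [hf_br, h.star.tr]⟩
theorem ta_EE {u x : Vn m K} {c : K} (h : Ok u x c) :
    ta m K (EE u x c) = EE (br u) (br x) (star c) := ac_ext fun v => by
  rw [← br_br v, ac_ta, ac_EE h, ac_EE (ok_br h)]
  simp only [br_add, br_smul, star_mul', hf_br, star_hf]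

variable (m K)

/-- Automorphisms. -/
structure QM : Prop where
  qs : QS (XU m K)
  stU : ta m K ∈ St (U0 m K)
  tne : ta m K ∉ commutator (MulAut (XU m K))
  m3 : ∀ β : MulAut (XU m K), β * β = 1 → Is2 (β * ta m K) → Outer β → ¬ Outer (β * ta m K)
  good : ∀ j, GA.Rg (XU m K) j → Good (ta m K) (U0 m K) (GA.Qk (XU m K) j)
  xk : ∀ j, GA.Rg (XU m K) j → ta m K (GA.xk (XU m K) j) = GA.xk (XU m K) j

/-- The part of `RD` with content. -/
structure R0 : Prop where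
  rt : ∀ y, IsConj (r0 m K) y ↔ ∃ v, v ≠ 0 ∧ Iso v ∧ y = TT v
  rz : ∀ z ∈ Z0 m K, z ≠ 1 → IsConj (r0 m K) z
  ra : ∀ (α : MulAut (XU m K)) y, IsConj (r0 m K) y → IsConj (r0 m K) (α y)
  cz : ∀ g, g ∈ Cs (Z0 m K) ↔ ∃ a : K, nm a = 1 ∧ ac g (ev 0) = a • ev 0
  str : ∀ α : MulAut (XU m K), α (r0 m K) = r0 m K → α ∈ St (Z0 m K)
  stq : ∀ α ∈ St (Z0 m K), α ∈ St (Q0 m K)
  ce : ∀ u ∈ U0 m K, (∀ x ∈ Q0 m K, cm u x ∈ Z0 m K) → u ∈ Q0 m K
  zq : ∀ α ∈ St (Q0 m K), (∀ x ∈ Q0 m K, α x * x⁻¹ ∈ Z0 m K) → ∀ z ∈ Z0 m K, α z = z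

/-- Generation by the conjugates of short elements. -/
structure NP : Prop where
  np : ∀ E : Subgroup (XU m K), P0 m K ≤ Ns E → qq (ev 1) (ev 0) ∈ E → qq (ev 2) (ev 1) ∈ E →
    P0 m K ≤ E
  top : ∀ H : Subgroup (XU m K), P0 m K ≤ H → qq (ev 1) (ev (la m)) ∈ H → H = ⊤
  n2 : qq (ev 1) (ev (la m)) ∈ Ns (GA.Qk (XU m K) 2)

/-- `RZ.qn` -/
def QN : Prop := ∀ x ∈ Q0 m K, x ∉ Z0 m K → ∃ z a, Pp (ev 0) z ∧ Li (ev 0) z ∧ a ≠ 0 ∧
  cm (TT z) x = EE (ev 0) (a • z) (nm a)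

/-- `RH.pd`, `RH.hb` -/
structure HB : Prop where
  pd : U0 m K ≤ closure {d | d ∈ Cs (Z0 m K) ∧ IsConj (r0 m K) d}
  hb : ∀ d₁ ∈ U0 m K, ∀ d₂ ∈ U0 m K, IsConj (r0 m K) d₁ → IsConj (r0 m K) d₂ →
    (∃ x ∈ Q0 m K, ∃ x' ∈ Q0 m K, cm d₁ x ∉ Z0 m K ∧ cm d₁ x * (cm d₂ x')⁻¹ ∈ Z0 m K) →
      ∀ x ∈ Q0 m K, ∃ x' ∈ Q0 m K, cm d₁ x * (cm d₂ x')⁻¹ ∈ Z0 m K

/-- An automorphism of `Q` that fixes `Z` pointwise, on `H = ⟨e₀, e_m⟩^⊥`. -/
def H1 : Prop := ∀ θ : XU m K → XU m K, AutOn (Q0 m K) θ → (∀ z ∈ Z0 m K, θ z = z) →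
  ∃ f : Vn m K → Vn m K, (∀ y, hf (f y) (ev 0) = 0) ∧
    (∀ y c, Ok (ev 0) y c → hf (f y) (f y) = hf y y ∧
      ∃ d, Ok (ev 0) (f y) d ∧ θ (EE (ev 0) y c) = EE (ev 0) (f y) d) ∧
    (∀ y y', hf y (ev 0) = 0 → hf y' (ev 0) = 0 → f (y + y') = f y + f y' ∧
      tr (hf (f y) (f y')) = tr (hf y y')) ∧
    ∀ (a : K) y, star a = a → hf y (ev 0) = 0 → f (a • y) = a • f y

/-- `RH.ha` -/
def HA : Prop := ∀ θ δ : XU m K → XU m K, AutOn (Q0 m K) θ → (∀ z ∈ Z0 m K, θ z = z) →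
  ∀ d ∈ Cs (Z0 m K), IsConj (r0 m K) d → d ∉ Z0 m K →
    (∀ x ∈ Q0 m K, δ (θ x) = θ (d * x * d⁻¹)) → ∃ d₂ ∈ Cs (Z0 m K), IsConj (r0 m K) d₂ ∧
      d₂ ∉ Z0 m K ∧ (∀ x ∈ Q0 m K, δ (d₂ * x * d₂⁻¹) * (d₂ * δ x * d₂⁻¹)⁻¹ ∈ Z0 m K) ∧
      (∃ x ∈ Q0 m K, ∃ x' ∈ Q0 m K, δ x * x⁻¹ ∉ Z0 m K ∧ δ x * x⁻¹ * (cm d₂ x')⁻¹ ∈ Z0 m K) ∧
      ((∀ x ∈ Q0 m K, ∃ x' ∈ Q0 m K, δ x * x⁻¹ * (cm d₂ x')⁻¹ ∈ Z0 m K) →
        ∃ d₃ ∈ Cs (Z0 m K), ∀ x ∈ Q0 m K, δ x * (d₃ * x * d₃⁻¹)⁻¹ ∈ Z0 m K)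

/-- `RS.pat` -/
def PT : Prop := ∀ v ∈ Cs (Z0 m K), v * v = 1 → ∀ x ∈ Q0 m K, x * x = 1 →
  (∀ z ∈ Z0 m K, Ac (x * z) (v * z)) → v ∈ Q0 m K

/-- Square roots of the elements of `Z`. -/
def SD : Prop := ∀ u ∈ U0 m K, u * u ∈ Z0 m K → u * u ≠ 1 → ∃ y d l, Ok (ev 0) y d ∧
  hf y (ev (la m)) = 0 ∧ hf y y ≠ 0 ∧ u = EE (ev 0) y d * l ∧ l * l = 1 ∧ ac l (ev 0) = ev 0 ∧
    ac l (ev (la m)) = ev (la m) ∧ ac l y = y
def S0 : Prop := Odd m → ∀ u ∈ U0 m K, u * u ∈ Z0 m K → u * u ≠ 1 →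
  ∃ y ∈ closure {y | y ∈ Q0 m K ∧ y * y = 1 ∧ cm u y ∈ Z0 m K}, u * y * (u * y) = 1
def S1 : Prop := Even m → ∀ u ∈ U0 m K, u * u ∈ Z0 m K → u * u ≠ 1 →
  ∃ w ∈ Cs (Z0 m K), tw (ta m K) w u * u⁻¹ ∈ Z0 m K

/-- Large `2`-subgroups. -/
def BI : Prop := ∀ y : XU m K, Inv2 y → Big (qK K ^ (kk m ^ 2 + 1)) (MulAut.conj y)

/-- The classes of involutions in `Y τ`. -/
def CL : Prop := ∀ v : XU m K, v * ta m K v = 1 →
  ∃ g, v = g * (ta m K g)⁻¹ ∨ v = g * r0 m K * (ta m K g)⁻¹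

/-- The embedding of `SU(W)` in `SU(W ⊥ ⟨ev mid⟩)`. -/
structure I1 : Prop where
  isIns : IsIns m K (ins m K)
  inj : Function.Injective (ins m K)
  rng : ∀ g : XU (m + 1) K, ac g (ev (mid m)) = ev (mid m) → ∃ y, ins m K y = g
  ee : ∀ u y c, Ok u y c → ins m K (EE u y c) = EE (iv u) (iv y) c
  tc : ∀ y, ta (m + 1) K (ins m K y) = ins m K (ta m K y)
  add : ∀ v w : Vn m K, iv (v + w) = iv v + iv w
  smul : ∀ (a : K) (v : Vn m K), iv (a • v) = a • iv v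
  hh : ∀ v w : Vn m K, hf (iv v) (iv w) = hf v w
  hm : ∀ v : Vn m K, hf (iv v) (ev (mid m)) = 0
  mm : hf (ev (mid m) : Vn (m + 1) K) (ev (mid m)) = 1
  dec : ∀ z : Vn (m + 1) K, ∃ (v : Vn m K) (a : K), z = iv v + a • ev (mid m)
  e0 : iv (ev 0 : Vn m K) = ev 0
  bi : ∀ v : Vn m K, br (iv v) = iv (br v)

end Y

/-- A statement on all unitary groups. -/
def AllY (P : ∀ (_ : ℕ) (K : Type) [Field K] [StarRing K] [CharP K 2] [Finite K], Prop) : Prop :=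
  ∀ (m : ℕ) (K : Type) [Field K] [StarRing K] [CharP K 2] [Finite K] [Par m K], P m K

def JobQM : Prop := AllY fun m K _ _ _ _ => QM m K
def JobR0 : Prop := AllY fun m K _ _ _ _ => R0 m K
def JobNP : Prop := AllY fun m K _ _ _ _ => NP m K
def JobRN : Prop := AllY fun m K _ _ _ _ => R0 m K → RN (r0 m K) (Z0 m K)
def JobQN : Prop := AllY fun m K _ _ _ _ => QN m K
def JobRA : Prop := AllY fun m K _ _ _ _ => R0 m K → NP m K → QN m K →
  RA (ta m K) (Z0 m K) (Q0 m K) (PU (ta m K) (Z0 m K))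
def JobHB : Prop := AllY fun m K _ _ _ _ => R0 m K → HB m K
def JobH1 : Prop := AllY fun m K _ _ _ _ => H1 m K
def JobHA : Prop := AllY fun m K _ _ _ _ => R0 m K → H1 m K → HA m K
def JobPT : Prop := AllY fun m K _ _ _ _ => R0 m K → PT m K
def JobSD : Prop := AllY fun m K _ _ _ _ => SD m K
def JobS0 : Prop := AllY fun m K _ _ _ _ => SD m K → S0 m K
def JobS1 : Prop := AllY fun m K _ _ _ _ => R0 m K → SD m K → S1 m K
def JobBI : Prop := AllY fun m K _ _ _ _ => BI m K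
def JobNU : Prop := JobNA → AllY fun m K _ _ _ _ => NA (XU m K)
def JobCL : Prop := AllY fun m K _ _ _ _ => CL m K
def JobI1 : Prop := AllY fun m K _ _ _ _ => Odd m → I1 m K

section X

variable (n : ℕ) {F : Type} [Field F] [StarRing F] [TrivialStar F] [CharP F 2] [Finite F]
  {K : Type} [Field K] [StarRing K] [CharP K 2] [Finite K] (x : Qx F K) (h : ∀ a : K, star a = x.σ a)

theorem tU_eq : tU n x h = ta n K :=
  MulEquiv.ext fun _ => X_ext (Matrix.ext fun _ _ => (h _).symm)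

include h in
theorem hfK : Hf K := ⟨by
  by_contra hn
  push Not at hn
  have hs : Function.Surjective x.φ := fun a => (x.fix a).1 ((h a).symm.trans (hn a))
  have := Nat.card_le_card_of_surjective _ hs
  have h2 : 1 < Nat.card F := Finite.one_lt_card
  rw [x.card] at this
  nlinarith⟩

include h in
theorem qK_eq : qK K = Nat.card F :=
  have := hfK x h
  Nat.pow_left_injective two_ne_zero (Q.card.symm.trans x.card)

include h in
theorem par0 [p : SP.Par n F] : Par n K :=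
  { hfK x h with five := p.five, four := fun e => qK_eq x h ▸ p.four e }

include h in
theorem par1 [p : SP.Par n F] : Par (n + 1) K :=
  { hfK x h with five := p.five.trans n.le_succ, four := fun e => by have := p.five; omega }

/-- `X ≤ SU_(2k)(q)` -/
structure F0 : Prop where
  inj : ∀ m, Function.Injective (iU m x h)
  fix : ∀ m y, ta m K y = y ↔ y ∈ (iU m x h).range
  ac : ∀ m g v, ac (iU m x h g) (vx x.φ v) = vx x.φ (ac g v)
  hv : ∀ m (u v : Vn m F), hf (vx x.φ u) (vx x.φ v) = x.φ (hf u v)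
  ee : ∀ m (u y : Vn m F) c, Ok u y c → iU m x h (EE u y c) = EE (vx x.φ u) (vx x.φ y) (x.φ c)
  ve : ∀ m i, vx x.φ (ev i : Vn m F) = ev i
  bv : ∀ m (v : Vn m F), br (vx x.φ v) = vx x.φ v

/-- `X ≤ SU_(2k+1)(q)` -/
structure F1 : Prop where
  sq : ∀ g, iV n x h g = ins n K (iU n x h g)
  fix : ∀ y, ta (n + 1) K y = y ↔ y ∈ (iV n x h).range

def G0 : Prop := ∀ η : K, tr η = 1 → ∀ H, (iU n x h).range ≤ H → qq (η • ev 1) (ev 0) ∈ H → H = ⊤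
def G1 : Prop := ∀ η : K, tr η = 1 → ∀ H, (iV n x h).range ≤ H → EE (ev 0) (ev (mid n)) η ∈ H →
  H = ⊤

variable (F) in
/-- Normal form of the involutions of `X`. -/
def DC : Prop := ∀ u : XU n F, u * u = 1 → ∃ g u' v, u = g * (u' * TT v) * g⁻¹ ∧
  (∀ w, Wk (kk n) (ac u' w + w)) ∧ Alt u' ∧ Wk (kk n) v ∧ (Alt u ↔ v = 0)

def AL : Prop := ∀ u : XU n F, (∀ w, Wk (kk n) (ac u w + w)) → Alt u →
  ∃ g : XU n K, (∀ w, Wk (kk n) (ac g w + w)) ∧ iU n x h u = g * (ta n K g)⁻¹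

structure GC : Prop where
  g0 : ∀ u, u * u = 1 → Alt u → ∃ g, iU n x h u = g * (ta n K g)⁻¹
  na : NAl (iU n x h) (ta n K)
  g1 : ∀ u, u * u = 1 → ∃ g, iV n x h u = g * (ta (n + 1) K g)⁻¹

end X

def JobF0 : Prop := AllU fun _ _ _ _ _ _ _ _ _ _ _ _ x h => F0 x h
def JobF1 : Prop := AllU fun n _ _ _ _ _ _ K _ _ _ _ x h => F0 x h → I1 n K → F1 n x h
def JobG0 : Prop := AllU fun n _ _ _ _ _ _ _ _ _ _ _ x h => F0 x h → G0 n x h
def JobG1 : Prop := AllU fun n _ _ _ _ _ _ K _ _ _ _ x h => F0 x h → I1 n K → F1 n x h →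
  G0 n x h → G1 n x h
def JobDC : Prop := AllM fun n F _ _ _ _ _ => DC n F
def JobAL : Prop := AllU fun n _ _ _ _ _ _ _ _ _ _ _ x h => F0 x h → AL n x h
def JobGC : Prop := AllU fun n F _ _ _ _ _ K _ _ _ _ x h => F0 x h → I1 n K → F1 n x h → DC n F →
  AL n x h → GC n x h

end H78.YU
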