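import Cfsg.Agent.H78.F22J0
import Cfsg.Agent.H12.Basic

/-! Chapter F22 of `blueprints/PS3B.md`, job K: the `3`-local facts on `C(r 0)`. -/

set_option autoImplicit false
set_option linter.unusedSectionVars false
set_option maxRecDepth 100000
set_option synthInstance.maxSize 2048

open Cfsg Subgroup H98 H42.L3 H7.PS H39.F22
open H56.L3 (Ce Nz)
open H28.PS (SL3 Zt)
open H84.PS (V2)
open scoped Matrix

namespace H78.F22

universe u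

theorem sl_tw : ∀ A T : SL3, A ^ 4 = 1 → T ^ 4 ≠ 1 → T ^ 3 = 1 →
    T * (T * A * T⁻¹) * T⁻¹ * (T * A * T⁻¹)⁻¹ = A ∨ T * (T * A * T⁻¹) * T⁻¹ * (T * A * T⁻¹)⁻¹ = -A := by
  decide +kernel

theorem sl_ij : ∃ I J : SL3, I ^ 4 = 1 ∧ J ^ 4 = 1 ∧ I * J * I⁻¹ * J⁻¹ = -1 := by decide +kernel

theorem sl_nu : ∀ (T : SL3) (X C v : V2), T ^ 3 = 1 → T.1 *ᵥ C = C → T.1 *ᵥ X + T.1 *ᵥ C = X →
    X 0 * C 1 - X 1 * C 0 ≠ 0 → (T.1 *ᵥ v + -v) 0 * C 1 - (T.1 *ᵥ v + -v) 1 * C 0 = 0 ∧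
    (v 0 * (T.1 *ᵥ v + -v) 1 - v 1 * (T.1 *ᵥ v + -v) 0 = 0 ∧ v 0 * C 1 - v 1 * C 0 = 0 ∨
     v 0 * (T.1 *ᵥ v + -v) 1 - v 1 * (T.1 *ᵥ v + -v) 0 = -(X 0 * C 1 - X 1 * C 0)) := by
  decide +kernel

variable {G : Type*} [Group G] {D : D3 G} {a b d g k p q s t u w y π : G} {i j : Fin 3}
  {c r x : Fin 3 → G} {α : Fin 3 → ZMod 3} {ε : ZMod 3} {X J : Subgroup G}

theorem nu_one {ζ : G} (e1 : t * q * t⁻¹ = u * q) (e2 : t * u * t⁻¹ = u) (e3 : q * u * q⁻¹ = ζ * u)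
    (c1 : Commute ζ q) (c2 : Commute ζ u) (h1 : (q * t) ^ 3 = 1) (h2 : t ^ 3 = 1) (h3 : q ^ 3 = 1)
    (h4 : u ^ 3 = 1) (h5 : ζ ^ 3 = 1) : ζ = 1 := by
  have e4 : q * u = ζ * (u * q) := by rw [← mul_assoc, ← e3]; group
  have e5 : ∀ y, q * (u * y) = ζ * (u * (q * y)) := fun y => by
    rw [← mul_assoc, e4, mul_assoc, mul_assoc]
  have e6 : ∀ y, q * (ζ * y) = ζ * (q * y) := fun y => c1.symm.left_comm y
  have e7 : ∀ y, u * (ζ * y) = ζ * (u * y) := fun y => c2.symm.left_comm y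
  have h6 : (q * t) ^ 3 = q * (t * q * t⁻¹) * (t * (t * q * t⁻¹) * t⁻¹) * t ^ 3 := by
    simp only [pow_three']; group
  rw [h1, h2, e1, ← conj_mul, e1, e2] at h6
  simp only [mul_assoc, e5, e6, e7, mul_one] at h6
  have h7 : ζ ^ 3 * (ζ * ζ) * u ^ 3 * q ^ 3 = 1 := by rw [h6]; simp only [pow_three, mul_assoc]
  rw [h5, h4, h3, one_mul, mul_one, mul_one] at h7
  rwa [pow_three', h7, one_mul] at h5

theorem OO_le : OO d ≤ Ce d := (closure_le _).2 fun _ e => e.1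

theorem mem_OO (hk : k ∈ Ce d) (e : k ^ 3 = 1) : k ∈ OO d := subset_closure ⟨hk, e⟩

theorem OO_conj (hg : g ∈ Ce d) (hy : y ∈ OO d) : g * y * g⁻¹ ∈ OO d := by
  have : OO d ≤ cj g⁻¹ (OO d) := (closure_le _).2 fun k e => mem_cj.2 (by
    rw [inv_inv]
    exact mem_OO (mul_mem (mul_mem hg e.1) (inv_mem hg)) (by rw [conj_pow, e.2]; simp))
  simpa using mem_cj.1 (this hy)

/-- the clause `onto` of `HV` -/
def Onto (D : D3 G) : Prop := ∀ i j, i ≠ j → ∀ A A' : SL3, A ^ 4 = 1 → A' ^ 4 = 1 →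
  ∃ p, D.P p ∧ D.m i p = A ∧ D.m j p = A'

variable [Finite G]

/-- the elements of `P` that commute with the three involutions -/
def NN (h : H3 D) (r : Fin 3 → G) : Subgroup G where
  carrier := {p | D.P p ∧ ∀ i, p ∈ Ce (r i)}
  one_mem' := ⟨Q_P h (one_mem _), fun _ => one_mem _⟩
  mul_mem' ha hb := ⟨P_mul h ha.1 hb.1, fun i => mul_mem (ha.2 i) (hb.2 i)⟩
  inv_mem' ha := ⟨P_inv h ha.1, fun i => inv_mem (ha.2 i)⟩

section

variable (h : H3 D) (ty : ∀ i, Ty D i (r i))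
include h ty

theorem zN : zpowers D.z ≤ NN h r :=
  zpowers_le.2 ⟨Q_P h (zQ h (mem_zpowers _)), fun i => Ce_symm (Bz (ty i).B)⟩

theorem rN (i : Fin 3) : r i ∈ NN h r := by
  refine ⟨⟨(ty i).B, fun j => ?_⟩, fun j => mem_Ce.2 ?_⟩
  · rcases (ty i).m h j with e | e <;> rw [e] <;> decide +kernel
  · by_cases e : i = j
    exacts [by rw [e], (ty i).comm h (ty j) e]

theorem Nz1 (hp : p ∈ NN h r) (e : ∀ i, D.m i p = 1) : p ∈ zpowers D.z :=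
  cnQ h fun i => (ty i).fix h (h.ker p hp.1.1 e) (hp.2 i)

theorem onN (hp : D.P p) : ∃ p' ∈ NN h r, ∀ i, D.m i p' = D.m i p := by
  obtain ⟨u, hu, e⟩ := corr h ty (Bz hp.1)
  exact ⟨u * p, ⟨P_mul h (Q_P h hu) hp, fun i => mem_Ce'.2 (by rw [e, sg_B h hp.1]; rfl)⟩,
    fun i => by rw [m_mul h (QB h hu) hp.1, mQ h hu, one_mul]⟩

theorem NT (hz : D.z ∈ X) (hr : ∀ i, r i ∈ X) (hp : p ∈ NN h r)
    (e : ∀ i, D.m i p = 1 ∨ D.m i p = -1) : p ∈ X := by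
  have h1 : ∀ i, ∃ s ∈ NN h r, s ∈ X ∧ D.m i s = D.m i p ∧ ∀ j, j ≠ i → D.m j s = 1 := fun i => by
    rcases e i with e | e
    · exact ⟨1, one_mem _, one_mem _, by rw [e, (co h i).m_one], fun j _ => (co h j).m_one⟩
    · exact ⟨r i, rN h ty i, hr i, by rw [e, (ty i).neg], (ty i).one⟩
  choose s hs hX e1 e2 using h1
  have h2 := mul_mem (mul_mem (hs 0) (hs 1)) (hs 2)
  refine inv_mem_iff.1 ((mul_mem_cancel_right (mul_mem (mul_mem (hX 0) (hX 1)) (hX 2))).1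
    (zpowers_le.2 hz (Nz1 h ty (mul_mem (inv_mem hp) h2) fun i => ?_)))
  rw [m_mul h (inv_mem hp.1.1) h2.1.1, m_inv h hp.1.1, inv_mul_eq_one,
    m_mul h (mul_mem (hs 0).1.1 (hs 1).1.1) (hs 2).1.1, m_mul h (hs 0).1.1 (hs 1).1.1]
  rcases f3 i with rfl | rfl | rfl
  · rw [e1, e2 1 0 (by decide), e2 2 0 (by decide), mul_one, mul_one]
  · rw [e1, e2 0 1 (by decide), e2 2 1 (by decide), mul_one, one_mul]
  · rw [e1, e2 0 2 (by decide), e2 1 2 (by decide), mul_one, one_mul]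

theorem exR : ∃ R ≤ NN h r, (∀ p ∈ R, p ^ 4 = 1) ∧
    ∀ p ∈ NN h r, ∃ u ∈ zpowers D.z, ∃ p' ∈ R, p = u * p' := by
  have h4 : ∀ p ∈ NN h r, p ^ 4 ∈ zpowers D.z := fun p hp =>
    Nz1 h ty (pow_mem hp 4) fun i => by rw [m_pow h hp.1.1, hp.1.2]
  have : ((zpowers D.z).subgroupOf (NN h r)).Normal :=
    (normal_subgroupOf_iff_le_normalizer (zN h ty)).2 fun _ e => CeN (Bz e.1.1)
  obtain ⟨n, hn⟩ := IsPGroup.iff_card.1 (show IsPGroup 2 (NN h r ⧸ (zpowers D.z).subgroupOf (NN h r))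
    from fun q => QuotientGroup.induction_on q fun p => ⟨2, by
      rw [← QuotientGroup.mk_pow, QuotientGroup.eq_one_iff]; exact h4 p p.2⟩)
  obtain ⟨H, hH⟩ := exists_right_complement'_of_coprime (N := (zpowers D.z).subgroupOf (NN h r)) (by
    rw [index_eq_card, hn, Nat.card_congr (subgroupOfEquivOfLe (zN h ty)).toEquiv, Nat.card_zpowers,
      h.ord]
    exact Nat.Coprime.pow_right _ (by decide))
  refine ⟨H.map (NN h r).subtype, map_subtype_le _, ?_, fun p hp => ?_⟩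
  · rintro _ ⟨p, hp, rfl⟩
    exact congrArg Subtype.val (disjoint_def.1 hH.disjoint (x := p ^ 4) (h4 p p.2) (pow_mem hp 4))
  · obtain ⟨⟨u, p'⟩, e, -⟩ := hH.existsUnique ⟨p, hp⟩
    exact ⟨u, u.2, p', ⟨_, p'.2, rfl⟩, (congrArg Subtype.val e).symm⟩

theorem sw0 (hg : g ∈ Nz D.z) (hg' : g ∈ Ce (r 0)) : sg D g 0 = 0 := by
  have h1 : ∀ j, j ≠ 0 → sg D g j ≠ 0 := fun j e e1 => neg_ne ((ty 0).neg.symm.trans ((co h 0).m_cn (by
    have := sg_cn h hg ((ty 0).cn h e)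
    rwa [e1, mem_Ce'.1 hg'] at this)))
  obtain ⟨j, e⟩ := (sg D g).surjective 0
  by_contra n
  exact h1 j (fun e1 => n (e1 ▸ e)) e

theorem Q12 : y ∈ D.Q 1 ⊔ D.Q 2 ↔ y ∈ D.QQ ∧ y ∈ Ce (r 0) := by
  refine ⟨fun e => ⟨sup_le (Qle 1) (Qle 2) e, (sup_le (fun a ha => mem_Ce.2 ((ty 0).cn h (by decide) a ha))
    fun a ha => mem_Ce.2 ((ty 0).cn h (by decide) a ha) : _ ≤ Ce (r 0)) e⟩, fun ⟨e, e'⟩ => ?_⟩
  have h1 := (ty 0).fix h e e'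
  obtain ⟨q, hq, rfl⟩ := (memQ h).1 e
  refine mul_mem (mul_mem (mem_sup_left ((co h 1).zle ((co h 0).center (hq 0) (inv_mem_iff.1
    ((mul_mem_cancel_right h1).1 (comp h hq 0)))))) (mem_sup_left (hq 1))) (mem_sup_right (hq 2))

end

section

variable (h : H3 D) (v : HV0 D) (H : HJ3 D t c r x π k ε J)
include h H

theorem jty (i : Fin 3) : Ty D i (r i) := ⟨H.rB i, H.rsq i, H.rm i, H.rm' i⟩

theorem jtf : Tf D t c := ⟨H.cQ, Bz H.tB, H.t3, H.tc⟩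

theorem jnQ : t ∉ D.QQ := fun e => H.tm 0 (by rw [mQ h e, one_pow])

theorem jfr : Fr D c r := ⟨jty h H, H.cQ, H.cz, H.rcr, fun α e => by
  have := (H.zset 0 0 α).2 ⟨fun e1 => e 0 (congrFun (H.el_inj _ _ _ e1).2.2 0), by
    rw [mul_zero, add_zero]; revert α; decide +kernel⟩
  rwa [el_eq, zp_zero, zp_zero, one_mul, one_mul] at this⟩

theorem QO (hy : y ∈ D.QQ) (e : y ∈ Ce (r 0)) : y ∈ OO (r 0) := mem_OO e (cubeQ h hy)

theorem QiO (e : i ≠ 0) (hy : y ∈ D.Q i) : y ∈ OO (r 0) :=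
  QO h H (Qle i hy) (mem_Ce.2 (H.rc 0 i e y hy))

theorem zO : D.z ∈ OO (r 0) := QiO h H (i := 1) (by decide) (h.sd 1).zmem

theorem tO : t ∈ OO (r 0) := mem_OO (mem_Ce.2 (H.tr 0)) H.t3

theorem twO (hp : p ∈ NN h r) :
    ∃ o ∈ NN h r, o ∈ OO (r 0) ∧ ∀ i, D.m i o = D.m i p ∨ D.m i o = -D.m i p := by
  have h1 : ∀ p ∈ NN h r, t * p * t⁻¹ ∈ NN h r := fun p hp => ⟨P_conj h H.tB hp.1, fun i =>
    mul_mem (mul_mem (mem_Ce.2 (H.tr i)) (hp.2 i)) (inv_mem (mem_Ce.2 (H.tr i)))⟩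
  have h2 := h1 p hp
  refine ⟨t * (t * p * t⁻¹) * t⁻¹ * (t * p * t⁻¹)⁻¹, mul_mem (h1 _ h2) (inv_mem h2), ?_, fun i => ?_⟩
  · rw [mul_assoc, mul_assoc, ← mul_assoc (t * p * t⁻¹)]
    exact mul_mem (tO h H) (OO_conj (h2.2 0) (inv_mem (tO h H)))
  · rw [m_mul h (h1 _ h2).1.1 (inv_mem h2.1.1), m_inv h h2.1.1, m_conj h H.tB h2.1.1,
      m_conj h H.tB hp.1.1]
    exact sl_tw _ _ (hp.1.2 i) (H.tm i) (m3 h H.tB H.t3 i)

theorem rder (o : Onto D) (i : Fin 3) : r i ∈ ⁅OO (r 0), OO (r 0)⁆ := by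
  obtain ⟨I, I', h1, h2, h3⟩ := sl_ij
  obtain ⟨j, l, e1, e2, e3⟩ := (by decide : ∀ i : Fin 3, ∃ j l, i ≠ j ∧ i ≠ l ∧
    ∀ n, n = i ∨ n = j ∨ n = l) i
  have h4 : ∀ j, i ≠ j → ∀ A : SL3, A ^ 4 = 1 → ∃ a ∈ NN h r, a ∈ OO (r 0) ∧
      (D.m i a = A ∨ D.m i a = -A) ∧ (D.m j a = 1 ∨ D.m j a = -1) := fun j e A hA => by
    obtain ⟨p, hp, e1, e2⟩ := o i j e A 1 hA (one_pow 4)
    obtain ⟨p', hp', e3⟩ := onN h (jty h H) hp
    obtain ⟨a, ha, ha', e4⟩ := twO h H hp'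
    exact ⟨a, ha, ha', e1 ▸ e3 i ▸ e4 i, e2 ▸ e3 j ▸ e4 j⟩
  obtain ⟨a, ha, ha', a1, a2⟩ := h4 j e1 I h1
  obtain ⟨b, hb, hb', b1, b2⟩ := h4 l e2 I' h2
  have h5 := mul_mem (mul_mem (mul_mem ha hb) (inv_mem ha)) (inv_mem hb)
  have h6 := Nz1 h (jty h H) (mul_mem h5 (rN h (jty h H) i)) fun n => by
    rw [m_mul h h5.1.1 (H.rB i), m_mul h (mul_mem (mul_mem ha hb) (inv_mem ha)).1.1 (inv_mem hb.1.1),
      m_conj h ha.1.1 hb.1.1, m_inv h hb.1.1]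
    rcases e3 n with rfl | rfl | rfl
    · rcases a1 with e | e <;> rcases b1 with e' | e' <;> simp [e, e', h3, H.rm]
    · rcases a2 with e | e <;> simp [e, H.rm' i n e1.symm]
    · rcases b2 with e | e <;> simp [e, H.rm' i n e2.symm]
  have h7 := cube_of_mem h.ord h6
  rw [(show Commute _ _ from mem_Ce.1 (h5.2 i)).mul_pow, pow_three (r i), H.rsq, mul_one,
    mul_eq_one_iff_inv_eq] at h7
  exact h7 ▸ inv_mem (pow_mem (commutator_mem_commutator ha' hb') 3)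

theorem NO (o : Onto D) : NN h r ≤ OO (r 0) := fun p hp => by
  obtain ⟨a, ha, ha', e⟩ := twO h H hp
  refine inv_mem_iff.1 ((mul_mem_cancel_right ha').1 (NT h (jty h H) (zO h H)
    (fun i => comm_le _ (rder h H o i)) (mul_mem (inv_mem hp) ha) fun i => ?_))
  rw [m_mul h (inv_mem hp.1.1) ha.1.1, m_inv h hp.1.1]
  exact (e i).imp (fun e => by simp [e]) fun e => by simp [e]

theorem orbO {a : ZMod 3} (ha : a ≠ 0) {b : ZMod 3} (e0 : α 0 = 0) (e : Zt D.z (el D.z t c a b α)) :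
    ∃ k ∈ OO (r 0), k * el D.z t c a b α * k⁻¹ = zp t a := by
  obtain ⟨k, hk, e1⟩ := orb (X := OO (r 0)) (α := α) h (jtf h H) H.xQ H.xt H.xc ha b fun i n =>
    QiO h H (fun e => n (e ▸ e0)) (H.xQ i)
  refine ⟨k, hk, ?_⟩
  rw [e1, (by decide : ∀ ε a b s : ZMod 3, ε = 1 ∨ ε = -1 → a ≠ 0 → s + ε * a * b = 0 →
    b + ε * a * s = 0) _ _ _ _ H.eps ha ((H.zset _ _ _).1 e).2, el_eq, zp_zero, cc_zero, mul_one, mul_one]

theorem memS : y ∈ D.Q 1 ⊔ D.Q 2 ⊔ zpowers t ↔ ∃ q ∈ D.Q 1 ⊔ D.Q 2, ∃ n, y = q * zp t n := by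
  rw [mem_sup_right_norm (zpowers_le.2 (le_normalizer_sup (H := D.B) (fun _ e => (BN e 1).2)
    (fun _ e => (BN e 2).2) H.tB))]
  refine exists_congr fun q => and_congr_right' ⟨fun ⟨a, ha, e⟩ => ?_, fun ⟨n, e⟩ => ⟨_, zp_mem n, e⟩⟩
  obtain ⟨n, rfl⟩ := exists_zp (H.hz ▸ (H3.dc h k).ord) ha
  exact ⟨n, e⟩

theorem sylz (hy : y ∈ D.Q 1 ⊔ D.Q 2 ⊔ zpowers t) (e : y ∈ cn (D.Q 1 ⊔ D.Q 2 ⊔ zpowers t)) :
    y ∈ zpowers D.z := by
  obtain ⟨q, hq, n, rfl⟩ := (memS h H).1 hy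
  obtain ⟨h1, h2⟩ := (Q12 h (jty h H)).1 hq
  have h3 := centralizer_anti (le_sup_left.trans le_sup_left) e
  have h4 := (co h 1).m_cn h3
  rw [m_mul h (QB h h1) (zp_mem' H.tB n), mQ h h1, one_mul, zp, m_pow h H.tB] at h4
  have h5 := congrArg chi h4
  rw [chi_pow, ZMod.natCast_zmod_val, (chi_eq 1).2 (one_pow 4), mul_eq_zero] at h5
  obtain rfl := h5.resolve_right (mt (chi_eq _).1 (H.tm 1))
  rw [zp_zero, mul_one] at *
  refine cnQ h fun i => ?_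
  rcases f3 i with rfl | rfl | rfl
  exacts [(jty h H 0).fix h h1 h2, h3, centralizer_anti (le_sup_right.trans le_sup_left) e]

theorem sylc : Nat.card ↥(D.Q 1 ⊔ D.Q 2 ⊔ zpowers t) = 729 := by
  have ot : orderOf t = 3 := H.hz ▸ (H3.dc h k).ord
  have h1 := H12.card_sup_mul_card_inf ((h.QQ 1 2 (by decide)).trans (centralizer_le_normalizer _))
  rw [le_antisymm (fun _ e => infQ h (by decide) e.1 e.2) (le_inf (co h 1).zle (co h 2).zle :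
    zpowers D.z ≤ D.Q 1 ⊓ D.Q 2), Nat.card_zpowers, h.ord, (co h 1).card, (co h 2).card] at h1
  have h2 := H12.card_sup_mul_card_inf (zpowers_le.2 (le_normalizer_sup (H := D.B)
    (fun _ e => (BN e 1).2) (fun _ e => (BN e 2).2) H.tB))
  have h3 : zpowers t ⊓ (D.Q 1 ⊔ D.Q 2) = ⊥ :=
    eq_bot_iff.2 fun _ e => zpow_inf ot (jnQ h H) e.1 (sup_le (Qle 1) (Qle 2) e.2)
  rw [h3, card_bot, Nat.card_zpowers, ot, sup_comm] at h2
  omega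

theorem SO : D.Q 1 ⊔ D.Q 2 ⊔ zpowers t ≤ OO (r 0) :=
  sup_le (sup_le (fun _ => QiO h H (by decide)) fun _ => QiO h H (by decide)) (zpowers_le.2 (tO h H))

theorem SJ (hq : q ∈ D.Q 1 ⊔ D.Q 2) (e : (q * t) ^ 3 = 1) : q * t ∈ J := by
  have key : ∀ i, ∀ a ∈ D.Q i, ∃ u ∈ D.Q i, ∃ ν, t * a * t⁻¹ = u * a ∧ t * u * t⁻¹ = u ∧
      a * u * a⁻¹ = zp D.z ν * u ∧ (ν = 0 ∧ a * c i = c i * a ∨ ν = -ε) := fun i a ha => by
    have C := co h i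
    have tN := BN H.tB i
    have hu := mul_mem (C.conj_mem tN ha) (inv_mem ha)
    have h1 : ε = D.l i (x i) 0 * D.l i (c i) 1 - D.l i (x i) 1 * D.l i (c i) 0 :=
      zp_inj h.ord (mul_right_cancel ((zp_comm (C.le_Ce (H.cQ i)) ε).symm.trans
        ((H.xc i).symm.trans (C.conj_eq (H.xQ i) (H.cQ i)))))
    have h2 : x i = t * c i * t⁻¹ * zp D.z (-ε) * (t * x i * t⁻¹) := by
      rw [← zp_conj tN.1, conj_mul]
      calc _ = x i * t * (x i)⁻¹ * x i * t⁻¹ := by group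
        _ = _ := by rw [H.xt, H.tc]; simp only [zp]; rw [← H.tc]; group
    have h3 := congrArg (D.l i) h2
    rw [C.l_mul _ (mul_mem (C.conj_mem tN (H.cQ i)) (C.zp_mem _)) _ (C.conj_mem tN (H.xQ i)),
      C.l_mul _ (C.conj_mem tN (H.cQ i)) _ (C.zp_mem _), C.l_zp, add_zero, C.act _ tN _ (H.cQ i),
      C.act _ tN _ (H.xQ i), add_comm] at h3
    obtain ⟨h4, h5⟩ := sl_nu _ _ _ (D.l i a) (m3 h H.tB H.t3 i)
      (H84.PS.fix_of_comm C tN (H.cQ i) (H.tc i).symm) h3.symm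
      (h1 ▸ by rcases H.eps with e | e <;> rw [e] <;> decide)
    rw [← C.l_inv ha, ← C.act _ tN _ ha, ← C.l_mul _ (C.conj_mem tN ha) _ (inv_mem ha)] at h4 h5
    refine ⟨_, hu, _, by group, mem_Ce'.1 (Ce_symm (par_Ce h hu (H.cQ i) (H.cz i)
      ((C.comm_iff hu (H.cQ i)).2 h4) tN.1 (mem_Ce.2 (H.tc i).symm))), C.conj_eq ha hu, ?_⟩
    exact h5.imp (And.imp_right (C.comm_iff ha (H.cQ i)).2) fun e => by rw [e, h1]
  obtain ⟨a, ha, b, hb, rfl⟩ := (mem_sup_left_norm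
    ((h.QQ 1 2 (by decide)).trans (centralizer_le_normalizer _))).1 hq
  obtain ⟨u, hu, ν, a1, a2, a3, a4⟩ := key 1 a ha
  obtain ⟨w, hw, μ, b1, b2, b3, b4⟩ := key 2 b hb
  have cm : ∀ a ∈ D.Q 1, ∀ b ∈ D.Q 2, Commute a b := fun a ha b hb => QQc h (by decide) ha hb
  have m12 : ∀ a ∈ D.Q 1, ∀ b ∈ D.Q 2, a * b ∈ D.QQ := fun a ha b hb => mul_mem (Qle 1 ha) (Qle 2 hb)
  have zc := fun y (e : y ∈ D.QQ) n => zp_comm (Bz (QB h e)) n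
  have h1 := zp_eq_one h.ord (nu_one (u := u * w) (ζ := zp D.z (ν + μ))
    (by rw [← conj_mul, a1, b1, (cm a ha w hw).mul_mul_mul_comm]) (by rw [← conj_mul, a2, b2])
    (by
      calc _ = a * u * a⁻¹ * (a * (b * w * b⁻¹) * a⁻¹) := by
            rw [← (cm u hu b hb).mul_mul_mul_comm]; group
        _ = _ := by
            rw [a3, (cm a ha _ (mul_mem (mul_mem hb hw) (inv_mem hb))).eq, mul_inv_cancel_right, b3,
              zp_add h.ord, (show Commute _ _ from zc u (Qle 1 hu) μ).mul_mul_mul_comm])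
    (zc _ (m12 a ha b hb) _).symm (zc _ (m12 u hu w hw) _).symm e H.t3 (cubeQ h (m12 a ha b hb))
    (cubeQ h (m12 u hu w hw)) (cube_of_mem h.ord (zp_mem _)))
  have h2 : a * c 1 = c 1 * a ∧ b * c 2 = c 2 * b := by
    rcases a4 with ⟨rfl, a4⟩ | rfl <;> rcases b4 with ⟨rfl, b4⟩ | rfl
    · exact ⟨a4, b4⟩
    all_goals rcases H.eps with e | e <;> rw [e] at h1 <;> exact absurd h1 (by decide)
  rw [H.Jeq]
  refine mem_JJ.2 ⟨mul_mem (Bz (QB h (m12 a ha b hb))) (Bz H.tB), fun i =>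
    mul_mem (mul_mem (mem_Ce.2 ?_) (mem_Ce.2 ?_)) (mem_Ce.2 (H.tc i))⟩
  · by_cases e : 1 = i
    exacts [e ▸ h2.1, QQc h e ha (H.cQ i)]
  · by_cases e : 2 = i
    exacts [e ▸ h2.2, QQc h e hb (H.cQ i)]

include v

theorem bsP (hg : g ∈ D.B) : ∃ n : ℕ, D.P (g * t ^ n) :=
  ((hw_of0 h v).bs t H.tB fun e => H.tm 0 (e.2 0)).2 g hg

theorem kbo (o : Onto D) : D.B ⊓ Ce (r 0) ≤ OO (r 0) := fun g hg0 => by
  obtain ⟨hg, hg'⟩ := mem_inf.1 hg0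
  obtain ⟨n, e⟩ := bsP h v H hg
  obtain ⟨p, hp, e1⟩ := onN h (jty h H) e
  refine (mul_mem_cancel_right (pow_mem (tO h H) n)).1 ((mul_mem_cancel_left (inv_mem (NO h H o hp))).1
    (QO h H (h.ker _ (mul_mem (inv_mem hp.1.1) e.1) fun i => ?_)
      (mul_mem (inv_mem (hp.2 0)) (mul_mem hg' (pow_mem (OO_le (tO h H)) n)))))
  rw [m_mul h (inv_mem hp.1.1) e.1, m_inv h hp.1.1, e1, inv_mul_cancel]

theorem syl : IsSyl 3 (D.Q 1 ⊔ D.Q 2 ⊔ zpowers t) (Ce (r 0)) := by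
  have : Fact (Nat.Prime 3) := ⟨Nat.prime_three⟩
  refine isSyl_of_isSyl_normalizer ⟨le_inf ((SO h H).trans OO_le) le_normalizer,
    IsPGroup.of_card (n := 6) (sylc h H), fun T hT h1 h2 => le_antisymm (fun g hg => ?_) h1⟩
  have h3 : ∀ g ∈ T, ∃ n, g ^ 3 ^ n = 1 := fun g hg =>
    (hT ⟨g, hg⟩).imp fun _ e => congrArg Subtype.val e
  have zS : D.z ∈ D.Q 1 ⊔ D.Q 2 ⊔ zpowers t := mem_sup_left (mem_sup_left (h.sd 1).zmem)
  have h4 : g ∈ Nz D.z := mem_Nz.2 (sylz h H (conj_mem_of_mem_normalizer (h2 hg).2 zS)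
    (conj_cn' (h2 hg).2 fun y e => mem_Ce.1 (sup_le (sup_le (co h 1).le_Ce (co h 2).le_Ce)
      (zpowers_le.2 (Bz H.tB)) e)))
  have h5 : g * g ∈ D.B := B_of h (mem_Ce'.2 (by
    rw [show g * g * D.z * (g * g)⁻¹ = g * (g * D.z * g⁻¹) * g⁻¹ by group]
    rcases mem_cases h.ord (mem_Nz.1 h4) with e | e | e
    · exact (Zt_ne h (Zt_conj g) e).elim
    · rw [e, e]
    · rw [e, ← conj_inv, e, inv_inv])) (by
    rw [sg_mul h h4 h4]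
    exact (by decide +kernel : ∀ σ : Equiv.Perm (Fin 3), σ 0 = 0 → σ * σ = 1) _
      (sw0 h (jty h H) h4 (h2 hg).1))
  have h6 : g ∈ D.B := by
    obtain ⟨n, e⟩ := h3 g hg
    obtain ⟨m, hm⟩ : Even (3 ^ n + 1) := (Odd.pow (by decide)).add_one
    have := pow_mem h5 m
    rwa [← pow_two, ← pow_mul, two_mul, ← hm, pow_succ, e, one_mul] at this
  obtain ⟨n, e⟩ := bsP h v H h6
  have tS : t ^ n ∈ D.Q 1 ⊔ D.Q 2 ⊔ zpowers t := pow_mem (mem_sup_right (mem_zpowers t)) n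
  have h7 := mul_mem hg (h1 tS)
  obtain ⟨l, e1⟩ := h3 _ h7
  exact (mul_mem_cancel_right tS).1 (mem_sup_left ((Q12 h (jty h H)).2 ⟨h.ker _ e.1 fun i =>
    (sl_q8 _ (e.2 i)).1 (H84.PS.m3 (co h i) (BN e.1 i) e1), (h2 h7).1⟩))

theorem tpm (a : ZMod 3) (ha : a ≠ 0) : ∃ k ∈ OO (r 0), k * D.z * k⁻¹ = zp t a := by
  have T := jtf h H
  have ht := H.hz
  obtain ⟨n', zB, τ, hτ⟩ := key0 h v (jfr h H) ht (jnQ h H) (Ce_symm T.tz)
    (fun i => mem_Ce.2 (T.tc i).symm) fun i => mem_Ce.2 (H.tr i).symm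
  have h' := H3.dc h k
  have m4 := (((hw_of0 h v).dc k).bs _ zB fun e => n' (P_Q h' e (z_cube h.ord))).1
  have h1 : ∀ i, i ≠ 0 → ∃ q ∈ (dc D k).Q (τ i), q ∈ OO (r 0) ∧
      ∃ n, q * D.z * q⁻¹ = el D.z t c n 1 (Pi.single i 1) := fun i e => by
    have zc := mem_Ce.1 ((co h i).le_Ce (H.cQ i))
    obtain ⟨q, hq, n, e1⟩ := H84.PS.cov (co h' (τ i)) (BN zB _) (m3 h' zB (z_cube h.ord) _)
      (fun e => m4 (τ i) (by rw [e, one_pow])) (hτ i).1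
      (H84.PS.fix_of_comm (co h' _) (BN zB _) (hτ i).1 zc)
    refine ⟨q, hq, mem_OO (mem_Ce.2 ((hτ 0).2.2.cn h' (τ.injective.ne e) q hq))
      ((h'.sd _).cube q hq), n, ?_⟩
    rw [e1, dc_z, ht, el_eq, cc_single, zp_one, mul_assoc, zc, mul_assoc]
  obtain ⟨q, hq, qO, n, e⟩ := h1 1 (by decide)
  obtain ⟨q', hq', qO', n', e'⟩ := h1 2 (by decide)
  have h2 : q' * q * D.z * (q' * q)⁻¹ = el D.z t c (n' + n) 1 (Pi.single 2 1 + Pi.single 1 1) := by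
    have c1 : el D.z t c n 0 (Pi.single 1 1) ∈ Ce q' := by
      rw [el_eq, zp_zero, mul_one, cc_single]
      exact mul_mem (zp_mem' (Ce_symm (ht ▸ (co h' _).le_Ce hq')) _)
        (mem_Ce.2 (QQc h' (τ.injective.ne (by decide)) (hτ 1).1 hq'))
    have c2 := el_add (α := 0) (β := Pi.single 1 1) h T 0 1 n 0
    rw [zero_add, zero_add, add_zero, el_eq 0 1, zp_zero, zp_one, cc_zero, one_mul, mul_one] at c2
    calc _ = q' * (q * D.z * q⁻¹) * q'⁻¹ := by group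
      _ = _ := by rw [e, c2, ← conj_mul, e', mem_Ce'.1 (Ce_symm c1), ← el_add h T, add_zero]
  have z1 := Zt_conj (D := D) q
  have z2 := Zt_conj (D := D) (q' * q)
  rw [e] at z1
  rw [h2] at z2
  have q1 := ((H.zset _ _ _).1 z1).2
  have q2 := ((H.zset _ _ _).1 z2).2
  simp only [Pi.add_apply, Pi.single_eq_same, Pi.single_eq_of_ne (show (0 : Fin 3) ≠ 1 by decide),
    Pi.single_eq_of_ne (show (0 : Fin 3) ≠ 2 by decide), Pi.single_eq_of_ne (show (1 : Fin 3) ≠ 2 by decide),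
    Pi.single_eq_of_ne (show (2 : Fin 3) ≠ 1 by decide)] at q1 q2
  rcases (by decide : ∀ ε a n m : ZMod 3, a ≠ 0 → 0 * 0 + 1 * 1 + 0 * 0 + ε * n * 1 = 0 →
    (0 + 0) * (0 + 0) + (0 + 1) * (0 + 1) + (1 + 0) * (1 + 0) + ε * m * 1 = 0 → a = n ∨ a = m)
    _ a _ _ ha q1 q2 with rfl | rfl
  · obtain ⟨k, hk, e1⟩ := orbO h H ha (by simp) z1
    exact ⟨k * q, mul_mem hk qO, by rw [← e1, ← e]; group⟩
  · obtain ⟨k, hk, e1⟩ := orbO h H ha (by simp) z2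
    exact ⟨k * (q' * q), mul_mem hk (mul_mem qO' qO), by rw [← e1, ← h2]; group⟩

theorem zreal : ∃ k ∈ OO (r 0), k * D.z * k⁻¹ = D.z⁻¹ := by
  obtain ⟨a, ha, e⟩ := tpm h v H 1 (by decide)
  obtain ⟨b, hb, e'⟩ := tpm h v H (-1) (by decide)
  rw [zp_neg (H.hz ▸ (H3.dc h k).ord), ← e] at e'
  exact ⟨a⁻¹ * b, mul_mem (inv_mem ha) hb, by
    rw [show a⁻¹ * b * D.z * (a⁻¹ * b)⁻¹ = a⁻¹ * (b * D.z * b⁻¹) * a by group, e']; group⟩

theorem kzk (hy : y ∈ Ce (r 0)) (e : Zt D.z y) : ∃ k ∈ OO (r 0), k * D.z * k⁻¹ = y := by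
  have : Fact (Nat.Prime 3) := ⟨Nat.prime_three⟩
  obtain ⟨s, hs, es⟩ := zreal h v H
  have iv : ∀ y, (∃ k ∈ OO (r 0), k * D.z * k⁻¹ = y⁻¹) → ∃ k ∈ OO (r 0), k * D.z * k⁻¹ = y :=
    fun y ⟨k, hk, e⟩ => ⟨k * s, mul_mem hk hs, by
      rw [← inv_inv y, ← e, conj_inv, ← es]; group⟩
  have h1 : ∀ q ∈ D.Q 1 ⊔ D.Q 2, Zt D.z (q * t) → ∃ k ∈ OO (r 0), k * D.z * k⁻¹ = q * t := by
    intro q hq e
    obtain ⟨qQ, qr⟩ := (Q12 h (jty h H)).1 hq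
    obtain ⟨a, b, α, e1⟩ := (H.memJ _).1 (SJ h H hq (Zt_cube h e))
    have cQ := mul_mem (zQ h (zp_mem b)) (cc_mem (α := α) fun i => Qle i (H.cQ i))
    have ot : orderOf t = 3 := H.hz ▸ (H3.dc h k).ord
    have h2 : t⁻¹ * q * t = zp t (-1 + a) * (zp D.z b * cc c α) := by
      rw [zp_add ot, zp_neg ot, zp_one, mul_assoc, e1, el_eq]; group
    have h3 := conj_mem_of_mem_normalizer' (HQ h (Bz H.tB)) qQ
    have h4 := zp_of H.t3 ((mul_mem_cancel_right cQ).1 (h2 ▸ h3)) (jnQ h H)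
    rw [h4, zp_zero, one_mul] at h2
    have h5 := L_cc' (α := α) (τ := 1) h H.cQ (zp_mem b) 0
    rw [← h2, Equiv.Perm.one_apply, L_cn h ((jty h H 0).fix h h3 (mul_mem (mul_mem
      (inv_mem (mem_Ce.2 (H.tr 0))) qr) (mem_Ce.2 (H.tr 0)))), eq_comm, smul_eq_zero] at h5
    obtain rfl := neg_add_eq_zero.1 h4
    obtain ⟨k, hk, e2⟩ := orbO h H one_ne_zero
      (h5.resolve_right (H84.PS.lne (co h 0) (H.cQ 0) (H.cz 0))) (e1 ▸ e)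
    obtain ⟨k', hk', e3⟩ := tpm h v H 1 one_ne_zero
    exact ⟨k⁻¹ * k', mul_mem (inv_mem hk) hk', by
      rw [e1, ← mul_right_inj k, ← mul_left_inj k⁻¹, e2, ← e3]; group⟩
  obtain ⟨g, hg, e1⟩ := ((syl h v H).of_le (SO h H) OO_le).exists_cj_le
    (IsPGroup.of_card (n := 1) (by
      rw [Nat.card_zpowers]; exact orderOf_eq_prime (Zt_cube h e) (Zt_ne h e)))
    (zpowers_le.2 (mem_OO hy (Zt_cube h e)))
  obtain ⟨q, hq, n, e2⟩ := (memS h H).1 (e1 (conj_mem_cj (mem_zpowers y)))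
  have e3 := Zt_cj e g
  suffices ∃ k ∈ OO (r 0), k * D.z * k⁻¹ = g * y * g⁻¹ by
    obtain ⟨k, hk, e⟩ := this
    exact ⟨g⁻¹ * k, mul_mem (inv_mem hg) hk, by
      rw [show g⁻¹ * k * D.z * (g⁻¹ * k)⁻¹ = g⁻¹ * (k * D.z * k⁻¹) * g by group, e]; group⟩
  rw [e2] at e3 ⊢
  obtain ⟨qQ, qr⟩ := (Q12 h (jty h H)).1 hq
  rcases z3 n with rfl | rfl | rfl
  · rw [zp_zero, mul_one] at e3 ⊢
    rcases mem_cases h.ord (((hw_of0 h v).wt q qQ e3).resolve_right fun e =>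
      e 0 ((jty h H 0).fix h qQ qr)) with e | e | e
    exacts [(Zt_ne h e3 e).elim, ⟨1, one_mem _, by simp [e]⟩, ⟨s, hs, e ▸ es⟩]
  · rw [zp_one] at e3 ⊢
    exact h1 q hq e3
  · rw [zp_neg (H.hz ▸ (H3.dc h k).ord), zp_one] at e3 ⊢
    have h2 : (q * t⁻¹)⁻¹ = t * q⁻¹ * t⁻¹ * t := by group
    refine iv _ (h2 ▸ h1 _ ((Q12 h (jty h H)).2 ⟨conj_mem_of_mem_normalizer (HQ h (Bz H.tB))
      (inv_mem qQ), mul_mem (mul_mem (mem_Ce.2 (H.tr 0)) (inv_mem qr))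
      (inv_mem (mem_Ce.2 (H.tr 0)))⟩) (h2 ▸ Zt_inv e3))

theorem fac (hg : g ∈ Ce (r 0)) : ∃ k ∈ OO (r 0), ∃ n ∈ Ce D.z, n ∈ Ce (r 0) ∧ g = k * n := by
  obtain ⟨k, hk, e⟩ := kzk h v H (mul_mem (mul_mem hg (OO_le (zO h H))) (inv_mem hg)) (Zt_conj g)
  refine ⟨k, hk, k⁻¹ * g, mem_Ce'.2 ?_, mul_mem (inv_mem (OO_le hk)) hg, by group⟩
  rw [show k⁻¹ * g * D.z * (k⁻¹ * g)⁻¹ = k⁻¹ * (g * D.z * g⁻¹) * k by group, ← e]; group

theorem tyE {e : G} (he : IsConj (r 0) e) (hz : e ∈ Ce D.z) : ∃ i, Ty D i e := by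
  obtain ⟨g, rfl⟩ := isConj_iff.1 he
  obtain ⟨k, hk, e⟩ := kzk h v H (y := g⁻¹ * D.z * g⁻¹⁻¹) (by
    simpa [mul_assoc] using conj_mem_Ce (Ce_symm hz) g⁻¹) (Zt_conj _)
  have h1 : g * k ∈ Ce D.z := mem_Ce'.2 (by
    rw [show g * k * D.z * (g * k)⁻¹ = g * (k * D.z * k⁻¹) * g⁻¹ by group, e]; group)
  have h2 := (jty h H 0).conj h h1
  rw [show g * k * r 0 * (g * k)⁻¹ = g * (k * r 0 * k⁻¹) * g⁻¹ by group, mem_Ce'.1 (OO_le hk)] at h2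
  exact ⟨_, h2⟩

theorem kf0 (o : Onto D) : ∃ R, KF D t r π R ∧ R ≤ NN h r ∧
    ∀ p ∈ NN h r, ∃ u ∈ zpowers D.z, ∃ p' ∈ R, p = u * p' := by
  have ty := jty h H
  obtain ⟨R, RN, R4, hR⟩ := exR h ty
  have bo := kbo h v H o
  have n2 : ∀ i j, i ≠ j → ∀ e ∈ D.B, D.m i e = -1 → D.m j e = -1 → ¬ IsConj (r 0) e :=
    fun i j ne e he e1 e2 hc => by
      obtain ⟨l, hl⟩ := tyE h v H hc (Bz he)
      by_cases e3 : i = l
      exacts [neg_ne (e2.symm.trans (hl.one j fun e4 => ne (e3.trans e4.symm))),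
        neg_ne (e1.symm.trans (hl.one i e3))]
  have mm := fun i j => m_mul h (H.rB i) (H.rB j)
  have s1 : ∀ n ∈ Ce D.z, n ∈ Ce (r 0) → n ∉ OO (r 0) → sg D n = Equiv.swap 1 2 := fun n hn hn' e =>
    ((by decide +kernel : ∀ σ : Equiv.Perm (Fin 3), σ 0 = 0 → σ = 1 ∨ σ = Equiv.swap 1 2) _
      (sw0 h ty (CeN hn) hn')).resolve_left fun e1 => e (bo ⟨B_of h hn e1, hn'⟩)
  refine ⟨R, ⟨H.rB, H.rsq, H.rm, H.rm', H.rc, H.rr, H.πr, fun p hp => (RN hp).1, R4,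
    fun i p hp => (RN hp).2 i, fun i => ?_, fun p hp e => ?_, fun p hp => ?_,
    fun p hp i e => (co h i).cn_of_four (BN (RN hp).1.1 i) e (R4 p hp), H.tB, mem_Ce.2 (H.tr 0),
    jnQ h H, zp_one (z := t) ▸ tpm h v H 1 one_ne_zero, syl h v H, sylc h H, fun _ => sylz h H,
    fun _ => kzk h v H, bo, fun g hg => by rw [sg_spec h hg.1, sw0 h ty hg.1 hg.2],
    fun g hg g' hg' n n' => ?_, fun e g hg => ?_, rder h H o 0, fun e he hz hr => ?_,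
    n2 0 1 (by decide) _ (mul_mem (H.rB 0) (H.rB 1)) (by rw [mm, H.rm, H.rm' 1 0 (by decide), mul_one])
      (by rw [mm, H.rm, H.rm' 0 1 (by decide), one_mul]),
    n2 0 2 (by decide) _ (mul_mem (H.rB 0) (H.rB 2)) (by rw [mm, H.rm, H.rm' 2 0 (by decide), mul_one])
      (by rw [mm, H.rm, H.rm' 0 2 (by decide), one_mul]),
    n2 1 2 (by decide) _ (mul_mem (H.rB 1) (H.rB 2)) (by rw [mm, H.rm, H.rm' 2 1 (by decide), mul_one])
      (by rw [mm, H.rm, H.rm' 1 2 (by decide), one_mul]),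
    n2 1 2 (by decide) _ (mul_mem (H.rB 0) (mul_mem (H.rB 1) (H.rB 2))) ?_ ?_⟩, RN, hR⟩
  · obtain ⟨u, hu, p, hp, e⟩ := hR _ (rN h ty i)
    have h1 : r i ^ 4 = 1 := by rw [pow_succ, pow_three', H.rsq, one_mul, H.rsq]
    rw [e, (show Commute _ _ from (comm_of_mem (Bz (RN hp).1.1) hu).symm).mul_pow, R4 p hp,
      mul_one] at h1
    rw [e, eq_one_of_four h.ord hu h1, one_mul]
    exact hp
  · exact eq_one_of_four h.ord (Nz1 h ty (RN hp) e) (R4 p hp)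
  · obtain ⟨p', hp', e⟩ := onN h ty hp
    obtain ⟨u, hu, q, hq, rfl⟩ := hR _ hp'
    exact ⟨q, hq, fun i => by
      rw [← e, m_mul h (QB h (zQ h hu)) (RN hq).1.1, mQ h (zQ h hu), one_mul]⟩
  · obtain ⟨k, hk, a, ha, ha', rfl⟩ := fac h v H hg
    obtain ⟨k', hk', b, hb, hb', rfl⟩ := fac h v H hg'
    have h1 : a * b ∈ OO (r 0) := bo ⟨B_of h (mul_mem ha hb) (by
      rw [sg_mul h (CeN ha) (CeN hb), s1 a ha ha' fun e => n (mul_mem hk e),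
        s1 b hb hb' fun e => n' (mul_mem hk' e), Equiv.swap_mul_self]), mul_mem ha' hb'⟩
    simpa [mul_assoc] using mul_mem (mul_mem hk (OO_conj ha' hk')) h1
  · obtain ⟨k, hk, a, ha, ha', rfl⟩ := fac h v H hg
    exact mul_mem hk (bo ⟨e a ha (by rw [sg_spec h (CeN ha), sw0 h ty (CeN ha) ha']), ha'⟩)
  · obtain ⟨i, hi⟩ := tyE h v H he hz
    obtain ⟨u, hu, e1, e2⟩ := (ty i).rel h hi
    have h1 : u ∈ OO (r 0) := QO h H (Qle i hu) (e2 ▸ mul_mem (mem_Ce.2 (H.rr i 0)) hr)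
    rcases f3 i with rfl | rfl | rfl
    · refine Or.inl ?_
      rw [← e1, mem_Ce'.1 (OO_le h1)]
    exacts [Or.inr ⟨u, h1, .inl e1.symm⟩, Or.inr ⟨u, h1, .inr e1.symm⟩]
  · rw [m_mul h (H.rB 0) (mul_mem (H.rB 1) (H.rB 2)), mm, H.rm, H.rm' 2 1 (by decide),
      H.rm' 0 1 (by decide), mul_one, one_mul]
  · rw [m_mul h (H.rB 0) (mul_mem (H.rB 1) (H.rB 2)), mm, H.rm, H.rm' 1 2 (by decide),
      H.rm' 0 2 (by decide), one_mul, one_mul]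

end

theorem jobK : JobK.{u} := fun _ _ _ _ _ _ _ _ _ _ _ _ h v H =>
  (kf0 h v.hv0 H v.onto).imp fun _ e => e.1

end H78.F22
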