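import Cfsg.Agent.H78.TEDef
import Cfsg.Agent.H63.TGSpec
import Cfsg.Agent.H64.SGA1

/-! STD-2E6 (row S3327): the ambient-group slots.  Notes: `blueprints/STDE.md`, section G. -/

set_option autoImplicit false
set_option linter.unusedSectionVars false

namespace H78.TE

open Cfsg.Lie H63 H65 H64 H64.SG H68 H46.SF Subgroup
open H78.TW (CE WX WU WF)

universe u

section Up

variable {X : Type} [Group X] {G : Type u} [Group G] {L : Subgroup G} (c : Cov X L)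

/-- the `2`-elements over `S` -/
def up (S : Subgroup X) : Subgroup G := closure {l | l ∈ L ∧ Is2 l ∧ c.pi l ∈ S}

theorem up_le (S : Subgroup X) : up c S ≤ L := (closure_le _).2 fun _ h => h.1

theorem up_mono {S S' : Subgroup X} (h : S ≤ S') : up c S ≤ up c S' :=
  closure_mono fun _ e => ⟨e.1, e.2.1, h e.2.2⟩

theorem up_spec [Finite G] {S : Subgroup X} (h : IsPGroup 2 S) : IsPGroup 2 (up c S) ∧
    (∀ g, g ∈ up c S ↔ g ∈ L ∧ Is2 g ∧ c.pi g ∈ S) ∧ c.im (up c S) = S ∧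
      Nat.card (up c S) = Nat.card S := by
  obtain ⟨Q, q1, q2, q3⟩ := c.exists_up h
  have : up c S = Q := le_antisymm ((closure_le _).2 fun g hg => (q2 g).2 hg)
    fun g hg => subset_closure ((q2 g).1 hg)
  rw [this]
  exact ⟨q1, q2, q3⟩

theorem mem_up [Finite G] {S : Subgroup X} (h : IsPGroup 2 S) {g : G} :
    g ∈ up c S ↔ g ∈ L ∧ Is2 g ∧ c.pi g ∈ S := (up_spec c h).2.1 g

end Up

section Long

variable {F : Type} [Field F] {G : Type u} [Group G] (L : Subgroup G) (x : ℕ → F → G) (t : G)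

/-- the centraliser in `L` of a long root subgroup -/
abbrev PL (r : Rt D4) : Subgroup G := L ⊓ Cs (XR D4 x r)

/-- What phases 2b and 3 use. -/
structure Env : Prop where
  st : St D4 x
  le : ∀ (r : Rt D4) c, x r c ∈ L
  inj : ∀ (r : Rt D4) c, x r c = 1 → c = 0
  tt : t * t = 1
  tc : ∀ g ∈ L, g * t = t * g
  nt : t ∉ L
  ct : Cz t ≤ Ns L
  cp : ∀ r s : Rt D4, D4.pairing r s = 0 ∨ D4.pairing r s = 1 → ∀ k, t * k = k * t →
    k ∈ Cs (PL L x r ⊓ PL L x s) → ∃ a b, k = x r a * x s b ∨ k = x r a * x s b * t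
  p0 : ∀ (r : Rt D4) c, c ≠ 0 → ∀ g ∈ L, x r c * g = g * x r c → g ∈ PL L x r
  p3 : ∀ r s v : Rt D4, rt v = rt r + rt s →
    PL L x v ≤ (PL L x r ⊓ PL L x s) ⊔ gen (XR D4 x) {w | 0 ≤ D4.pairing v w}
  std : ∀ n ∈ Cz t, ∃ l ∈ L, cjs (l * n) (XR D4 x (hi D4)) = XR D4 x (hi D4)
  pair : ∀ g ∈ L, ∃ u ∈ PL L x (hi D4), ∃ (r : Rt D4) (k : F), k ≠ 0 ∧
    ∀ c, u * g * x (hi D4) c * (u * g)⁻¹ = x r (k * c)

/-- All translations of `t X_θ` are induced by the centraliser of `P₀`. -/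
def Tr : Prop := ∀ c : F, ∃ w ∈ Cs (PL L x (hi D4)), w * t * w⁻¹ = t * x (hi D4) c

/-- The big root subgroups. -/
structure Fam (A : Rt D4 → Subgroup G) : Prop where
  le : ∀ r, XR D4 x r ≤ A r
  sq : ∀ r, ∀ a ∈ A r, a * a = 1
  card : ∀ r, Nat.card (A r) = Nat.card F ^ 2
  nt : ∀ r, t ∉ A r
  tc : ∀ r, ∀ a ∈ A r, a * t * a⁻¹ * t⁻¹ ∈ XR D4 x r
  onto : ∀ (r : Rt D4) (c : F), ∃ a ∈ A r, a * t * a⁻¹ = t * x r c
  fix : ∀ r, ∀ a ∈ A r, a ∈ Cz t → a ∈ XR D4 x r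
  cp : ∀ r, A r ≤ Cs (PL L x r)
  intr : ∀ r, ∀ w ∈ Cs (PL L x r), w * t * w⁻¹ * t⁻¹ ∈ XR D4 x r → w ∈ A r ∨ w * t ∈ A r
  eqv : ∀ n ∈ Cz t, ∀ r s, cjs n (XR D4 x r) = XR D4 x s → cjs n (A r) = A s
  col : ∀ r s : Rt D4, D4.pairing r s = 1 → A r ≤ Cs (A s)
  neg : ∀ r s v : Rt D4, rt v = rt r + rt s → ∀ a ∈ A r, ∀ c : F,
    a * x s c * a⁻¹ * (x s c)⁻¹ ∈ A v

/-- The remaining commutator relations. -/
structure Fam2 (A : Rt D4 → Subgroup G) : Prop extends Fam L x t A where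
  pol : ∀ r s : Rt D4, D4.pairing r s = 0 → A r ≤ Cs (A s)
  neg2 : ∀ r s v : Rt D4, rt v = rt r + rt s → ∀ a ∈ A r, ∀ b ∈ A s, a * b * a⁻¹ * b⁻¹ ∈ A v

/-- The wreath alternative. -/
def WX' : Prop := ∃ z y, WX L t z y ∧ y ∈ normalClosure (L : Set G)

end Long

namespace Qd

variable {F K : Type} [Field F] [Field K] [CharP K 2] (T : Qd F K)

/-- All facts on `X` and `Y`. -/
structure XF : Prop where
  kb : T.KB
  ct : T.CT
  tb : T.TB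
  tc : T.TC
  br : T.BR
  cy : T.CY
  ca : T.CA
  pa : T.PA
  pb : T.PB
  pc : T.PC
  ru : WU T.sg
  ap1 : T.AP1
  ap2 : T.AP2
  ic : T.IC
  fc : T.FC
  ub : T.UB
  fe : T.FE
  ft : T.FT
  ln : LN K

variable {G : Type u} [Group G] {F₀ L : Subgroup G}

/-- The results of step (1). -/
structure A1 (c : Cov T.X L) (t : G) (O : Subgroup G) : Prop where
  two : ∀ R ≤ Cs L, IsPGroup 2 R → Nat.card R ≤ 2
  odd : Odd (Nat.card O)
  le : O ≤ Cs L ⊓ Cz t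
  ko : ∀ k ∈ Cs L, k ∈ Cz t → k ∈ O ∨ k * t ∈ O
  ct : Cz t ≤ Ns O
  no : ∀ w ∈ Ns (up c T.Z), w * t * w⁻¹ * t⁻¹ ∈ up c T.Z → w ∈ Ns O
  mv : ∃ g ∈ Ns (up c T.U), ∃ z ∈ up c T.Z, z ≠ 1 ∧ g * t * g⁻¹ = t * z

/-- The long root elements of the image of `e`. -/
noncomputable abbrev xe (e : T.X →* G) : ℕ → F → G := fun r c => e (T.x r c)

/-- The configuration modulo `O`. -/
structure TH (e : T.X →* G) (t : G) : Prop where
  inj : Function.Injective e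
  inv : Inv2 t
  comm : t ∈ Cs e.range
  ct : Cz t ≤ Ns e.range
  ck : ∀ h ∈ Cz t, h ∈ Cs e.range → h = 1 ∨ h = t
  a3 : ∀ y ∈ O2 (Cz t), Is2 y → y ∈ e.range
  mv : ∃ g ∈ Ns (T.U.map e), ∃ c : F, c ≠ 0 ∧ g * t * g⁻¹ = t * e (T.x (hi D4) c)

/-- The long roots over `K`. -/
structure B4 (L : Subgroup G) (x : ℕ → F → G) (t : G) (y : ℕ → K → G) : Prop where
  st : St D4 y
  yx : ∀ (r : Rt D4) c, y r (T.ι c) = x r c
  ty : ∀ (r : Rt D4) a, t * y r a * t⁻¹ = y r (T.σ a)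
  cp : ∀ (r : Rt D4) a, y r a ∈ Cs (PL L x r)
  ct : Cz t ≤ Ns (L ⊔ GG D4 y)

/-- `M r a u` stands for `x_r(a u) x_{γ r}(a σ u)`. -/
structure MM (e : T.X →* G) (t : G) (y : ℕ → K → G) (M : Rt E6 → K → K → G) : Prop where
  addl : ∀ r a b u, M r a u * M r b u = M r (a + b) u
  addr : ∀ r a u v, M r a u * M r a v = M r a (u + v)
  bal : ∀ r (c : F) a u, M r (T.ι c * a) u = M r a (T.ι c * u)
  one : ∀ r u, M r 1 u = e (T.xs r u)
  gm : ∀ r a u, M (gm r) a u = M r a (T.σ u)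
  lng : ∀ (r : Rt D4) a u, M (lr r) a u = y r (a * (u + T.σ u))
  c0 : ∀ r s, 0 ≤ ip r s → 0 ≤ ip r (TE.gm s) → ∀ a u b v, M r a u * M s b v = M s b v * M r a u
  cs : ∀ r s, ip r s = -1 → 0 ≤ ip r (TE.gm s) → ∀ a u b v,
    M r a u * M s b v * (M r a u)⁻¹ = M s b v * M (su r s) (a * b) (u * v)
  cj : ∀ (r v : Rt D4) s, TE.gm s ≠ s → ip (lr r) s = -1 → lr v = su (su (lr r) s) (TE.gm s) →
    ∀ a u b, M s a u * y r b * (M s a u)⁻¹ =
      y r b * M (su (lr r) s) (a * b) u * y v (a ^ 2 * b * (u * T.σ u))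
  ty : ∀ r a u, t * M r a u * t⁻¹ = M r (T.σ a) u
  mem : ∀ r a u, M r a u ∈ e.range ⊔ GG D4 y

/-- The field case modulo `O`. -/
structure BH (e : T.X →* G) (t : G) (y : ℕ → K → G) : Prop where
  st : St E6 y
  yx : ∀ (r : Rt E6) u, y r u * y (gm r) (T.σ u) = e (T.xs r u)
  ty : ∀ (r : Rt E6) a, t * y r a * t⁻¹ = y (gm r) (T.σ a)
  ct : Cz t ≤ Ns (GG E6 y)

/-- The field case. -/
structure BF (c : Cov T.X L) (t : G) (y : ℕ → K → G) : Prop where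
  st : St E6 y
  mem : ∀ (r : Rt E6) u, y r u * y (gm r) (T.σ u) ∈ L
  pi : ∀ (r : Rt E6) u, c.pi (y r u * y (gm r) (T.σ u)) = T.xs r u
  ty : ∀ (r : Rt E6) a, t * y r a * t⁻¹ = y (gm r) (T.σ a)
  ct : Cz t ≤ Ns (GG E6 y)

/-- The data of phase 4 in the field case. -/
structure FF (F₀ : Subgroup G) (c : Cov T.X L) (t : G) {y : ℕ → K → G} (C : Comp E6 y) : Prop
    extends T.BF c t y where
  cfg : Cfg F₀ L t
  ce : CE (Nat.card F) L t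
  le : L ≤ GG E6 y
  pp : ∀ l ∈ L, C.pi l = (c.pi l : YY K)
  ac : C.ac t = T.ph
  tU : ∀ S : Set (Rt E6), (∀ r ∈ S, gm r ∈ S) → t ∈ Ns (gen (XR E6 y) S)
  cob : ∀ v ∈ UU E6 y, v * t * (v * t) = 1 → ∃ w ∈ UU E6 y, v * t = w * t * w⁻¹

end Qd

/-- Field case, second step. -/
structure F2 {K : Type} [Field K] {G : Type u} [Group G] (F₀ : Subgroup G) (t : G) (y : ℕ → K → G) :
    Prop where
  nt : t ∉ F₀
  le : GG E6 y ≤ F₀
  syl : Syl (UU E6 y ⊔ zpowers t) (Ns (GG E6 y))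
  fus : ∀ z ∈ GG E6 y, z * z = 1 → ∀ g, g * z * g⁻¹ ∈ Ns (GG E6 y) →
    ∃ m ∈ Ns (GG E6 y), g * z * g⁻¹ = m * z * m⁻¹

/-- `d = y_r(a) t` of order `4` fixes only one point. -/
def F3 {K : Type} [Field K] {G : Type u} [Group G] (t : G) (y : ℕ → K → G) : Prop :=
  ∀ (r : Rt E6) a, y r a * t * (y r a * t) ≠ 1 → ∀ g, g * (y r a * t) * g⁻¹ ∈ Ns (GG E6 y) →
    g ∈ Ns (GG E6 y)

def JobJF : Prop := AllT fun _ _ _ _ _ T => T.XF → H63.TG.JBF T.X T.Root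
def JobWF : Prop := AllT fun _ _ _ _ _ T => T.XF → WF T.sg

/-- A statement for all `T` with the facts and all finite groups `G`. -/
def AllG (P : ∀ (F K : Type) [Field F] [Field K] [CharP K 2], Qd F K → ∀ (G : Type u) [Group G], Prop) :
    Prop := AllT fun F K _ _ _ T => T.XF → ∀ (G : Type u) [Group G] [Finite G], P F K T G

def JobA1 : Prop := AllG.{u} fun _ _ _ _ _ T G _ => H63.TG.JBF T.X T.Root →
  ∀ (F₀ L : Subgroup G) (t : G) (c : Cov T.X L), Cfg F₀ L t →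
    (∃ z ∈ L, z * z = 1 ∧ T.Root (c.pi z) ∧ IsConj t (t * z)) → ∃ O, T.A1 c t O

def JobEN : Prop := AllG.{u} fun _ _ _ _ _ T G _ => ∀ (e : T.X →* G) (t : G),
  T.TH e t → Env e.range (T.xe e) t

def JobP2a : Prop := AllG.{u} fun _ _ _ _ _ T G _ => ∀ (e : T.X →* G) (t : G),
  T.TH e t → Tr e.range (T.xe e) t

/-- A statement on the long root elements only. -/
def AllL (P : ∀ (F : Type) [Field F] (G : Type u) [Group G], Subgroup G → (ℕ → F → G) → G → Prop) :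
    Prop := ∀ (F : Type) [Field F] [Finite F] [CharP F 2] (G : Type u) [Group G] [Finite G]
      (L : Subgroup G) (x : ℕ → F → G) (t : G), Env L x t → P F G L x t

def JobP2b : Prop := AllL.{u} fun _ _ _ _ L x t => Tr L x t → ∃ A, Fam L x t A
def JobP3a : Prop := AllL.{u} fun _ _ _ _ L x t => ∀ A, Fam L x t A → Fam2 L x t A
def JobP3b : Prop := AllL.{u} fun F _ _ _ L x t => ∀ A, Fam2 L x t A →
  ∀ (K : Type) [Field K] [Finite K] [CharP K 2] (T : Qd F K), (∃ y, T.B4 L x t y) ∨ WX' L t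

def JobM1 : Prop := AllG.{u} fun _ _ _ _ _ T G _ => ∀ (e : T.X →* G) (t : G), t ∈ Cs e.range →
  ∀ y, T.B4 e.range (T.xe e) t y → ∃ M, T.MM e t y M

def JobM2 : Prop := AllG.{u} fun _ _ _ _ _ T G _ => ∀ (e : T.X →* G) (t : G) y M,
  T.B4 e.range (T.xe e) t y → T.MM e t y M → ∃ y', T.BH e t y'

/-- Phases 2 and 3 together. -/
def JobH : Prop := AllG.{u} fun _ _ _ _ _ T G _ => ∀ (e : T.X →* G) (t : G),
  T.TH e t → (∃ y, T.BH e t y) ∨ WX' e.range t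

/-- Pass to `N(O) / O`, apply `JobH`, lift back. -/
def JobA2 : Prop := JobH.{u} → AllG.{u} fun _ _ _ _ _ T G _ => H63.TG.JBF T.X T.Root →
  ∀ (F₀ L : Subgroup G) (t : G) (c : Cov T.X L) (O : Subgroup G), Cfg F₀ L t → T.A1 c t O →
    (∃ y, T.BF c t y) ∨ ∃ z y, WX L t z y

/-- A statement in the field case. -/
def AllF (P : ∀ (F K : Type) [Field F] [Field K] [CharP K 2] (T : Qd F K) (G : Type u) [Group G]
    (L : Subgroup G), Cov T.X L → Subgroup G → G → (ℕ → K → G) → Prop) : Prop :=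
  AllG.{u} fun F K _ _ _ T G _ => ∀ (F₀ L : Subgroup G) (t : G) (c : Cov T.X L) (y : ℕ → K → G)
    (C : Comp E6 y), T.FF F₀ c t C → P F K T G L c F₀ t y

def JobF1 : Prop := AllF.{u} fun _ _ _ _ _ _ _ _ _ _ _ t y =>
  Odd (Nat.card (Cs (GG E6 y))) ∧ UF (Ns (GG E6 y)) t

def JobF2a : Prop := AllF.{u} fun _ _ _ _ _ T _ _ _ c _ t y =>
  Odd (Nat.card (Cs (GG E6 y))) → UF (Ns (GG E6 y)) t → Cs (up c T.W) ≤ Ns (GG E6 y)

def JobF2b : Prop := AllF.{u} fun _ _ _ _ _ _ _ _ _ _ F₀ t y =>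
  Odd (Nat.card (Cs (GG E6 y))) → UF (Ns (GG E6 y)) t → F2 F₀ t y

def JobF3 : Prop := AllF.{u} fun _ _ _ _ _ T _ _ _ c F₀ t y =>
  Odd (Nat.card (Cs (GG E6 y))) → UF (Ns (GG E6 y)) t → Cs (up c T.W) ≤ Ns (GG E6 y) →
    F2 F₀ t y → F3 t y

def JobF4 : Prop := AllF.{u} fun _ K _ _ _ T _ _ _ c F₀ t y =>
  Odd (Nat.card (Cs (GG E6 y))) → UF (Ns (GG E6 y)) t → Cs (up c T.W) ≤ Ns (GG E6 y) →
    F2 F₀ t y → F3 t y → Nonempty (F₀ ≃* YY K)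

end H78.TE
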