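import Cfsg.Agent.H62.TDW
import Cfsg.Agent.H59.SOSpec

/-! STD-2E6 (row S3327), piece W: the wreath endgame, generic in a quasisimple group `X` with centre
of odd order.  `X` carries subgroups `Z ≤ E ≤ Q ≤ R ≤ U`, `V`, `A` (`Sg X`) with the facts `WF`.
`CW`, `pr`, `G12` and their lemmas are those of `H62.TW`.  Notes: `blueprints/STDE.md`, section W. -/

set_option autoImplicit false
set_option linter.unusedSectionVars false

namespace H78.TW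

open H64.SG (O2 Syl Cz Cs Ns cjs Is2 Inv2 UF IsO2 fx Cov mem_Cs mem_Cz mem_fx)
open H67.SA (St cI cm mem_St_iff_map conj_mem_St mem_cjs conj_mem_cjs card_cjs cjs_inv_le cjs_swap)
open H81.SU (El Ind cje)
open H62.TW (CW pr G12)
open Subgroup
open scoped commutatorElement

universe u

/-- The subgroups of `X` used in the endgame, and the parameter `q`. -/
structure Sg (X : Type) [Group X] where
  q : ℕ
  U : Subgroup X
  R : Subgroup X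
  Q : Subgroup X
  A : Subgroup X
  V : Subgroup X
  E : Subgroup X
  Z : Subgroup X

section Facts

variable {X : Type} [Group X] (d : Sg X)

/-- Facts on the Sylow subgroup `U` and its normal subgroup `R`. -/
structure WU : Prop where
  two_le : 2 ≤ d.q
  isP : IsPGroup 2 d.U
  cardU : Nat.card d.U = d.q ^ 36
  cardE : 2 < Nat.card d.E
  neZ : ¬ d.Z ≤ ⊥
  ZE : d.Z ≤ d.E
  EQ : d.E ≤ d.Q
  QR : d.Q ≤ d.R
  AR : d.A ≤ d.R
  VR : d.V ≤ d.R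
  RU : d.R ≤ d.U
  el : El d.E
  nQ : d.U ≤ Ns d.Q
  nE : d.U ≤ Ns d.E
  zu : d.R ⊓ Cs d.R = d.Z
  nz : ∀ u ∈ d.R, u ∉ d.Z → d.Z ≤ ⁅zpowers u, d.R⁆
  vz : ∃ v ∈ d.R, ⁅zpowers v, d.R⁆ = d.Z
  cQ : ∀ u ∈ d.R, u ∈ d.Q ↔ ⁅zpowers u, ⁅d.R, d.R⁆⁆ ≤ d.Z
  cV : ∀ u ∈ d.R, u ∈ d.V ↔ ⁅zpowers u, d.R⁆ ≤ d.Z
  cA : ∀ u ∈ d.R, u ∈ d.A ↔ u ∈ Cs d.V
  cE : d.E = ⁅d.A, d.A⁆
  invU : d.U ≤ closure {u | u ∈ d.U ∧ u * u = 1}
  cl : d.R ≤ closure {u | u ∈ d.R ∧ d.q ^ 26 ≤ Nat.card ↥(d.U ⊓ Cz u)}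

/-- Facts on the involutions of `X`. -/
structure WI : Prop where
  qs : ∀ N : Subgroup X, N.Normal → N ≤ center X ∨ N = ⊤
  perf : commutator X = ⊤
  odd : Odd (Nat.card (center X))
  syl : Syl d.U ⊤
  gen : closure ({g | g * g = 1 ∧ g ∈ Ns d.E} ∪ {g | g * g = 1 ∧ g ∈ Ns d.Q ∧ g ∈ Cs d.Z}) = ⊤
  ic : ∀ y : X, Inv2 y → ∃ h : X, h * y * h⁻¹ ∈ d.E

/-- Facts on the automorphisms of `X`. -/
structure WA : Prop where
  a3 : ∀ β ∈ O2 (⊤ : Subgroup (MulAut X)), Is2 β → ∃ g, β = MulAut.conj g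
  ctE : ∀ β : MulAut X, (∀ a ∈ d.E, β a = a) → β ∈ cI d.E
  nr : St d.U ≤ St d.R
  nu : St d.U ≤ St d.E
  ub : ∀ β ∈ St d.U, Is2 β → β ∉ cI d.R → d.q ^ 12 * Nat.card ↥(d.U ⊓ fx β) ≤ Nat.card d.U
  ab : ∀ B : Subgroup (MulAut X), IsPGroup 2 B → Nat.card B ≤ d.q ^ 37
  sz : ∀ β : MulAut X, β * β = 1 → ∃ Y ≤ fx β, IsPGroup 2 Y ∧ d.q ^ 20 ≤ Nat.card Y
  oc : ∀ (y : X) (D : Subgroup X) (β : MulAut X), Inv2 y → IsO2 D (Cz y) → (∀ v ∈ D, β v = v) →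
    Odd (orderOf β) → β = 1

/-- All facts. -/
structure WF : Prop where
  u : WU d
  i : WI d
  a : WA d

end Facts

/-- `π : Y → X` is a perfect central extension with kernel of odd order. -/
structure OC {Y X : Type} [Group Y] [Group X] (π : Y →* X) : Prop where
  surj : Function.Surjective π
  cen : π.ker ≤ center Y
  odd : Odd (Nat.card π.ker)
  perf : commutator Y = ⊤

section Amb

variable {X : Type} [Group X] {G : Type u} [Group G]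

/-- What the endgame uses of `C(t)`. -/
structure CE (q : ℕ) (L : Subgroup G) (t : G) : Prop where
  inv : Inv2 t
  cen : t ∈ Cs L
  cz : Cz t ≤ Ns L
  two : ∀ R ≤ Cs L, IsPGroup 2 R → Nat.card R ≤ 2
  a3 : ∀ y ∈ O2 (Cz t), Is2 y → y ∈ L
  sm : ∀ P ≤ Cz t, IsPGroup 2 P → Nat.card P ≤ 2 * q ^ 37

/-- The germ of the wreath case. -/
structure WX (L : Subgroup G) (t z y : G) : Prop where
  mem : z ∈ L
  ne : z ≠ 1
  sq : y * y = 1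
  dec : z = y * (t * y * t⁻¹)
  comm : ∀ g ∈ L, Commute (g * y * g⁻¹) (t * y * t⁻¹)

/-- Unique fixed point; the elements of `T ∩ 𝓜` swap; `𝓜 = N(G₁)`. -/
structure GW (d : Sg X) (e : X →* G) (t : G) (e₁ e₂ : X →* G) : Prop where
  uf : UF (Ns (G12 e₁ e₂)) t
  odd : Odd (Nat.card (Cs (G12 e₁ e₂)))
  tx : ∀ g, g * g = 1 → IsConj t (t * e g)
  cE : Cs (d.E.map e) ≤ Ns (G12 e₁ e₂)
  pm : ∀ m ∈ Ns (G12 e₁ e₂), m ∈ Ns e₁.range ∧ m ∈ Ns e₂.range ∨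
    cjs m e₁.range = e₂.range ∧ cjs m e₂.range = e₁.range
  sw : ∀ s ∈ Ns (G12 e₁ e₂), IsConj t s → cjs s e₁.range = e₂.range

/-- Case I, first half. -/
def W1a (d : Sg X) (e₁ e₂ : X →* G) : Prop := ∀ W : Subgroup G, IsPGroup 2 W →
  W ≤ Ns (G12 e₁ e₂) → pr e₁ e₂ d.U d.U ≤ W → Ns W ≤ Ns (pr e₁ e₂ d.R d.R)

/-- Case I, second half. -/
def W1b (d : Sg X) (e₁ e₂ : X →* G) : Prop := Ns (pr e₁ e₂ d.R d.R) ≤ Ns (G12 e₁ e₂)

/-- Case II: centralisers of elements of order `4`. -/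
def W3 (t : G) (e₁ e₂ : X →* G) : Prop := ∀ s ∈ Ns (G12 e₁ e₂), IsConj t s →
  ∀ y, Inv2 y → Cz (e₁ y * s) ≤ Ns (G12 e₁ e₂)

end Amb

/-- The germ gives two commuting covers. -/
def JobW0 : Prop := ∀ (X : Type) [Group X] [Finite X] (d : Sg X), WF d → center X = ⊥ →
  ∀ (G : Type u) [Group G] [Finite G] (L : Subgroup G) (t z y : G) (_ : Cov X L), L ≤ ⁅L, L⁆ →
    CE d.q L t → WX L t z y →
    ∃ (Y : Type) (_ : Group Y) (_ : Finite Y) (π : Y →* X) (e e₁ e₂ : Y →* G),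
      OC π ∧ CW e t e₁ e₂ ∧ e.range = L

/-- The facts pass to a cover. -/
def JobWL : Prop := ∀ (X : Type) [Group X] [Finite X] (d : Sg X), WF d → center X = ⊥ →
  ∀ (Y : Type) [Group Y] [Finite Y] (π : Y →* X), OC π → ∃ d' : Sg Y, d'.q = d.q ∧ WF d'

/-- A statement in the wreath case. -/
def AllW (P : ∀ (X : Type) [Group X] (G : Type u) [Group G],
    Sg X → (X →* G) → G → (X →* G) → (X →* G) → Prop) : Prop :=
  ∀ (X : Type) [Group X] [Finite X] (d : Sg X), WF d →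
    ∀ (G : Type u) [Group G] [Finite G] (e : X →* G) (t : G), CE d.q e.range t →
      ∀ e₁ e₂ : X →* G, CW e t e₁ e₂ → P X G d e t e₁ e₂

def JobWU : Prop := AllW.{u} fun _ _ _ _ d e t e₁ e₂ => GW d e t e₁ e₂
def JobW1a : Prop := AllW.{u} fun _ _ _ _ d e t e₁ e₂ => GW d e t e₁ e₂ → W1a d e₁ e₂
def JobW1b : Prop := AllW.{u} fun _ _ _ _ d e t e₁ e₂ => GW d e t e₁ e₂ → W1b d e₁ e₂
def JobW3 : Prop := AllW.{u} fun _ _ _ _ d e t e₁ e₂ => GW d e t e₁ e₂ → W3 t e₁ e₂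
def JobWE : Prop := AllW.{u} fun _ _ _ _ d e t e₁ e₂ => GW d e t e₁ e₂ → W1a d e₁ e₂ →
  W1b d e₁ e₂ → W3 t e₁ e₂ → Ns (G12 e₁ e₂) = ⊤

/-! ### Kit -/

variable {X : Type} [Group X] [Finite X] {G : Type u} [Group G] {e e₁ e₂ : X →* G} {g t : G}
  {d : Sg X} {A B : Subgroup X}

theorem WI.eq_one (i : WI d) {a : X} (h : a ∈ center X) (h2 : Is2 a) : a = 1 :=
  h2.eq_one (H64.SG.odd_orderOf_of_mem i.odd h)

/-- `conj` is injective on `2`-elements modulo the centre. -/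
theorem cen_of_conj {a b : X} (h : MulAut.conj a = MulAut.conj b) : a⁻¹ * b ∈ center X :=
  mem_center_iff.2 fun g => by
    have := DFunLike.congr_fun h g
    simp only [MulAut.conj_apply] at this
    calc g * (a⁻¹ * b) = a⁻¹ * (a * g * a⁻¹) * b := by group
      _ = a⁻¹ * b * g := by rw [this]; group

theorem cen2 (h : CW e t e₁ e₂) {a b c f : X} (h1 : e₁ a * e₂ b = e₁ c * e₂ f) :
    a⁻¹ * c ∈ center X ∧ b⁻¹ * f ∈ center X :=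
  ⟨cen_of_conj ((h.ind₁ a b).unique h.inj (h1 ▸ h.ind₁ c f)),
    cen_of_conj ((h.ind₂ a b).unique h.inj₂ (h1 ▸ h.ind₂ c f))⟩

/-- Two `2`-elements that differ by a central element are equal. -/
theorem WI.eq_of_cen (i : WI d) {a c : X} (ha : Is2 a) (hc : Is2 c) (h : a⁻¹ * c ∈ center X) :
    a = c := by
  have h1 : a * (a⁻¹ * c) = a⁻¹ * c * a := mem_center_iff.1 h a
  have h2 : a⁻¹ * c = c * a⁻¹ := by
    rw [mul_inv_cancel_left] at h1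
    rw [eq_mul_inv_iff_mul_eq, ← h1]
  exact inv_mul_eq_one.1 (i.eq_one h (ha.inv.mul hc h2))

theorem inj2 (i : WI d) (h : CW e t e₁ e₂) {a b c f : X} (ha : Is2 a) (hc : Is2 c)
    (h1 : e₁ a * e₂ b = e₁ c * e₂ f) : a = c ∧ b = f := by
  have h2 := i.eq_of_cen ha hc (cen2 h h1).1
  subst h2
  exact ⟨rfl, h.inj₂ (mul_left_cancel h1)⟩

theorem mem_pr2 (i : WI d) (h : CW e t e₁ e₂) (hA : IsPGroup 2 A) {a b : X} (ha : Is2 a) :
    e₁ a * e₂ b ∈ pr e₁ e₂ A B ↔ a ∈ A ∧ b ∈ B :=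
  h.mem_pr.trans ⟨fun ⟨_, h1, _, h2, h3⟩ =>
    have := inj2 i h ha (H64.SG.isPGroup_iff_is2.1 hA _ h1) h3
    ⟨this.1 ▸ h1, this.2 ▸ h2⟩, fun h1 => ⟨a, h1.1, b, h1.2, rfl⟩⟩

theorem card_pr2 (i : WI d) (h : CW e t e₁ e₂) (hA : IsPGroup 2 A) (B : Subgroup X) :
    Nat.card (pr e₁ e₂ A B) = Nat.card A * Nat.card B := by
  rw [← Nat.card_prod]
  refine (Nat.card_congr (Equiv.ofBijective (fun p : A × B => (⟨e₁ p.1 * e₂ p.2,
    h.mem_pr.2 ⟨_, p.1.2, _, p.2.2, rfl⟩⟩ : pr e₁ e₂ A B)) ⟨fun p p' k => ?_, fun ⟨g, hg⟩ => ?_⟩)).symm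
  · have := inj2 i h (H64.SG.isPGroup_iff_is2.1 hA _ p.1.2) (H64.SG.isPGroup_iff_is2.1 hA _ p'.1.2)
      (congrArg Subtype.val k)
    exact Prod.ext (Subtype.ext this.1) (Subtype.ext this.2)
  · obtain ⟨a, ha, b, hb, rfl⟩ := h.mem_pr.1 hg
    exact ⟨(⟨a, ha⟩, ⟨b, hb⟩), rfl⟩

/-- `e` is injective on `2`-elements. -/
theorem e_eq_one (i : WI d) (h : CW e t e₁ e₂) {a : X} (ha : Is2 a) (h1 : e a = 1) : a = 1 :=
  (inj2 i h ha H64.SG.is2_one (f := 1) (by rw [← h.diag, h1, map_one, map_one, mul_one])).1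

theorem CE.cj {q : ℕ} {L : Subgroup G} [Finite G] (h : CE q L t) (g : G) :
    CE q (cjs g L) (g * t * g⁻¹) where
  inv := H9.UF.inv2_conj h.inv (isConj_iff.2 ⟨g, rfl⟩)
  cen := by rw [← H64.SG.cj_Cs]; exact conj_mem_cjs.2 h.cen
  cz := by rw [← H64.SG.cj_Ns, ← H64.SG.cj_Cz]; exact map_mono h.cz
  two R h1 h2 := by
    rw [← H64.SG.cj_Cs] at h1
    exact card_cjs g⁻¹ R ▸ h.two _ (cjs_inv_le h1) (h2.map _)
  a3 y h1 h2 := by
    rw [← H64.SG.cj_Cz, H64.SG.O2_eq, cjs, ← H98.map_res, ← H64.SG.O2_eq] at h1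
    obtain ⟨y, h3, rfl⟩ := h1
    exact ⟨y, h.a3 y h3 (by simpa [mul_assoc] using h2.conj g⁻¹), rfl⟩
  sm P h1 h2 := by
    rw [← H64.SG.cj_Cz] at h1
    exact card_cjs g⁻¹ P ▸ h.sm _ (cjs_inv_le h1) (h2.map _)

theorem GW.symm (h : GW d e t e₁ e₂) : GW d e t e₂ e₁ := by
  have hG : G12 e₂ e₁ = G12 e₁ e₂ := H62.TW.G12_comm
  refine ⟨hG ▸ h.uf, hG ▸ h.odd, h.tx, hG ▸ h.cE, fun m hm => ?_, fun s hs c' => ?_⟩
  · rw [hG] at hm
    rcases h.pm m hm with h1 | h1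
    exacts [Or.inl h1.symm, Or.inr h1.symm]
  · rw [hG] at hs
    exact cjs_swap (H9.UF.inv2_conj h.uf.inv c').1 (h.sw s hs c')

end H78.TW
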