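import Cfsg.Agent.H78.TETab
import Cfsg.Agent.H78.TEW

/-! STD-2E6 (row S3327): the group `X = ²E₆(q)` as the fixed points of `ph` in `Y = E₆(q²)`, and the
facts on `X` and `Y`.  Notes: `blueprints/STDE.md`.  `θ = hi D4 ↦ 71`, `R4 22 ↦ 70`, `R4 14 ↦ 46`,
`R4 9 ↦ 25 = -46`, `R4 18 ↦ 39`, `R4 20 ↦ 65`. -/

set_option autoImplicit false
set_option linter.unusedSectionVars false

namespace H78.TE

open Cfsg.Lie H63 H65 H64 H64.SG H68 H46.SF Subgroup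
open scoped commutatorElement

/-- A quadratic extension. -/
structure Qd (F K : Type) [Field F] [Field K] where
  ι : F →+* K
  σ : RingAut K
  card : Nat.card K = Nat.card F ^ 2
  ss : ∀ a, σ (σ a) = a
  fix : ∀ a, σ a = a ↔ a ∈ ι.range

/-- `Y = E₆(K)` -/
abbrev YY (K : Type) [Field K] : Type := ↥(E6.group K)
/-- the subgroup of `Y` generated by the root subgroups of `S` -/
noncomputable abbrev gY (K : Type) [Field K] (S : Set (Rt E6)) : Subgroup (YY K) := gen (XR E6 (xG E6 K)) S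
/-- the Weyl group -/
abbrev W6 : Type := ↥(H64.wdata E6).W

abbrev SU : Set (Rt E6) := {r | 36 ≤ r.1}
abbrev SR : Set (Rt E6) := {r | 1 ≤ a2 r + a4 r}
abbrev SQ : Set (Rt E6) := {r | 1 ≤ a2 r}
abbrev SA : Set (Rt E6) := {r | 1 ≤ a4 r}
abbrev SW : Set (Rt E6) := {r | 2 ≤ a4 r}
abbrev SE : Set (Rt E6) := {r | 3 ≤ a4 r}
abbrev SZ : Set (Rt E6) := {r | 2 ≤ a2 r}
abbrev SP : Set (Rt E6) := {r | 0 ≤ a2 r}

/-- `S` is a closed set of positive roots -/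
abbrev Cl0 (S : Set (Rt E6)) : Prop :=
  (∀ r ∈ S, 36 ≤ r.1) ∧ ∀ r ∈ S, ∀ s ∈ S, ip r s = -1 → su r s ∈ S
/-- and stable under the graph symmetry -/
abbrev Cl (S : Set (Rt E6)) : Prop := Cl0 S ∧ ∀ r ∈ S, gm r ∈ S

/-- the reflection in `r` -/
def rf (r s : Rt E6) : Rt E6 :=
  if ip r s = -1 then su r s else if ip r s = 1 then su (ng r) s else if ip r s = 0 then s else ng s
/-- the reflection of the twisted system -/
def rg (r s : Rt E6) : Rt E6 := if gm r = r then rf r s else rf r (rf (gm r) s)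

/-- `β` induces an automorphism of `A` -/
def AutOn {X : Type*} [Group X] (A : Subgroup X) (β : X → X) : Prop :=
  Set.BijOn β A A ∧ ∀ a ∈ A, ∀ b ∈ A, β (a * b) = β a * β b

theorem stY (K : Type) [Field K] : StB E6 (xG E6 K) := (ad E6 K).toStB

theorem gY_SU (K : Type) [Field K] : gY K SU = UU E6 (xG E6 K) :=
  congrArg _ (Set.ext fun _ => pos_iff.symm)

theorem cY {K : Type} [Field K] {r s : Rt E6} (h : 0 ≤ ip r s) (a b : K) :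
    xG E6 K r a * xG E6 K s b = xG E6 K s b * xG E6 K r a :=
  e6.comm_of_nonneg (stY K).toStN.toSt (ip_eq r s ▸ h) a b

theorem ip_gm_nonneg (r : Rt E6) : 0 ≤ ip r (gm r) := by
  rcases ip_gm_self r with e | e <;> simp [e, ip_self]

namespace Qd

variable {F K : Type} [Field F] [Field K] [CharP K 2] (T : Qd F K)

/-- the twisting automorphism -/
noncomputable def ph : MulAut (YY K) := gE K * fieldAut E6 T.σ

theorem ph_x (r : Rt E6) (a : K) : T.ph (xG E6 K r a) = xG E6 K (gm r) (T.σ a) := by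
  rw [ph, MulAut.mul_apply, fieldAut_xG, gE_x r.2, gm_val]

theorem ph_ph (g : YY K) : T.ph (T.ph g) = g :=
  DFunLike.congr_fun (hom_ext_xG (φ := T.ph.toMonoidHom.comp T.ph.toMonoidHom) (ψ := MonoidHom.id _)
    fun s hs t => by
      change T.ph (T.ph (xG E6 K (⟨s, hs⟩ : Rt E6) t)) = _
      rw [ph_x, ph_x, gm_gm, T.ss]; rfl) g

theorem fi (c : F) : T.σ (T.ι c) = T.ι c := (T.fix _).2 ⟨c, rfl⟩

/-- `X = ²E₆(q)` -/
abbrev X : Type := ↥(fx T.ph)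

/-- `x_r(u) x_{γ r}(σ u)`; for a long root this is `x_r(u + σ u)` -/
noncomputable def xs (r : Rt E6) (u : K) : T.X :=
  ⟨xG E6 K r u * xG E6 K (gm r) (T.σ u), by
    rw [mem_fx, map_mul, ph_x, ph_x, gm_gm, T.ss, cY (ip_gm_nonneg r)]⟩

/-- the long root elements, indexed by the roots of `D₄` -/
noncomputable def x (r : ℕ) (c : F) : T.X :=
  ⟨xG E6 K (lr (R4 r)) (T.ι c), by rw [mem_fx, ph_x, gm_lr, T.fi]⟩

theorem _root_.H78.TE.R4_val (r : Rt D4) : R4 r = r := Fin.ext (Nat.mod_eq_of_lt r.2)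
theorem _root_.H78.TE.R6_val (r : Rt E6) : R6 r = r := Fin.ext (Nat.mod_eq_of_lt r.2)

theorem xs_val (r : Rt E6) (u : K) :
    (T.xs r u : YY K) = xG E6 K r u * xG E6 K (gm r) (T.σ u) := rfl

theorem x_val (r : Rt D4) (c : F) : (T.x r c : YY K) = xG E6 K (lr r) (T.ι c) := by
  show xG E6 K (lr (R4 r)) (T.ι c) = _
  rw [R4_val]

theorem xs_add (r : Rt E6) (u v : K) : T.xs r u * T.xs r v = T.xs r (u + v) := Subtype.ext (by
  rw [coe_mul, xs_val, xs_val, xs_val, map_add, xE_add, xE_add, mul_assoc, mul_assoc,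
    ← mul_assoc (xG E6 K (gm r) _), ← cY (ip_gm_nonneg r), mul_assoc])

theorem xs_zero (r : Rt E6) : T.xs r 0 = 1 := Subtype.ext (by
  rw [xs_val, map_zero, xE_zero, xE_zero, mul_one]; rfl)

theorem xs_sq (r : Rt E6) (u : K) : T.xs r u * T.xs r u = 1 := by
  rw [xs_add, CharTwo.add_self_eq_zero, xs_zero]

theorem xs_inv (r : Rt E6) (u : K) : (T.xs r u)⁻¹ = T.xs r u :=
  inv_eq_of_mul_eq_one_right (T.xs_sq r u)

theorem xs_gm (r : Rt E6) (u : K) : T.xs (gm r) u = T.xs r (T.σ u) := Subtype.ext (by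
  rw [xs_val, xs_val, gm_gm, T.ss, cY (ip_gm_nonneg r)])

theorem xs_lr (r : Rt D4) {u : K} {c : F} (h : T.ι c = u + T.σ u) : T.xs (lr r) u = T.x r c :=
  Subtype.ext (by rw [xs_val, x_val, gm_lr, h, xE_add])

theorem exists_tr (u : K) : ∃ c, T.ι c = u + T.σ u :=
  (T.fix _).1 (by rw [map_add, T.ss, add_comm])

theorem exists_nm (u : K) : ∃ c, T.ι c = u * T.σ u :=
  (T.fix _).1 (by rw [map_mul, T.ss, mul_comm])

/-- the subgroup of `X` generated by the `xs r u`, `r ∈ S` -/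
noncomputable def gt (S : Set (Rt E6)) : Subgroup T.X := closure {g | ∃ r ∈ S, ∃ u, g = T.xs r u}

theorem xs_mem {S : Set (Rt E6)} {r : Rt E6} (h : r ∈ S) (u : K) : T.xs r u ∈ T.gt S :=
  subset_closure ⟨r, h, u, rfl⟩

theorem gt_le {S : Set (Rt E6)} {A : Subgroup T.X} : T.gt S ≤ A ↔ ∀ r ∈ S, ∀ u, T.xs r u ∈ A :=
  (closure_le _).trans ⟨fun h r hr u => h ⟨r, hr, u, rfl⟩, by rintro h _ ⟨r, hr, u, rfl⟩; exact h r hr u⟩

theorem gt_mono {S S' : Set (Rt E6)} (h : S ⊆ S') : T.gt S ≤ T.gt S' :=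
  T.gt_le.2 fun _ hr u => T.xs_mem (h hr) u

noncomputable abbrev U : Subgroup T.X := T.gt SU
noncomputable abbrev R : Subgroup T.X := T.gt SR
noncomputable abbrev Q : Subgroup T.X := T.gt SQ
noncomputable abbrev A : Subgroup T.X := T.gt SA
noncomputable abbrev W : Subgroup T.X := T.gt SW
noncomputable abbrev El : Subgroup T.X := T.gt SE
/-- the long root subgroup of the highest root (`= T.gt SZ`, `KB.gtZ`) -/
noncomputable abbrev Z : Subgroup T.X := XR D4 T.x (hi D4)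
/-- the centraliser of a long root subgroup -/
noncomputable abbrev P0 (r : Rt D4) : Subgroup T.X := Cs (XR D4 T.x r)
/-- long root involutions -/
def Root (g : T.X) : Prop := ∃ c : F, c ≠ 0 ∧ IsConj (T.x (hi D4) c) g

/-- the data for the wreath endgame -/
noncomputable def sg : H78.TW.Sg T.X := ⟨Nat.card F, T.U, T.R, T.Q, T.A, T.El, T.W, T.Z⟩

/-- `n` is monomial -/
def Mon (n : T.X) (w : W6) (d : Rt E6 → K) : Prop := (∀ r, w.1 (gm r) = gm (w.1 r)) ∧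
  ∀ s : Rt E6, d s ≠ 0 ∧ ∀ a, (n : YY K) * xG E6 K s a * (n : YY K)⁻¹ = xG E6 K (w.1 s) (d s * a)
/-- `n` permutes the root elements as `w` does the roots -/
def Lf (n : T.X) (w : W6) : Prop := (∀ r, w.1 (gm r) = gm (w.1 r)) ∧
  ∀ (s : Rt E6) a, (n : YY K) * xG E6 K s a * (n : YY K)⁻¹ = xG E6 K (w.1 s) a

theorem Lf.xs {n : T.X} {w : W6} (h : T.Lf n w) (s : Rt E6) (u : K) :
    n * T.xs s u * n⁻¹ = T.xs (w.1 s) u := Subtype.ext (by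
  rw [coe_mul, coe_mul, coe_inv, xs_val, xs_val, ← conj_mul, h.2, h.2, h.1])

theorem Lf.x {n : T.X} {w : W6} (h : T.Lf n w) {r s : Rt D4} (e : w.1 (lr r) = lr s) (c : F) :
    n * T.x r c * n⁻¹ = T.x s c := Subtype.ext (by
  rw [coe_mul, coe_mul, coe_inv, x_val, x_val, h.2, e])

/-- `α` extends `β` -/
def Ext (β : MulAut T.X) (α : MulAut (YY K)) : Prop := ∀ g : T.X, (β g : YY K) = α g
/-- `β` is the standard automorphism with diagonal part `d` and field part `τ` -/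
def Sd (β : MulAut T.X) (d : Fin E6.rank → Kˣ) (τ : RingAut K) : Prop :=
  (∀ i, (d (gn i) : K) = T.σ (d i)) ∧ T.Ext β (diagAut E6 d * fieldAut E6 τ)

/-- The kit (`H78/TEKit`). -/
structure KB : Prop where
  st : St D4 T.x
  inj : ∀ (r : Rt D4) c, T.x r c = 1 → c = 0
  sinj : ∀ r u, gm r ≠ r → T.xs r u = 1 → u = 0
  /-- `w + σ w = 1` -/
  half : ∃ w, w + T.σ w = 1
  x_mem : ∀ {S : Set (Rt E6)} (r : Rt D4), lr r ∈ S → ∀ c, T.x r c ∈ T.gt S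
  gtZ : T.gt SZ = T.Z
  c0 : ∀ r s, 0 ≤ ip r s → 0 ≤ ip r (gm s) → ∀ a b, T.xs r a * T.xs s b = T.xs s b * T.xs r a
  cx : ∀ (r : Rt D4) s, 0 ≤ ip (lr r) s → ∀ c b, T.x r c * T.xs s b = T.xs s b * T.x r c
  cs : ∀ r s, ip r s = -1 → 0 ≤ ip r (gm s) → ∀ a b,
    T.xs r a * T.xs s b * (T.xs r a)⁻¹ = T.xs s b * T.xs (su r s) (a * b)
  cj : ∀ (r v : Rt D4) s, gm s ≠ s → ip (lr r) s = -1 → lr v = su (su (lr r) s) (gm s) →
    ∀ u n c, T.ι n = u * T.σ u → T.xs s u * T.x r c * (T.xs s u)⁻¹ =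
      T.x r c * T.xs (su (lr r) s) (T.ι c * u) * T.x v (c * n)
  tor : ∀ (v : Rt D4) k, k ≠ 0 → ∀ r u, hh D4 T.x v k * T.xs r u * (hh D4 T.x v k)⁻¹ =
    T.xs r (T.ι k ^ ip (lr v) r * u)
  hhv : ∀ (v : Rt D4) k, ((hh D4 T.x v k : T.X) : YY K) = hh E6 (xG E6 K) (lr v) (T.ι k)
  /-- the torus elements of a short root -/
  hs : ∀ r, gm r ≠ r → ∀ a, a ≠ 0 → ∃ h ∈ T.gt {r, ng r},
    (h : YY K) = hh E6 (xG E6 K) r a * hh E6 (xG E6 K) (gm r) (T.σ a) ∧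
      T.Mon h 1 fun s => a ^ ip r s * T.σ a ^ ip (gm r) s
  gtY : ∀ S, Cl S → ∀ g : T.X, g ∈ T.gt S ↔ (g : YY K) ∈ gY K S
  card : ∀ (S : Set (Rt E6)) [DecidablePred (· ∈ S)], Cl S →
    Nat.card (T.gt S) = Nat.card F ^ (Finset.univ.filter (· ∈ S)).card
  isP : IsPGroup 2 T.U
  /-- normal form, the orbit representatives in any order -/
  prod : ∀ S, Cl S → ∀ L : List (Rt E6), L.Nodup → (∀ r ∈ L, r ∈ S) → (∀ r ∈ S, r ∈ L ∨ gm r ∈ L) →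
    ∀ g ∈ T.gt S, ∃ u : Rt E6 → K, g = (L.map fun r => T.xs r (u r)).prod
  nrm : ∀ S, Cl S → ∀ r, (∀ s ∈ S, s ≠ ng r ∧ (ip r s = -1 → su r s ∈ S)) → ∀ u, T.xs r u ∈ Ns (T.gt S)
  lf : ∀ w : W6, (∀ r, w.1 (gm r) = gm (w.1 r)) → ∃ n, T.Lf n w
  /-- words in the twisted reflections -/
  lfw : ∀ l : List (Rt E6), ∃ n ∈ T.gt {r | r ∈ l ∨ ng r ∈ l}, ∃ w, T.Lf n w ∧ ∀ s, w.1 s = l.foldr rg s
  tr1 : ∀ r, ∃ n w, T.Lf n w ∧ (w.1 r = R6 71 ∨ w.1 r = R6 68)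
  tr2 : ∀ r s r' s' : Rt D4, D4.pairing r s = D4.pairing r' s' →
    ∃ n w, T.Lf n w ∧ w.1 (lr r) = lr r' ∧ w.1 (lr s) = lr s'
  cob : ∀ v ∈ UU E6 (xG E6 K), v * T.ph v = 1 → ∃ w ∈ UU E6 (xG E6 K), v = w * (T.ph w)⁻¹

/-- The certificate lemma: `g` commutes with the tests modulo `gY V`. -/
def CT : Prop := ∀ S S' V P : Set (Rt E6), Cl0 S → Cl0 S' → S' ⊆ S → (∀ r ∈ P, 36 ≤ r.1) →
  (∀ r ∈ V, 36 ≤ r.1 ∧ ∀ s, 36 ≤ s.1 → ip r s = -1 → su r s ∈ V) →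
  (∀ r ∈ S', ∀ s ∈ P, (ip r s = -1 → su r s ∈ V) ∧ (ip r (gm s) = -1 → su r (gm s) ∈ V)) →
  (∀ r ∈ S, r ∉ S' → ∃ s ∈ P, ip r s = -1 ∧ su r s ∉ V) →
  ∀ g ∈ gY K S, (∀ s ∈ P, ∀ a, g * T.xs s a * g⁻¹ * (T.xs s a : YY K)⁻¹ ∈ gY K V) → g ∈ gY K S'

/-- Basic facts. -/
structure TB : Prop where
  simple : IsSimpleGroup T.X
  perf : commutator T.X = ⊤
  cen : ∀ g : T.X, MulAut.conj g = 1 → g = 1
  card : Nat.gcd 3 (Nat.card F + 1) * Nat.card T.X = Nat.card F ^ 36 * ((Nat.card F ^ 2 - 1) *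
    (Nat.card F ^ 5 + 1) * (Nat.card F ^ 6 - 1) * (Nat.card F ^ 8 - 1) * (Nat.card F ^ 9 + 1) *
    (Nat.card F ^ 12 - 1))
  gen : T.gt {r | hN r = 1 ∨ hN r = -1} = ⊤
  syl : Syl T.U ⊤
  frob : ∀ a, T.σ a = a ^ Nat.card F
  iso : ∃ e : twistedE6 K (Nat.card F) ≃* T.X, ∀ g, ((e g : YY K) : GL E6.Idx K) = g

/-- Bruhat decomposition, the torus, automorphisms. -/
structure TC : Prop where
  bru : ∀ g : T.X, ∃ u ∈ T.U, ∃ u' ∈ T.U, ∃ n w d, T.Mon n w d ∧ g = u * n * u'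
  tq : ∀ h d, T.Mon h 1 d → ∃ (a c : K) (b e : F), a ≠ 0 ∧ c ≠ 0 ∧ b ≠ 0 ∧ e ≠ 0 ∧ (h : YY K) =
    hh E6 (xG E6 K) 56 a * hh E6 (xG E6 K) 36 (T.σ a) * (hh E6 (xG E6 K) 42 c *
      hh E6 (xG E6 K) 37 (T.σ c)) * hh E6 (xG E6 K) 46 (T.ι b) * hh E6 (xG E6 K) 39 (T.ι e)
  ex : ∀ β : MulAut T.X, ∃ g d τ, T.Sd (MulAut.conj g * β) d τ
  exU : ∀ β : MulAut T.X, T.U.map β.toMonoidHom = T.U → ∃ g ∈ T.U, ∃ d τ, T.Sd (MulAut.conj g * β) d τ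

/-- The automorphism group. -/
structure BR : Prop where
  ext : ∀ β, ∃ α, T.Ext β α ∧ α * T.ph = T.ph * α
  res : ∀ α, α * T.ph = T.ph * α → ∃ β, T.Ext β α
  sd : ∀ (d : Fin E6.rank → Kˣ) τ, (∀ i, (d (gn i) : K) = T.σ (d i)) → ∃ β, T.Sd β d τ
  act : ∀ β d τ, T.Sd β d τ → ∀ (r : Rt E6) u, β (T.xs r u) = T.xs r (chr E6 d r * τ u)
  fl : ∃ fl : MulAut T.X →* RingAut K, (∀ β g d τ, T.Sd (MulAut.conj g * β) d τ → fl β = τ) ∧
    ∀ β, fl β = 1 → Is2 β → ∃ g, β = MulAut.conj g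
  ab : ∀ B : Subgroup (MulAut T.X), IsPGroup 2 B → Nat.card B ≤ Nat.card F ^ 37
  a3 : ∀ β ∈ O2 (⊤ : Subgroup (MulAut T.X)), Is2 β → ∃ g, β = MulAut.conj g

/-- An automorphism of `Y` that fixes `W`. -/
def CY : Prop := ∀ α : MulAut (YY K), (∀ g ∈ T.W, α g = g) →
  ∃ ζ ∈ gY K SW, α = MulAut.conj ζ ∨ α = MulAut.conj ζ * T.ph

/-- Automorphisms of `X` that fix `W`, `Q`, `P₀ ∩ P₀`. -/
structure CA : Prop where
  cW : ∀ β : MulAut T.X, (∀ g ∈ T.W, β g = g) → ∃ ζ ∈ T.W, β = MulAut.conj ζ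
  cQ : ∀ β : MulAut T.X, (∀ g ∈ T.Q, β g = g) → ∃ c, β = MulAut.conj (T.x (hi D4) c)
  cX : ∀ α : MulAut (YY K), (∀ g : T.X, α g = g) → α = 1 ∨ α = T.ph
  cp : ∀ r s : Rt D4, D4.pairing r s = 0 ∨ D4.pairing r s = 1 → ∀ β : MulAut T.X,
    (∀ g ∈ T.P0 r ⊓ T.P0 s, β g = g) → ∃ a b, β = MulAut.conj (T.x r a * T.x s b)

/-- Long root elements and their centralisers. -/
structure PA : Prop where
  cz : ∀ (r : Rt D4) c, c ≠ 0 → Cz (T.x r c) = T.P0 r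
  p0 : T.P0 (hi D4) = T.gt SP
  root : ∀ (r : Rt D4) c, c ≠ 0 → T.Root (T.x r c)
  rootc : ∀ g h, T.Root g → T.Root h → IsConj g h
  std : ∀ β : MulAut T.X, ∃ g, T.Z.map (MulAut.conj g * β).toMonoidHom = T.Z
  pair : ∀ g : T.X, ∃ u ∈ T.P0 (hi D4), ∃ (r : Rt D4) (k : F), k ≠ 0 ∧
    ∀ c, u * g * T.x (hi D4) c * (u * g)⁻¹ = T.x r (k * c)

/-- The structure of `P₀`. -/
structure PB : Prop where
  perf : T.P0 (hi D4) ≤ ⁅T.P0 (hi D4), T.P0 (hi D4)⁆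
  q0 : IsO2 T.Q (T.P0 (hi D4))
  p3 : ∀ r s v : Rt D4, rt v = rt r + rt s →
    T.P0 v ≤ (T.P0 r ⊓ T.P0 s) ⊔ gen (XR D4 T.x) {w | 0 ≤ D4.pairing v w}

/-- Local facts for phase 2a. -/
structure PC : Prop where
  zu : T.U ⊓ Cs T.U = T.Z
  z2 : ∀ g ∈ T.U, (∀ u ∈ T.U, g * u * g⁻¹ * u⁻¹ ∈ T.Z) ↔ g ∈ T.El
  el : ∀ g, g ∈ T.El ↔ ∃ c k, g = T.x 22 c * T.x (hi D4) k
  qq : ∀ v ∈ T.Q, ∀ e ∈ T.Q, v * e * v⁻¹ * e⁻¹ ∈ T.Z
  cq : T.Q ⊓ Cs T.Q = T.Z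
  nA : IsO2 T.A (Cs T.El)
  jY : ∀ c, ∀ y ∈ Cs T.El, T.x 9 c * y * (T.x 9 c)⁻¹ * y⁻¹ ∈ T.A
  fth : ∀ p ∈ T.P0 (hi D4), (∀ v ∈ T.Q, p * v * p⁻¹ * v⁻¹ ∈ T.Z) → p ∈ T.Q

/-- An automorphism of `P₀` that centralises `P₀ / Q`. -/
def AP1 : Prop := ∀ β : T.X → T.X, AutOn (T.P0 (hi D4)) β → (∀ p ∈ T.P0 (hi D4), β p * p⁻¹ ∈ T.Q) →
  ∃ m : F, m ≠ 0 ∧ ∃ v ∈ T.Q, ∀ p ∈ T.P0 (hi D4),
    β p = hh D4 T.x (hi D4) m * v * p * (hh D4 T.x (hi D4) m * v)⁻¹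

/-- The case `q = 2`. -/
def AP2 : Prop := (∀ c : F, c = 0 ∨ c = 1) → ∀ β : T.X → T.X, AutOn (T.P0 (hi D4)) β →
  (∀ y ∈ T.El, β y = y) → (∀ y ∈ Cs T.El, β y * y⁻¹ ∈ T.A) →
  ∃ v ∈ T.P0 (hi D4), ∀ p ∈ T.P0 (hi D4), β p = v * p * v⁻¹

/-- Involutions; characteristic `2` type. -/
structure IC : Prop where
  ic : ∀ g : T.X, Inv2 g → IsConj g (T.x (hi D4) 1) ∨ IsConj g (T.xs (R6 68) 1) ∨
    IsConj g (T.xs (R6 55) 1 * T.x 20 1)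
  icY : ∀ g : YY K, g * g = 1 → ∃ h : YY K, T.ph (h * g * h⁻¹) = h * g * h⁻¹
  ct : ∀ (g : T.X) (D : Subgroup T.X), Inv2 g → IsO2 D (Cz g) → Cs D ≤ D
  oc : ∀ (y : T.X) (D : Subgroup T.X) (β : MulAut T.X), Inv2 y → IsO2 D (Cz y) → (∀ v ∈ D, β v = v) →
    Odd (orderOf β) → β = 1

/-- Non-root involutions. -/
structure FC : Prop where
  a45 : ∀ (g y : T.X) (P : Subgroup T.X), Inv2 g → ¬ T.Root g → Inv2 y → Syl P (Cz g) → y ∈ Cs P →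
    IsConj g y ∨ y ∈ O2 (Cz g)
  g4 : ∀ g w : T.X, Inv2 g → ¬ T.Root g → Inv2 w → w ∈ Cs (Cz g) → IsConj g w

/-- Normal form of an outer involution. -/
def FO : Prop := ∀ β : MulAut T.X, β * β = 1 → (∀ g, β ≠ MulAut.conj g) →
  ∃ (α γ : MulAut T.X) (c : F), T.Sd γ 1 T.σ ∧ α * β * α⁻¹ = γ * MulAut.conj (T.x (hi D4) c)

/-- Automorphisms that normalise `U`. -/
structure UB : Prop where
  nr : ∀ β : MulAut T.X, T.U.map β.toMonoidHom = T.U → ∀ S, Cl S →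
    (∀ r ∈ S, ∀ s, 36 ≤ s.1 → ip r s = -1 → su r s ∈ S) → (T.gt S).map β.toMonoidHom = T.gt S
  ub : ∀ β : MulAut T.X, T.U.map β.toMonoidHom = T.U → Is2 β → (∀ g ∈ T.R, β ≠ MulAut.conj g) →
    Nat.card F ^ 12 * Nat.card ↥(T.U ⊓ fx β) ≤ Nat.card T.U

/-- The inner case of `UB.ub`. -/
def UI : Prop := ∀ u ∈ T.U, u ∉ T.R → Nat.card F ^ 12 * Nat.card ↥(T.U ⊓ Cz u) ≤ Nat.card T.U

/-- Fixed points of involutory automorphisms. -/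
structure FE : Prop where
  a4 : ∀ α : MulAut T.X, α * α = 1 → (∀ g, α ≠ MulAut.conj g) → ∀ y ∈ fx α, y * y = 1 → y ∈ O2 (fx α)
  sz : ∀ β : MulAut T.X, β * β = 1 → ∃ Y ≤ fx β, IsPGroup 2 Y ∧ Nat.card F ^ 20 ≤ Nat.card Y

/-- The fixed points of a field involution of `Y` are not involved in `X`. -/
def FT : Prop := ∀ (τ : Ty E6 K) (α : MulAut (YY K)), α * α = 1 → τ.fl α ≠ 1 → τ.gr α = 1 →
  ∃ S : Set (YY K), (∀ g ∈ S, Is2 g ∧ g ∈ O2 (fx α)) ∧ closure S ⊓ Cs (closure S) = ⊥ ∧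
    ¬ Nat.card (closure S) ∣ Nat.card T.X

end Qd

/-- An automorphism of `Y` that fixes `x₆₈(s) x₆₆(s')` acts semilinearly on its line. -/
def LN (K : Type) [Field K] : Prop := ∀ (τ : Ty E6 K) (α : MulAut (YY K)) (s s' : K), s ≠ 0 → s' ≠ 0 →
  α (xG E6 K 68 s * xG E6 K 66 s') = xG E6 K 68 s * xG E6 K 66 s' → ∀ b,
    α (xG E6 K 68 (s * b) * xG E6 K 66 (s' * b)) = xG E6 K 68 (s * τ.fl α b) * xG E6 K 66 (s' * τ.fl α b)

/-- A statement for all quadratic extensions of finite fields of characteristic `2`. -/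
def AllT (P : ∀ (F K : Type) [Field F] [Field K] [CharP K 2], Qd F K → Prop) : Prop :=
  ∀ (F K : Type) [Field F] [Finite F] [CharP F 2] [Field K] [Finite K] [CharP K 2] (T : Qd F K), P F K T

def JobKB : Prop := AllT fun _ _ _ _ _ T => T.KB
def JobCT : Prop := AllT fun _ _ _ _ _ T => T.KB → T.CT
def JobTB : Prop := AllT fun _ _ _ _ _ T => T.KB → T.TB
def JobTC : Prop := AllT fun _ _ _ _ _ T => T.KB → T.TB → T.TC
def JobBR : Prop := AllT fun _ _ _ _ _ T => T.KB → T.TB → T.TC → T.CY → T.BR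
def JobCY : Prop := AllT fun _ _ _ _ _ T => T.KB → T.CT → T.CY
def JobCA : Prop := AllT fun _ _ _ _ _ T => T.KB → T.CT → T.TB → T.BR → T.CY → T.CA
def JobPA : Prop := AllT fun _ _ _ _ _ T => T.KB → T.TB → T.TC → T.BR → T.PA
def JobPB : Prop := AllT fun _ _ _ _ _ T => T.KB → T.TB → T.PA → T.PB
def JobPC : Prop := AllT fun _ _ _ _ _ T => T.KB → T.CT → T.TB → T.CA → T.PA → T.PB → T.PC
def JobRU : Prop := AllT fun _ _ _ _ _ T => T.KB → T.CT → H78.TW.WU T.sg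
def JobAP1 : Prop := AllT fun _ _ _ _ _ T => T.KB → T.PA → T.PB → T.PC → T.AP1
def JobAP2 : Prop := AllT fun _ _ _ _ _ T => T.KB → T.CT → T.PA → T.PB → T.PC → T.AP1 → T.AP2
def JobIC : Prop := AllT fun _ _ _ _ _ T => T.KB → T.TB → T.CA → T.IC
def JobFC : Prop := AllT fun _ _ _ _ _ T => T.KB → T.CT → T.TB → T.CA → T.IC → T.FC
def JobFO : Prop := AllT fun _ _ _ _ _ T => T.KB → T.TB → T.TC → T.BR → T.FO
def JobUI : Prop := AllT fun _ _ _ _ _ T => T.KB → T.CT → T.UI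
def JobUB : Prop := AllT fun _ _ _ _ _ T => T.KB → T.TB → T.TC → T.BR → T.UI → T.UB
def JobFE : Prop := AllT fun _ _ _ _ _ T => T.KB → T.TB → T.BR → T.IC → T.FO → T.UB → T.FE
def JobFT : Prop := AllT fun _ _ _ _ _ T => T.TB → T.FT
def JobLN : Prop := ∀ (K : Type) [Field K] [Finite K] [CharP K 2], LN K

end H78.TE
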