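import Cfsg.Agent.H28.TESpec

/-! Tower NF (S1308), chapter TE part 1, slot KT: basic facts on a line and its transvections. -/

set_option autoImplicit false

open Cfsg Subgroup H14 H98 H1.Gold H31.S2 H14.GC H14.FE H14.NF H28.TE
open scoped commutatorElement

namespace H78.TEKT

universe u

section

variable {G : Type u} [Group G] {Q Q₁ E Q₂ T : Subgroup G}

theorem elc {Y : Subgroup G} (h : El Y) {a b : G} (ha : a ∈ Y) (hb : b ∈ Y) : a * b = b * a := by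
  have ia : a⁻¹ = a := inv_eq_of_mul_eq_one_right (h a ha)
  have ib : b⁻¹ = b := inv_eq_of_mul_eq_one_right (h b hb)
  have iab : (a * b)⁻¹ = a * b := inv_eq_of_mul_eq_one_right (h _ (mul_mem ha hb))
  rw [← iab, mul_inv_rev, ia, ib]

theorem k_dec (h : LN Q Q₁ E Q₂ T) : ∀ f ∈ E ⊔ T, ∃ e ∈ E, ∃ t ∈ T, f = e * t := by
  intro f hf
  refine (mem_sup_left_norm (H := E) (N := T) ?_).1 hf
  exact le_normalizer_of_le_centralizer fun e he =>
    mem_centralizer_iff.2 fun t ht => (h.comm e he t ht).symm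

theorem k_mul (h : LN Q Q₁ E Q₂ T) {e t e' t' : G} (ht : t ∈ T) (he' : e' ∈ E) :
    e * t * (e' * t') = e * e' * (t * t') := by
  calc e * t * (e' * t') = e * (t * e') * t' := by simp only [mul_assoc]
    _ = e * (e' * t) * t' := by rw [h.comm e' he' t ht]
    _ = _ := by simp only [mul_assoc]

theorem k_el (h : LN Q Q₁ E Q₂ T) : El (E ⊔ T) := by
  intro f hf
  obtain ⟨e, he, t, ht, rfl⟩ := k_dec h f hf
  rw [k_mul h ht he, h.elE e he, h.elT t ht, one_mul]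

theorem k_inE (h : LN Q Q₁ E Q₂ T) : ∀ f ∈ E ⊔ T, f ∈ Q₁ → f ∈ E := by
  intro f hf hq
  obtain ⟨e, he, t, ht, rfl⟩ := k_dec h f hf
  have h1 : t ∈ Q₁ := (Q₁.mul_mem_cancel_left (h.sE.le he).1).1 hq
  by_cases t1 : t = 1
  · rw [t1, mul_one]; exact he
  · exact absurd ⟨t1, h.elT t ht⟩ (h.hy.ti Q₁ Q₂ h.v1 h.v2 h.ne t ⟨h1, (h.sT.le ht).1⟩)

theorem k_dis (h : LN Q Q₁ E Q₂ T) : ∀ e ∈ E, e ∈ T → e = 1 := by
  intro e he ht
  by_contra e1
  exact h.hy.ti Q₁ Q₂ h.v1 h.v2 h.ne e ⟨(h.sE.le he).1, (h.sT.le ht).1⟩ ⟨e1, h.elE e he⟩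

theorem k_mx (h : LN Q Q₁ E Q₂ T) : ∀ y ∈ Q₁, y ∈ cen E → (∃ n : ℕ, y ^ 2 ^ n = 1) →
    ∀ t ∈ T, t ≠ 1 → y * t = t * y → y ∈ E := by
  rintro y hy hc ⟨n, hn⟩ t ht t1 hyt
  have hp : IsPGroup 2 (zpowers y) := by
    rintro ⟨_, m, rfl⟩
    refine ⟨n, Subtype.ext ?_⟩
    show (y ^ m) ^ 2 ^ n = 1
    rw [← zpow_natCast, ← zpow_mul, mul_comm, zpow_mul, zpow_natCast, hn, one_zpow]
  have hn2 : y ∈ nor Q₂ :=
    h.hy.cen_le Q₂ h.v2 t (h.sT.le ht).1 ⟨t1, h.elT t ht⟩ (mem_centralizer_singleton_iff.2 hyt)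
  exact h.sE.le_of_le_normalizer' hp (zpowers_le.2 ⟨hy, hn2⟩)
    (zpowers_le.2 (centralizer_le_normalizer _ hc)) (mem_zpowers y)

theorem k_nd (h : LN Q Q₁ E Q₂ T) {y : G} (hy : Tr Q₁ E T y) : ∀ t ∈ T, t ≠ 1 → ⁅t, y⁆ ≠ 1 := by
  intro t ht t1 hc
  have h4 : y ^ 2 ^ 2 = 1 := by
    calc y ^ 2 ^ 2 = y * y * (y * y) := by norm_num [pow_succ, mul_assoc]
      _ = 1 := h.elE _ hy.sq
  have hE := k_mx h y hy.mem hy.ce ⟨2, h4⟩ t ht t1 (commutatorElement_eq_one_iff_mul_comm.1 hc).symm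
  exact hy.mv (mem_centralizer_iff.2 fun s hs => (h.comm y hE s hs).symm)

theorem k_hom (h : LN Q Q₁ E Q₂ T) {y : G} (hy : Tr Q₁ E T y) :
    ∀ t ∈ T, ∀ t' ∈ T, ⁅t * t', y⁆ = ⁅t, y⁆ * ⁅t', y⁆ := by
  intro t ht t' ht'
  have e1 : ⁅t * t', y⁆ = t * ⁅t', y⁆ * t⁻¹ * ⁅t, y⁆ := by
    simp only [commutatorElement_def]; group
  rw [e1, ← h.comm _ (hy.cm t' ht') t ht, mul_inv_cancel_right]
  exact elc h.elE (hy.cm t' ht') (hy.cm t ht)

theorem k_ont [Finite G] (h : LN Q Q₁ E Q₂ T) {y : G} (hy : Tr Q₁ E T y) :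
    ∀ e ∈ E, ∃ t ∈ T, ⁅t, y⁆ = e := by
  let φ : T → E := fun t => ⟨⁅(t : G), y⁆, hy.cm t t.2⟩
  have hi : Function.Injective φ := by
    intro a b hab
    have e1 : ⁅(a : G), y⁆ = ⁅(b : G), y⁆ := congrArg Subtype.val hab
    have e2 : ⁅(a : G) * b, y⁆ = 1 := by
      rw [k_hom h hy _ a.2 _ b.2, e1]; exact h.elE _ (hy.cm _ b.2)
    have e3 : (a : G) * b = 1 := by
      by_contra e4
      exact k_nd h hy _ (mul_mem a.2 b.2) e4 e2
    exact Subtype.ext (mul_right_cancel (e3.trans (h.elT _ b.2).symm))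
  have hb : Function.Bijective φ := (Nat.bijective_iff_injective_and_card φ).2 ⟨hi, h.card.symm⟩
  intro e he
  obtain ⟨t, ht⟩ := hb.2 ⟨e, he⟩
  exact ⟨t, t.2, congrArg Subtype.val ht⟩

theorem k_fix (h : LN Q Q₁ E Q₂ T) {y : G} (hy : Tr Q₁ E T y) :
    ∀ f ∈ E ⊔ T, y * f = f * y → f ∈ E := by
  intro f hf hc
  obtain ⟨e, he, t, ht, rfl⟩ := k_dec h f hf
  have e1 : e * y = y * e := mem_centralizer_iff.1 hy.ce e he
  have e2 : t * y = y * t := by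
    apply mul_left_cancel (a := e)
    calc e * (t * y) = e * t * y := by simp only [mul_assoc]
      _ = y * e * t := by rw [← hc]; simp only [mul_assoc]
      _ = e * (y * t) := by rw [← e1]; simp only [mul_assoc]
  by_cases t1 : t = 1
  · rw [t1, mul_one]; exact he
  · exact absurd (commutatorElement_eq_one_iff_mul_comm.2 e2) (k_nd h hy t ht t1)

theorem k_nr [Finite G] (h : LN Q Q₁ E Q₂ T) {y : G} (hy : Tr Q₁ E T y) : y ∈ nor (E ⊔ T) := by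
  refine mem_normalizer_of_cj_le fun x hx => ?_
  obtain ⟨f, hf, rfl⟩ := hx
  obtain ⟨e, he, t, ht, rfl⟩ := k_dec h f hf
  have e1 : e * y = y * e := mem_centralizer_iff.1 hy.ce e he
  have e2 : y * (e * t) * y⁻¹ = e * (t * ⁅t⁻¹, y⁆) := by
    calc y * (e * t) * y⁻¹ = y * e * (t * y⁻¹) := by simp only [mul_assoc]
      _ = e * y * (t * y⁻¹) := by rw [e1]
      _ = _ := by simp only [commutatorElement_def]; group
  show y * (e * t) * y⁻¹ ∈ E ⊔ T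
  rw [e2]
  exact mul_mem (mem_sup_left he)
    (mul_mem (mem_sup_right ht) (mem_sup_left (hy.cm _ (inv_mem ht))))

theorem k_cj (h : LN Q Q₁ E Q₂ T) {y : G} (hy : Tr Q₁ E T y) :
    ∀ g ∈ nor (E ⊔ T), g ∈ nor Q₁ → Tr Q₁ E T (g * y * g⁻¹) := by
  intro g gF gQ
  have cE : ∀ e ∈ E, g * e * g⁻¹ ∈ E := fun e he =>
    k_inE h _ (conj_mem_of_mem_normalizer gF (mem_sup_left he))
      (conj_mem_of_mem_normalizer gQ (h.sE.le he).1)
  have cE' : ∀ e ∈ E, g⁻¹ * e * g ∈ E := fun e he =>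
    k_inE h _ (conj_mem_of_mem_normalizer' gF (mem_sup_left he))
      (conj_mem_of_mem_normalizer' gQ (h.sE.le he).1)
  have hce : g * y * g⁻¹ ∈ cen E := by
    refine mem_centralizer_iff.2 fun e he => ?_
    have e1 : g⁻¹ * e * g * y = y * (g⁻¹ * e * g) := mem_centralizer_iff.1 hy.ce _ (cE' e he)
    calc e * (g * y * g⁻¹) = g * (g⁻¹ * e * g * y) * g⁻¹ := by group
      _ = _ := by rw [e1]; group
  refine ⟨conj_mem_of_mem_normalizer gQ hy.mem, hce, fun t ht => ?_, ?_, fun hc => hy.mv ?_⟩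
  · obtain ⟨e, he, s, hs, e0⟩ := k_dec h _ (conj_mem_of_mem_normalizer' gF (mem_sup_right ht))
    have e1 : y * e⁻¹ = e⁻¹ * y := (mem_centralizer_iff.1 hy.ce _ (inv_mem he)).symm
    have e2 : ⁅t, g * y * g⁻¹⁆ = g * ⁅g⁻¹ * t * g, y⁆ * g⁻¹ := by
      simp only [commutatorElement_def]; group
    have e3 : ⁅e * s, y⁆ = e * ⁅s, y⁆ * e⁻¹ := by
      calc ⁅e * s, y⁆ = e * ⁅s, y⁆ * (y * e⁻¹) * y⁻¹ := by
            simp only [commutatorElement_def]; group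
        _ = _ := by rw [e1]; group
    rw [e2, e0, e3]
    exact cE _ (mul_mem (mul_mem he (hy.cm s hs)) (inv_mem he))
  · have e1 : g * y * g⁻¹ * (g * y * g⁻¹) = g * (y * y) * g⁻¹ := by group
    rw [e1]
    exact cE _ hy.sq
  · refine mem_centralizer_iff.2 fun t ht => ?_
    obtain ⟨e, he, s, hs, e0⟩ := k_dec h _ (conj_mem_of_mem_normalizer gF (mem_sup_right ht))
    have e1 : e * (g * y * g⁻¹) = g * y * g⁻¹ * e := mem_centralizer_iff.1 hce e he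
    have e2 : s * (g * y * g⁻¹) = g * y * g⁻¹ * s := mem_centralizer_iff.1 hc s hs
    have e3 : g * t * g⁻¹ * (g * y * g⁻¹) = g * y * g⁻¹ * (g * t * g⁻¹) := by
      rw [e0, mul_assoc e, e2, ← mul_assoc e, e1, mul_assoc _ e]
    calc t * y = g⁻¹ * (g * t * g⁻¹ * (g * y * g⁻¹)) * g := by group
      _ = _ := by rw [e3]; group

end

theorem jobKT : JobKT.{u} := by
  intro G _ _ Q Q₁ E Q₂ T h
  exact ⟨k_dec h, k_el h, fun a ha b hb => elc (k_el h) ha hb, k_inE h,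
    fun f hf => k_inE h.symm f (by rwa [sup_comm]), k_dis h, k_mx h, fun _ hy => k_nr h hy,
    fun _ hy => k_nd h hy, fun _ hy => k_hom h hy, fun _ hy => k_ont h hy, fun _ hy => k_fix h hy,
    fun _ hy => k_cj h hy⟩

end H78.TEKT
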