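import Cfsg.Agent.H78.F22Key

/-! Chapter F22 of `blueprints/PS3B.md`, job J: the subgroup `3⁵`. -/

set_option autoImplicit false
set_option linter.unusedSectionVars false
set_option maxRecDepth 100000
set_option synthInstance.maxSize 2048

open Cfsg Subgroup H98 H42.L3 H7.PS H39.F22
open H56.L3 (Ce Nz)
open H28.PS (SL3 Zt)
open H84.PS (V2)
open scoped Matrix

namespace H78.F22

universe u

variable {G : Type*} [Group G] {D D' : D3 G} {a b g k q r s t u v w x y : G} {i j : Fin 3}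
  {c c' ρ : Fin 3 → G} {α β : Fin 3 → ZMod 3} {X : Subgroup G}

/-- the centralizer of `z` and the `c i` -/
def JJ (D : D3 G) (c : Fin 3 → G) : Subgroup G := cn (closure {D.z, c 0, c 1, c 2})

theorem mem_JJ : x ∈ JJ D c ↔ x ∈ Ce D.z ∧ ∀ i, x ∈ Ce (c i) := by
  simp [JJ, centralizer_closure, mem_centralizer_iff, Fin.forall_fin_succ, eq_comm]

theorem z_cnJ : D.z ∈ cn (JJ D c) := fun _ hx => mem_Ce.1 (mem_JJ.1 hx).1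

theorem c_cnJ (i : Fin 3) : c i ∈ cn (JJ D c) := fun _ hx => mem_Ce.1 ((mem_JJ.1 hx).2 i)

variable [Finite G]

theorem nrJ (hz : u * D.z * u⁻¹ ∈ cn (JJ D c)) (hc : ∀ i, u * c i * u⁻¹ ∈ cn (JJ D c)) :
    u ∈ nr (JJ D c) := by
  have h1 : ∀ x ∈ JJ D c, ∀ y, u * y * u⁻¹ ∈ cn (JJ D c) → u⁻¹ * x * u ∈ Ce y := fun x hx y e => by
    simpa [mul_assoc] using conj_mem_Ce (mem_Ce.2 (e x hx)) u⁻¹
  exact inv_mem_iff.1 (mem_normalizer_of_cj_le (le_cj_iff.1 fun x hx => mem_cj.2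
    (mem_JJ.2 ⟨h1 x hx _ hz, fun i => h1 x hx _ (hc i)⟩)))

section

variable (h : H3 D) (cQ : ∀ i, c i ∈ D.Q i) (cz : ∀ i, c i ∉ zpowers D.z)
include h cQ

theorem zJ : D.z ∈ JJ D c := mem_JJ.2 ⟨mem_Ce.2 rfl, fun i => Ce_symm ((co h i).le_Ce (cQ i))⟩

theorem cJ (i : Fin 3) : c i ∈ JJ D c := mem_JJ.2 ⟨(co h i).le_Ce (cQ i), fun j => by
  by_cases e : i = j
  exacts [mem_Ce.2 (by rw [e]), mem_Ce.2 (QQc h e (cQ i) (cQ j))]⟩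

include cz

theorem JB (hx : x ∈ JJ D c) : x ∈ D.B := B_of h (mem_JJ.1 hx).1 (Equiv.ext fun i =>
  sg_eq h (CeN (mem_JJ.1 hx).1) (cQ i) (cz i) ((mem_Ce'.1 ((mem_JJ.1 hx).2 i)).symm ▸ cQ i))

theorem JP (hx : x ∈ JJ D c) (e : D.P x) : x ∈ D.QQ := h.ker x e.1 fun i =>
  (sl_q8 _ (e.2 i)).2 _ (H84.PS.lne (co h i) (cQ i) (cz i))
    (H84.PS.fix_of_comm (co h i) (BN e.1 i) (cQ i) (mem_Ce.1 ((mem_JJ.1 hx).2 i)).symm)

theorem JQ (hx : x ∈ JJ D c) (e : x ∈ D.QQ) : ∃ b α, x = zp D.z b * cc c α := by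
  have h1 : ∀ i, ∃ n : ZMod 3, L D i x = n • D.l i (c i) := fun i => by
    obtain ⟨a, ha, e1⟩ := exC h e i
    rw [L_eq h ha e1]
    refine (by decide +kernel : ∀ u v : V2, v ≠ 0 → u 0 * v 1 - u 1 * v 0 = 0 → ∃ n : ZMod 3, u = n • v)
      _ _ (H84.PS.lne (co h i) (cQ i) (cz i)) (((co h i).comm_iff ha (cQ i)).1 (mem_Ce.1 ?_))
    exact inv_mem_iff.1 ((mul_mem_cancel_right ((mem_JJ.1 hx).2 i)).1 (mem_Ce.2 (e1 _ (cQ i)).symm))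
  choose α hα using h1
  have h2 := cc_mem (α := α) fun i => Qle i (cQ i)
  obtain ⟨b, hb⟩ := exists_zp h.ord (cnQ h fun i => L_zero h (mul_mem e (inv_mem h2)) (by
    have := L_cc' (α := α) (τ := 1) h cQ (one_mem _) i
    rw [one_mul] at this
    rw [L_mul h e (inv_mem h2), L_inv h h2, hα, add_neg_eq_zero]
    exact this.symm))
  exact ⟨b, α, mul_inv_eq_iff_eq_mul.1 hb⟩

theorem JQ_le (hz : D.z ∈ X) (hc : ∀ i, c i ∈ X) (hx : x ∈ JJ D c) (e : x ∈ D.QQ) : x ∈ X := by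
  obtain ⟨b, α, rfl⟩ := JQ h cQ cz hx e
  exact mul_mem (zp_mem' hz _) (cc_mem hc)

theorem J_dec (w : HW D) (hs : s ∈ JJ D c) (n : s ∉ D.QQ) (hx : x ∈ JJ D c) :
    ∃ n : ℕ, x * s ^ n ∈ D.QQ :=
  ((w.bs s (JB h cQ cz hs) (mt (JP h cQ cz hs) n)).2 x (JB h cQ cz hx)).imp fun _ e =>
    JP h cQ cz (mul_mem hx (pow_mem hs _)) e

theorem J_le (w : HW D) (hs : s ∈ JJ D c) (n : s ∉ D.QQ) (hz : D.z ∈ X) (hc : ∀ i, c i ∈ X)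
    (hX : s ∈ X) : JJ D c ≤ X := fun _ hx =>
  let ⟨n, e⟩ := J_dec h cQ cz w hs n hx
  (mul_mem_cancel_right (pow_mem hX n)).1 (JQ_le h cQ cz hz hc (mul_mem hx (pow_mem hs n)) e)

end

omit [Finite G] in
/-- a conjugate of `z` in `Q` -/
structure Pr (D D' : D3 G) (c : Fin 3 → G) : Prop where
  h : H3 D
  w : HW D
  cQ : ∀ i, c i ∈ D.Q i
  cz : ∀ i, c i ∉ zpowers D.z
  y : D'.z = c 0 * c 1 * c 2
  cyc : ∃ w ∈ D'.QQ ⊓ Ce D.z, ∀ i, cj w (D.Q i) = D.Q (i + 1)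

theorem Pr.ncn (p : Pr D D' c) (i : Fin 3) : D'.z ∉ cn (D.Q i) :=
  W3_cn p.h ⟨c, fun i => ⟨p.cQ i, p.cz i⟩, p.y⟩ i

theorem Pr.Jy (p : Pr D D' c) (hx : x ∈ JJ D c) : x ∈ Ce D'.z := Ce_symm (p.y ▸ mul_mem (mul_mem
  (Ce_symm ((mem_JJ.1 hx).2 0)) (Ce_symm ((mem_JJ.1 hx).2 1))) (Ce_symm ((mem_JJ.1 hx).2 2)))

theorem Pr.mv (p : Pr D D' c) (hu : u ∈ Ce D.z) (hu' : u ∈ Ce D'.z) (i : Fin 3) :
    (c (sg D u i))⁻¹ * (u * c i * u⁻¹) ∈ zpowers D.z := by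
  have h1 := fun i => p.y ▸ comp p.h p.cQ i
  refine uniq p.h (p.cQ _) (sg_spec p.h (CeN hu) i ▸ conj_mem_cj (p.cQ i)) (h1 _) ?_
  have := sg_cn p.h (CeN hu) (h1 i)
  rwa [← conj_mul, mem_Ce'.1 hu', ← conj_inv] at this

theorem Pr.nr (p : Pr D D' c) (hu : u ∈ Ce D.z) (hu' : u ∈ Ce D'.z) : u ∈ nr (JJ D c) :=
  nrJ ((mem_Ce'.1 hu).symm ▸ z_cnJ) fun i => (mul_mem_cancel_left (inv_mem (c_cnJ _))).1
    (zpowers_le.2 z_cnJ (p.mv hu hu' i))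

section

variable (p : Pr D D' c) (p' : Pr D' D c')
include p p'

theorem Pr.AB (ha : a ∈ JJ D c) (hQ : a ∈ D.QQ) : a ∈ D'.B := by_contra fun n => by
  have h1 := p'.Jy (cJ p'.h p'.cQ 0)
  have h2 := (co p'.h 0).le_Ce (p'.cQ 0)
  have h3 : a * c' 0 * a⁻¹ * (c' 0)⁻¹ ∈ Ce a := by
    rw [mul_assoc, mul_assoc, ← mul_assoc (c' 0)]
    exact mul_mem (mem_Ce.2 rfl) (mem_Ce.2 (JQ_le p.h p.cQ p.cz z_cnJ c_cnJ ha hQ _
      (conj_mem_of_mem_normalizer (p.nr h1 h2) (inv_mem ha))))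
  have ay := p.Jy ha
  obtain ⟨e0, e1, e2⟩ := (by decide +kernel : ∀ σ : Equiv.Perm (Fin 3), σ ^ 3 = 1 → σ ≠ 1 →
    σ 0 ≠ σ (σ 0) ∧ 0 ≠ σ (σ 0) ∧ σ 0 ≠ 0) _ (sg3 p'.h ay (cubeQ p.h hQ)) (mt (B_of p'.h ay) n)
  have h4 : a * c' 0 * a⁻¹ ∈ D'.Q (sg D' a 0) := sg_spec p'.h (CeN ay) 0 ▸ conj_mem_cj (p'.cQ 0)
  have h5 := cycL p'.h ay (cubeQ p.h hQ) n (Ce_symm h3)
    (mul_mem (p'.h.QQ _ _ e0 h4) (inv_mem (p'.h.QQ _ _ e1 (p'.cQ 0))))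
  exact e2 (sg_eq p'.h (CeN ay) (p'.cQ 0) (p'.cz 0)
    ((mul_mem_cancel_right (inv_mem (p'.cQ 0))).1 ((co p'.h 0).zle h5)))

theorem Pr.mv' (i j : Fin 3) : (c' j)⁻¹ * (c i * c' j * (c i)⁻¹) ∈ zpowers D'.z := by
  have h1 := p.AB p' (cJ p.h p.cQ i) (Qle i (p.cQ i))
  have := p'.mv (Bz h1) ((co p.h i).le_Ce (p.cQ i)) j
  rwa [sg_B p'.h h1] at this

theorem Pr.cJ (j : Fin 3) : c' j ∈ JJ D c := mem_JJ.2 ⟨p'.Jy (F22.cJ p'.h p'.cQ j), fun i => by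
  have h1 := p.mv' p' i j
  have h2 := p'.mv' p j i
  have h3 := comm_of_mem ((co p.h i).le_Ce (p.cQ i)) h2
  have h4 := comm_of_mem ((co p'.h j).le_Ce (p'.cQ j)) h1
  have h5 : (c' j)⁻¹ * (c i * c' j * (c i)⁻¹) = ((c i)⁻¹ * (c' j * c i * (c' j)⁻¹))⁻¹ := by
    calc _ = c' j * ((c' j)⁻¹ * (c i * c' j * (c i)⁻¹)) * (c' j)⁻¹ := by rw [h4]; group
      _ = (c i * ((c i)⁻¹ * (c' j * c i * (c' j)⁻¹)) * (c i)⁻¹)⁻¹ := by group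
      _ = _ := by rw [h3]; group
  have h6 := zpow_inf p'.h.ord (fun e => p.ncn 0 (z_cn p.h e 0)) h1 (h5 ▸ inv_mem h2)
  rw [inv_mul_eq_one, eq_mul_inv_iff_mul_eq] at h6
  exact mem_Ce.2 h6⟩

theorem Pr.nQ (i : Fin 3) : c i ∉ D'.QQ := fun e => by
  obtain ⟨w, ⟨hw, hw'⟩, cyc⟩ := p.cyc
  have h1 : w * c i * w⁻¹ ∈ D.Q (i + 1) := cyc i ▸ conj_mem_cj (p.cQ i)
  obtain ⟨e0, e1, e2⟩ := (by decide : ∀ i : Fin 3, i + 1 ≠ i + 2 ∧ i ≠ i + 2 ∧ i ≠ i + 1) i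
  have h2 := zpow_inf p'.h.ord (p.ncn (i + 2)) (comQ p'.h hw e)
    (mul_mem (p.h.QQ _ _ e0 h1) (inv_mem (p.h.QQ _ _ e1 (p.cQ i))))
  exact p.cz i (infQ p.h e2 (p.cQ i) (mul_inv_eq_one.1 h2 ▸ h1))

theorem Pr.le : JJ D c ≤ JJ D' c' :=
  J_le p.h p.cQ p.cz p.w (p.cJ p' 0) (p'.nQ p 0) (p'.y ▸ mul_mem (mul_mem (F22.cJ p'.h p'.cQ 0)
    (F22.cJ p'.h p'.cQ 1)) (F22.cJ p'.h p'.cQ 2)) (p'.cJ p) (F22.cJ p'.h p'.cQ 0)

theorem Pr.ex : ∃ k ∈ H42.L3.nr (JJ D c), k * D.z * k⁻¹ ∉ D.QQ := by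
  obtain ⟨r, hr⟩ := ex_ty p'.h 0
  obtain ⟨l, e⟩ := hr.inv p'.h (p'.cQ 0)
  have h1 : ∀ j, j ≠ 0 → r * c' j * r⁻¹ = c' j := fun j e => by
    rw [← hr.cn p'.h e _ (p'.cQ j), mul_inv_cancel_right]
  refine ⟨r, le_antisymm (p.le p') (p'.le p) ▸ nrJ ((mem_Ce'.1 (Bz hr.B)).symm ▸ z_cnJ) fun j => ?_,
    fun n => p'.nQ p 0 (sq_mem ((p'.h.sd 0).cube _ (p'.cQ 0)) ?_)⟩
  · by_cases e1 : j = 0
    · rw [e1, e]; exact mul_mem (zp_mem' z_cnJ _) (inv_mem (c_cnJ 0))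
    · rw [h1 j e1]; exact c_cnJ j
  · have h2 : D'.z ∈ D.QQ := (memQ p.h).2 ⟨c, p.cQ, p.y⟩
    have h3 := mul_mem (zQ p.h (mem_zpowers _)) (inv_mem (mul_mem (inv_mem (zp_mem' h2 l)) n))
    rw [p'.y, ← conj_mul, ← conj_mul, e, h1 1 (by decide), h1 2 (by decide)] at h3
    simpa [mul_assoc] using h3

end

theorem ex_pr (h : H3 D) (v : HV D) (hg : g * D.z * g⁻¹ ∈ D.QQ) (n : g * D.z * g⁻¹ ∉ zpowers D.z) :
    ∃ c, Pr D (dc D g) c :=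
  let ⟨c, hc, e⟩ := (v.wt _ hg (Zt_conj g)).resolve_left n
  ⟨c, h, hw_of h v, fun i => (hc i).1, fun i => (hc i).2, e, dc_QQ (D := D) ▸ (v.pair g hg n).2.2⟩

theorem part1 (h : H3 D) (v : HV D) : ∃ c k w, (∀ i, c i ∈ D.Q i) ∧ (∀ i, c i ∉ zpowers D.z) ∧
    Zt D.z (c 0 * c 1 * c 2) ∧ k ∈ nr (JJ D c) ∧ k * D.z * k⁻¹ ∉ D.QQ ∧ w ∈ Ce D.z ∧
    ∀ i, cj w (D.Q i) = D.Q (i + 1) := by
  obtain ⟨g, hg, n⟩ : ∃ g, g * D.z * g⁻¹ ∈ D.QQ ∧ g * D.z * g⁻¹ ∉ zpowers D.z := by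
    obtain ⟨y, hy, ⟨g, e | e⟩, n⟩ := v.ex
    exacts [⟨g, e ▸ hy, e ▸ n⟩, ⟨g, e ▸ inv_mem hy, e ▸ mt inv_mem_iff.1 n⟩]
  obtain ⟨c, p⟩ := ex_pr h v hg n
  obtain ⟨c', p'⟩ := ex_pr (g := g⁻¹) h v (by simpa using v.sym g hg)
    fun e => n (mem_Nz.1 (inv_mem_iff.1 (mem_Nz.2 e)))
  have p2 : Pr (dc D g) D fun i => g * c' i * g⁻¹ := by
    obtain ⟨w, ⟨hw, hw'⟩, e⟩ := p'.cyc
    refine ⟨H3.dc h g, p.w.dc g, fun i => conj_mem_cj (p'.cQ i), fun i e => p'.cz i ?_, ?_,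
      g * w * g⁻¹, ⟨?_, conj_mem_Ce hw' g⟩, fun i => ?_⟩
    · rwa [dc_z, ← cj_zp, conj_mem_cj_iff] at e
    · rw [conj_mul, conj_mul, ← p'.y, dc_z]; group
    · rw [dc_QQ] at hw
      simpa using mem_cj.1 hw
    · rw [dc_Q, dc_Q, ← e, cj_cj, cj_cj, inv_mul_cancel_right]
  obtain ⟨k, hk, n⟩ := p.ex p2
  obtain ⟨w, hw, e⟩ := p.cyc
  exact ⟨c, k, w, p.cQ, p.cz, p.y ▸ Zt_conj g, hk, n, hw.2, e⟩

section

variable (h : H3 D)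
include h

theorem Zt_z (hy : y ∈ D.QQ) (n : y ∉ cn (D.Q 0)) (e : Zt D.z y) (b : ZMod 3) :
    Zt D.z (zp D.z b * y) := by
  obtain ⟨a, ha, e1⟩ := exC h hy 0
  obtain ⟨q, hq, e2⟩ := H84.PS.mov (co h 0) ha
    (fun e => n ((mul_mem_cancel_left (inv_mem (z_cn h e 0))).1 e1)) b
  have := Zt_cj e q
  rwa [← mul_inv_cancel_left a y, ← conj_mul, e2, e1 q hq, mul_inv_cancel_right, mul_assoc,
    mul_inv_cancel_left] at this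

theorem mk_fr (ty : ∀ i, Ty D i (ρ i)) (cQ : ∀ i, c i ∈ D.Q i) (cz : ∀ i, c i ∉ zpowers D.z)
    (rcr : ∀ i, ρ i * c i * (ρ i)⁻¹ = (c i)⁻¹) (e : Zt D.z (c 0 * c 1 * c 2)) : Fr D c ρ := by
  refine ⟨ty, cQ, cz, rcr, fun α hα => ?_⟩
  have h1 : ∀ i, ∃ s, s * c i * s⁻¹ = zp (c i) (α i) ∧ ∀ j, j ≠ i → ∀ a ∈ D.Q j, s * a * s⁻¹ = a :=
    fun i => by
    rcases z3 (α i) with e | e | e
    · exact (hα i e).elim
    · exact ⟨1, by simp [e, zp_one], by simp⟩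
    · refine ⟨ρ i, ?_, fun j e a ha => by rw [← (ty i).cn h e a ha, mul_inv_cancel_right]⟩
      rw [rcr, e, inv_eq_iff_mul_eq_one]
      exact (pow_succ' _ 2).symm.trans ((h.sd i).cube _ (cQ i))
  choose s e1 e2 using h1
  have h3 := fun i => zp_mem' (cQ i) (α i)
  have h2 := Zt_cj e (s 2)
  rw [← conj_mul, ← conj_mul, e1, e2 2 0 (by decide) _ (cQ 0), e2 2 1 (by decide) _ (cQ 1)] at h2
  replace h2 := Zt_cj h2 (s 1)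
  rw [← conj_mul, ← conj_mul, e1, e2 1 0 (by decide) _ (cQ 0), e2 1 2 (by decide) _ (h3 2)] at h2
  replace h2 := Zt_cj h2 (s 0)
  rwa [← conj_mul, ← conj_mul, e1, e2 0 1 (by decide) _ (h3 1), e2 0 2 (by decide) _ (h3 2)] at h2

theorem nz (v : HV D) (f : Fr D c ρ) (hq : q ∈ JJ D c) (n : q ∉ D.QQ) (hr : ∀ i, q ∈ Ce (ρ i))
    (zt : Zt D.z q) (e : Zt D.z (q * cc c α)) (e0 : α i = 0) : α = 0 := by
  obtain ⟨g, h1, h2⟩ : ∃ g, q ∈ zpowers (g * D.z * g⁻¹) ∧ g * D.z * g⁻¹ ∈ zpowers q := by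
    obtain ⟨g, e | e⟩ := zt
    · exact ⟨g, e ▸ ⟨mem_zpowers _, mem_zpowers _⟩⟩
    · exact ⟨g, e ▸ ⟨inv_mem_iff.1 (mem_zpowers _), inv_mem (mem_zpowers _)⟩⟩
  have h3 : ∀ x, q ∈ Ce x → x ∈ Ce (g * D.z * g⁻¹) := fun x e => Ce_symm (zpowers_le.2 e h2)
  obtain ⟨-, -, τ, hτ⟩ := key' h v f rfl (fun e => n (zpowers_le.2 e h1)) (h3 _ (mem_JJ.1 hq).1)
    (fun i => h3 _ ((mem_JJ.1 hq).2 i)) fun i => h3 _ (hr i)
  exact Z0 (H3.dc h g) ((hw_of h v).dc g) (fun i => (hτ i).1) (fun i => (hτ i).2.1) h1 (dc_Zt.2 e) e0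

theorem part3 (v : HV D) (f : Fr D c ρ) (hk : k ∈ nr (JJ D c)) (hz : k * D.z * k⁻¹ = t)
    (n : t ∉ D.QQ) (tr : ∀ i, t * ρ i = ρ i * t) {x : Fin 3 → G} {e : Fin 3 → ZMod 3}
    (e0 : ∀ i, e i ≠ 0) (xQ : ∀ i, x i ∈ D.Q i) (xt : ∀ i, x i * t * (x i)⁻¹ = t * c i * zp D.z (-e i))
    (xc : ∀ i, x i * c i * (x i)⁻¹ = c i * zp D.z (e i)) (hw : w ∈ Ce D.z)
    (cyc : ∀ i, cj w (D.Q i) = D.Q (i + 1)) : ∃ π, HJ3 D t c ρ x π k (e 0) (JJ D c) := by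
  have W := hw_of h v
  have tJ : t ∈ JJ D c := hz ▸ conj_mem_of_mem_normalizer hk (zJ h f.cQ)
  have tZ : Zt D.z t := hz ▸ Zt_conj k
  have ot : orderOf t = 3 := hz ▸ (H3.dc h k).ord
  have tB := JB h f.cQ f.cz tJ
  have T : Tf D t c := ⟨f.cQ, Bz tB, z_cube ot, fun i => mem_Ce.1 ((mem_JJ.1 tJ).2 i)⟩
  have E1 : ∀ b α, el D.z t c 1 b α = t * zp D.z b * cc c α := fun b α => by rw [el_eq, zp_one]
  have E0 : el D.z t c 1 0 0 = t := by rw [E1, zp_zero, cc_zero, mul_one, mul_one]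
  have ee : ∀ i, e i = e 0 := fun i => by_contra fun ne => by
    have i0 : i ≠ 0 := fun e1 => ne (e1 ▸ rfl)
    have h1 := Zt_cj (Zt_cj (show Zt D.z (el D.z t c 1 0 0) by rwa [E0]) (x 0)) (x i)
    rw [xel h T (xQ 0) (xt 0) (xc 0), xel h T (xQ i) (xt i) (xc i), E1] at h1
    obtain ⟨l, l1, l2, -⟩ := other i 0 i0
    have h2 := (by decide : ∀ a b : ZMod 3, a ≠ 0 → b ≠ 0 → a ≠ b → -b - a = 0) _ _ (e0 i) (e0 0) ne
    simp only [Pi.zero_apply, mul_zero, add_zero, zero_add, one_smul, mul_one, zero_sub,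
      Pi.single_eq_of_ne i0, h2, zp_zero] at h1
    have h3 := congrFun (nz (i := l) h v f tJ n (fun i => mem_Ce.2 (tr i)) tZ h1 (by simp [l1, l2])) i
    simp [i0] at h3
  simp only [ee] at xt xc
  have e1 := e0 0
  generalize e 0 = ε at xt xc e1
  have O : ∀ b α, Zt D.z (el D.z t c 1 b α) ↔
      Zt D.z (el D.z t c 1 (b + ε * 1 * (α 0 * α 0 + α 1 * α 1 + α 2 * α 2)) 0) := fun b α => by
    obtain ⟨k, -, e⟩ := orb (X := ⊤) (α := α) h T xQ xt xc one_ne_zero b fun _ _ => mem_top _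
    rw [← e]
    exact ⟨fun e1 => Zt_cj e1 k, fun e1 => by simpa [mul_assoc] using Zt_cj e1 k⁻¹⟩
  have N : ∀ s, Zt D.z (el D.z t c 1 s 0) → s = 0 := fun s e => by_contra fun s0 => by
    obtain ⟨α, a0, a1, a2⟩ := (by decide +kernel : ∀ s ε : ZMod 3, s ≠ 0 → ε ≠ 0 →
      ∃ α : Fin 3 → ZMod 3, α 0 = 0 ∧ α ≠ 0 ∧
        s + ε * 1 * (α 0 * α 0 + α 1 * α 1 + α 2 * α 2) = 0) s ε s0 e1
    have h1 := (O s α).2 (by rw [a2, E0]; exact tZ)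
    rw [E1, cc_zero, mul_one] at e
    have zs := fun X (e : D.z ∈ X) => zp_mem' (X := X) e s
    exact a1 (nz h v f (mul_mem tJ (zs _ (zJ h f.cQ)))
      (fun e => n ((mul_mem_cancel_right (zs _ (zQ h (mem_zpowers _)))).1 e))
      (fun i => mul_mem (mem_Ce.2 (tr i)) (zs _ (Ce_symm (Bz (f.ty i).B)))) e (E1 s α ▸ h1) a0)
  have zQ' := zQ h (mem_zpowers D.z)
  have cQ' := fun i => Qle i (f.cQ i)
  have I : ∀ a b α, el D.z t c a b α = 1 → a = 0 ∧ b = 0 ∧ α = 0 := fun a b α e => by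
    have h1 : a = 0 := zp_of T.t3 ((mul_mem_cancel_right (mul_mem (zp_mem' zQ' b)
      (cc_mem (α := α) cQ'))).1 (by rw [← mul_assoc, ← el_eq, e]; exact one_mem _)) n
    rw [h1, el_eq, zp_zero, one_mul] at e
    have h2 := cc_z (τ := 1) h f.cQ f.cz (zp_mem b) (e ▸ one_mem _)
    rw [h2, cc_zero, mul_one] at e
    exact ⟨h1, zp_eq_one h.ord e, h2⟩
  have Z1 : ∀ b α, Zt D.z (el D.z t c 1 b α) ↔
      α 0 * α 0 + α 1 * α 1 + α 2 * α 2 + ε * 1 * b = 0 := fun b α => by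
    rw [O, (by decide : ∀ ε b s : ZMod 3, ε ≠ 0 → (s + ε * 1 * b = 0 ↔ b + ε * 1 * s = 0)) _ _ _ e1]
    exact ⟨N _, fun e => by rw [e, E0]; exact tZ⟩
  have M : ∀ g, g ∈ JJ D c ↔ ∃ a b α, g = el D.z t c a b α := fun g => by
    refine ⟨fun hg => ?_, fun ⟨a, b, α, e⟩ => e ▸ el_mem tJ (zJ h f.cQ) (cJ h f.cQ) a b⟩
    obtain ⟨l, e⟩ := J_dec h f.cQ f.cz W tJ n hg
    obtain ⟨b, α, e⟩ := JQ h f.cQ f.cz (mul_mem hg (pow_mem tJ l)) e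
    have h1 : g ∈ Ce t := J_le h f.cQ f.cz W tJ n (Ce_symm T.tz)
      (fun i => mem_Ce.2 (T.tc i).symm) (mem_Ce.2 rfl) hg
    refine ⟨-l, b, α, ?_⟩
    rw [el_eq, mul_assoc, ← e, zp_neg ot, zp_natCast ot,
      ((show Commute g t from mem_Ce.1 h1).pow_right l).eq, inv_mul_cancel_left]
  obtain ⟨u, hu, pu⟩ := corr h f.ty hw
  obtain ⟨k1, -, τ, hτ⟩ := key' h v f hz n (Ce_symm T.tz) (fun i => mem_Ce.2 (T.tc i).symm)
    fun i => mem_Ce.2 (tr i).symm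
  rw [dc_QQ] at k1
  have tq : t ∈ cj k D.QQ := hz ▸ conj_mem_cj zQ'
  have cq : ∀ i, c i ∈ cj k D.QQ := fun i => dc_QQ.le (Qle _ (hτ i).1)
  refine ⟨u * w, (z3 ε).resolve_left e1, fun i => (f.ty i).B, fun i => (f.ty i).sq,
    fun i => (f.ty i).neg, fun i => (f.ty i).one, fun i j e => (f.ty i).cn h e, fun i j => ?_,
    mul_mem (Bz (QB h hu)) hw, fun i => by rw [pu, sg_of h (CeN hw) (cyc i)], f.cQ, f.cz, f.rcr, tB,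
    T.t3, (W.bs t tB fun e => n (P_Q h e T.t3)).1, T.tc, tr, xQ, xt, xc, rfl, M, I,
    fun a b α => ?_, hk, hz, le_antisymm ?_ ((closure_le _).2 ?_)⟩
  · by_cases e : i = j
    exacts [by rw [e], (f.ty i).comm h (f.ty j) e]
  · rcases z3 a with rfl | rfl | rfl
    · rw [mul_zero, zero_mul, add_zero, (by decide +kernel : ∀ α : Fin 3 → ZMod 3,
        α 0 * α 0 + α 1 * α 1 + α 2 * α 2 = 0 ↔ α = 0 ∨ ∀ i, α i ≠ 0), el_eq, zp_zero, one_mul]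
      refine ⟨fun e => ⟨Zt_ne h e, or_iff_not_imp_right.2 fun e1 => ?_⟩, ?_⟩
      · obtain ⟨i, e1⟩ := not_forall.1 e1
        exact Z0 (τ := 1) h W f.cQ f.cz (zp_mem b) e (not_not.1 e1)
      · rintro ⟨e, rfl | e'⟩
        · rw [cc_zero, mul_one] at e ⊢
          rcases mem_cases h.ord (zp_mem b) with e1 | e1 | e1
          exacts [(e e1).elim, ⟨1, .inl (by simp [e1])⟩, ⟨1, .inr (by simp [e1])⟩]
        · refine Zt_z h (cc_mem cQ') (fun e1 => ?_) (f.zt α e') b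
          have := L_cc' (α := α) (τ := 1) h f.cQ (one_mem _) 0
          rw [one_mul, Equiv.Perm.one_apply, L_cn h e1, eq_comm, smul_eq_zero] at this
          exact this.elim (e' 0) (H84.PS.lne (co h 0) (f.cQ 0) (f.cz 0))
    · exact (Z1 b α).trans (and_iff_right fun e => one_ne_zero (I _ _ _ e).1).symm
    · rw [and_iff_right fun e => one_ne_zero (neg_eq_zero.1 (I _ _ _ e).1)]
      have h1 := Z1 (-b) (-α)
      rw [← neg_neg (1 : ZMod 3), el_neg h T, neg_neg] at h1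
      simp only [Pi.neg_apply, mul_neg, neg_mul, neg_neg] at h1 ⊢
      exact ⟨fun e => h1.1 (Zt_inv e), fun e => by simpa using Zt_inv (h1.2 e)⟩
  · rintro g ⟨hg, hq⟩
    obtain ⟨a, b, α, rfl⟩ := (M g).1 hg
    have h1 := (mul_mem_cancel_left (zp_mem' tq a)).1 ((mul_mem_cancel_right (cc_mem cq)).1 hq)
    rw [zp_of (z_cube h.ord) h1 k1, el_eq, zp_zero, mul_one]
    exact mul_mem (zp_mem' (subset_closure (by simp)) _) (cc_mem fun i => subset_closure (by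
      rcases f3 i with rfl | rfl | rfl <;> simp))
  · rintro _ (rfl | rfl | rfl | rfl)
    exacts [⟨tJ, tq⟩, ⟨cJ h f.cQ 0, cq 0⟩, ⟨cJ h f.cQ 1, cq 1⟩, ⟨cJ h f.cQ 2, cq 2⟩]

end

theorem jobJ : JobJ.{u} := fun G _ _ D h _ v => by
  obtain ⟨c, k, w, cQ, cz, zt, hk, n, hw, cyc⟩ := part1 h v
  have tJ := conj_mem_of_mem_normalizer hk (zJ h cQ)
  have t3 := Zt_cube h (Zt_conj (D := D) k)
  have tB := JB h cQ cz tJ
  have tm := ((hw_of h v).bs _ tB fun e => n (P_Q h e t3)).1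
  choose r l x e ty tr rcr xQ _ e0 xt xc using fun i => frame h tB t3
    (fun e => tm i (by rw [e, one_pow])) (cQ i) (cz i) (Ce_symm ((mem_JJ.1 tJ).2 i))
  have zc := fun i => zp_comm ((co h i).le_Ce (cQ i))
  have h1 : JJ D (fun i => c i * zp D.z (l i)) = JJ D c := by
    ext y
    rw [mem_JJ, mem_JJ]
    exact and_congr_right fun e => forall_congr' fun i => ⟨fun e1 => Ce_symm ((mul_mem_cancel_right
      (zp_mem' (Ce_symm e) _)).1 (Ce_symm e1)), fun e1 => Ce_symm (mul_mem (Ce_symm e1)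
      (zp_mem' (Ce_symm e) _))⟩
  have f := mk_fr (c := fun i => c i * zp D.z (l i)) h ty (fun i => mul_mem (cQ i) ((co h i).zp_mem _))
    (fun i e => cz i ((mul_mem_cancel_right (zp_mem _)).1 e)) rcr (by
      have := Zt_z h ((memQ h).2 ⟨c, cQ, rfl⟩) (W3_cn h ⟨c, fun i => ⟨cQ i, cz i⟩, rfl⟩ 0) zt
        (l 0 + l 1 + l 2)
      rw [← zp_comm (mul_mem (mul_mem ((co h 0).le_Ce (cQ 0)) ((co h 1).le_Ce (cQ 1)))
        ((co h 2).le_Ce (cQ 2))), zp_add h.ord, zp_add h.ord] at this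
      rwa [(show Commute _ _ from (zc 1 _).symm).mul_mul_mul_comm, ← zp_add h.ord,
        (show Commute _ _ from (zc 2 _).symm).mul_mul_mul_comm, zp_add h.ord])
  obtain ⟨π, hj⟩ := part3 h v f (h1 ▸ hk) rfl n tr e0 xQ xt xc hw cyc
  exact ⟨_, _, _, _, _, _, _, _, hj⟩

end H78.F22
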