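import Cfsg.Agent.H78.F22J
import Cfsg.Agent.H39.E6Spec0

/-! Chapter F22 of `blueprints/PS3B.md`, job J under the weaker hypothesis `HV0`: the subgroup `3⁵`. -/

set_option autoImplicit false
set_option linter.unusedSectionVars false
set_option maxRecDepth 100000
set_option synthInstance.maxSize 2048

open Cfsg Subgroup H98 H42.L3 H7.PS H39.F22
open H56.L3 (Ce Nz)
open H28.PS (SL3 Zt)
open H84.PS (V2)
open scoped Matrix

namespace H78.F22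

universe u

variable {G : Type*} [Group G] {D D' : D3 G} {a b g k q r s t u v w x y : G} {i j : Fin 3}
  {c c' ρ : Fin 3 → G} {α β : Fin 3 → ZMod 3} {X : Subgroup G}

variable [Finite G]

theorem hw_of0 (h : H3 D) (v : HV0 D) : HW D := by
  refine ⟨fun y hy e => (v.wt y hy e).imp_right (W3_cn h), fun s hs n => ?_⟩
  obtain ⟨d, hd, h1, h2⟩ := v.base
  have h3 : ∀ g ∈ D.B, ∃ k : ZMod 3, ∀ i, chi (D.m i g) = k * chi (D.m i d) := fun g hg => by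
    rcases h2 g hg with e | e | e
    · exact ⟨0, fun i => by rw [(P_iff h hg).1 e, zero_mul]⟩
    · refine ⟨-1, fun i => ?_⟩
      have := (P_iff h e.1).1 e i
      rw [m_mul h hg hd, chi_mul] at this
      linear_combination this
    · refine ⟨1, fun i => ?_⟩
      have := (P_iff h e.1).1 e i
      rw [m_mul h hg (inv_mem hd), m_inv h hd, chi_mul, chi_inv] at this
      linear_combination this
  obtain ⟨k, hk⟩ := h3 s hs
  have k0 : k ≠ 0 := fun e => n ((P_iff h hs).2 fun i => by rw [hk, e, zero_mul])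
  refine ⟨fun i e => h1 i ((chi_eq _).1 ((mul_eq_zero.1 ((hk i).symm.trans ((chi_eq _).2 e))).resolve_left
    k0)), fun g hg => ?_⟩
  obtain ⟨l, hl⟩ := h3 g hg
  refine ⟨(-l * k).val, (P_iff h (mul_mem hg (pow_mem hs _))).2 fun i => ?_⟩
  rw [m_mul h hg (pow_mem hs _), m_pow h hs, chi_mul, chi_pow, ZMod.natCast_zmod_val, hl, hk,
    ← mul_assoc, (by decide : ∀ l k : ZMod 3, k ≠ 0 → l * k * k = l) _ k k0]
  ring

/-- `key` for the conjugate data -/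
theorem key0 (h : H3 D) (v : HV0 D) (f : Fr D c ρ) {p : G} (e : k * D.z * k⁻¹ = p) (n : p ∉ D.QQ)
    (hz : D.z ∈ Ce p) (hc : ∀ i, c i ∈ Ce p) (hr : ∀ i, ρ i ∈ Ce p) :
    D.z ∉ (dc D k).QQ ∧ D.z ∈ (dc D k).B ∧ ∃ τ : Equiv.Perm (Fin 3),
      ∀ i, c i ∈ (dc D k).Q (τ i) ∧ c i ∉ zpowers p ∧ Ty (dc D k) (τ i) (ρ i) := by
  subst e
  have n' : D.z ∉ (dc D k).QQ := fun e => n (by
    rw [dc_QQ, mem_cj] at e
    simpa using v.sym k⁻¹ (by simpa using e))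
  exact ⟨n', key h (H3.dc h k) ((hw_of0 h v).dc k) f (fun _ => dc_Zt.2) n n' hz hc hr⟩

theorem ex_pr0 (h : H3 D) (v : HV0 D) (hg : g * D.z * g⁻¹ ∈ D.QQ) (n : g * D.z * g⁻¹ ∉ zpowers D.z) :
    ∃ c, Pr D (dc D g) c :=
  let ⟨c, hc, e⟩ := (v.wt _ hg (Zt_conj g)).resolve_left n
  ⟨c, h, hw_of0 h v, fun i => (hc i).1, fun i => (hc i).2, e, dc_QQ (D := D) ▸ (v.pair g hg n).2.2⟩

theorem part10 (h : H3 D) (v : HV0 D) : ∃ c k w, (∀ i, c i ∈ D.Q i) ∧ (∀ i, c i ∉ zpowers D.z) ∧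
    Zt D.z (c 0 * c 1 * c 2) ∧ k ∈ nr (JJ D c) ∧ k * D.z * k⁻¹ ∉ D.QQ ∧ w ∈ Ce D.z ∧
    ∀ i, cj w (D.Q i) = D.Q (i + 1) := by
  obtain ⟨g, hg, n⟩ : ∃ g, g * D.z * g⁻¹ ∈ D.QQ ∧ g * D.z * g⁻¹ ∉ zpowers D.z := by
    obtain ⟨y, hy, ⟨g, e | e⟩, n⟩ := v.ex
    exacts [⟨g, e ▸ hy, e ▸ n⟩, ⟨g, e ▸ inv_mem hy, e ▸ mt inv_mem_iff.1 n⟩]
  obtain ⟨c, p⟩ := ex_pr0 h v hg n
  obtain ⟨c', p'⟩ := ex_pr0 (g := g⁻¹) h v (by simpa using v.sym g hg)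
    fun e => n (mem_Nz.1 (inv_mem_iff.1 (mem_Nz.2 e)))
  have p2 : Pr (dc D g) D fun i => g * c' i * g⁻¹ := by
    obtain ⟨w, ⟨hw, hw'⟩, e⟩ := p'.cyc
    refine ⟨H3.dc h g, p.w.dc g, fun i => conj_mem_cj (p'.cQ i), fun i e => p'.cz i ?_, ?_,
      g * w * g⁻¹, ⟨?_, conj_mem_Ce hw' g⟩, fun i => ?_⟩
    · rwa [dc_z, ← cj_zp, conj_mem_cj_iff] at e
    · rw [conj_mul, conj_mul, ← p'.y, dc_z]; group
    · rw [dc_QQ] at hw
      simpa using mem_cj.1 hw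
    · rw [dc_Q, dc_Q, ← e, cj_cj, cj_cj, inv_mul_cancel_right]
  obtain ⟨k, hk, n⟩ := p.ex p2
  obtain ⟨w, hw, e⟩ := p.cyc
  exact ⟨c, k, w, p.cQ, p.cz, p.y ▸ Zt_conj g, hk, n, hw.2, e⟩

section

variable (h : H3 D)
include h

theorem nz0 (v : HV0 D) (f : Fr D c ρ) (hq : q ∈ JJ D c) (n : q ∉ D.QQ) (hr : ∀ i, q ∈ Ce (ρ i))
    (zt : Zt D.z q) (e : Zt D.z (q * cc c α)) (e0 : α i = 0) : α = 0 := by
  obtain ⟨g, h1, h2⟩ : ∃ g, q ∈ zpowers (g * D.z * g⁻¹) ∧ g * D.z * g⁻¹ ∈ zpowers q := by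
    obtain ⟨g, e | e⟩ := zt
    · exact ⟨g, e ▸ ⟨mem_zpowers _, mem_zpowers _⟩⟩
    · exact ⟨g, e ▸ ⟨inv_mem_iff.1 (mem_zpowers _), inv_mem (mem_zpowers _)⟩⟩
  have h3 : ∀ x, q ∈ Ce x → x ∈ Ce (g * D.z * g⁻¹) := fun x e => Ce_symm (zpowers_le.2 e h2)
  obtain ⟨-, -, τ, hτ⟩ := key0 h v f rfl (fun e => n (zpowers_le.2 e h1)) (h3 _ (mem_JJ.1 hq).1)
    (fun i => h3 _ ((mem_JJ.1 hq).2 i)) fun i => h3 _ (hr i)
  exact Z0 (H3.dc h g) ((hw_of0 h v).dc g) (fun i => (hτ i).1) (fun i => (hτ i).2.1) h1 (dc_Zt.2 e) e0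

theorem part30 (v : HV0 D) (f : Fr D c ρ) (hk : k ∈ nr (JJ D c)) (hz : k * D.z * k⁻¹ = t)
    (n : t ∉ D.QQ) (tr : ∀ i, t * ρ i = ρ i * t) {x : Fin 3 → G} {e : Fin 3 → ZMod 3}
    (e0 : ∀ i, e i ≠ 0) (xQ : ∀ i, x i ∈ D.Q i) (xt : ∀ i, x i * t * (x i)⁻¹ = t * c i * zp D.z (-e i))
    (xc : ∀ i, x i * c i * (x i)⁻¹ = c i * zp D.z (e i)) (hw : w ∈ Ce D.z)
    (cyc : ∀ i, cj w (D.Q i) = D.Q (i + 1)) : ∃ π, HJ3 D t c ρ x π k (e 0) (JJ D c) := by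
  have W := hw_of0 h v
  have tJ : t ∈ JJ D c := hz ▸ conj_mem_of_mem_normalizer hk (zJ h f.cQ)
  have tZ : Zt D.z t := hz ▸ Zt_conj k
  have ot : orderOf t = 3 := hz ▸ (H3.dc h k).ord
  have tB := JB h f.cQ f.cz tJ
  have T : Tf D t c := ⟨f.cQ, Bz tB, z_cube ot, fun i => mem_Ce.1 ((mem_JJ.1 tJ).2 i)⟩
  have E1 : ∀ b α, el D.z t c 1 b α = t * zp D.z b * cc c α := fun b α => by rw [el_eq, zp_one]
  have E0 : el D.z t c 1 0 0 = t := by rw [E1, zp_zero, cc_zero, mul_one, mul_one]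
  have ee : ∀ i, e i = e 0 := fun i => by_contra fun ne => by
    have i0 : i ≠ 0 := fun e1 => ne (e1 ▸ rfl)
    have h1 := Zt_cj (Zt_cj (show Zt D.z (el D.z t c 1 0 0) by rwa [E0]) (x 0)) (x i)
    rw [xel h T (xQ 0) (xt 0) (xc 0), xel h T (xQ i) (xt i) (xc i), E1] at h1
    obtain ⟨l, l1, l2, -⟩ := other i 0 i0
    have h2 := (by decide : ∀ a b : ZMod 3, a ≠ 0 → b ≠ 0 → a ≠ b → -b - a = 0) _ _ (e0 i) (e0 0) ne
    simp only [Pi.zero_apply, mul_zero, add_zero, zero_add, one_smul, mul_one, zero_sub,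
      Pi.single_eq_of_ne i0, h2, zp_zero] at h1
    have h3 := congrFun (nz0 (i := l) h v f tJ n (fun i => mem_Ce.2 (tr i)) tZ h1 (by simp [l1, l2])) i
    simp [i0] at h3
  simp only [ee] at xt xc
  have e1 := e0 0
  generalize e 0 = ε at xt xc e1
  have O : ∀ b α, Zt D.z (el D.z t c 1 b α) ↔
      Zt D.z (el D.z t c 1 (b + ε * 1 * (α 0 * α 0 + α 1 * α 1 + α 2 * α 2)) 0) := fun b α => by
    obtain ⟨k, -, e⟩ := orb (X := ⊤) (α := α) h T xQ xt xc one_ne_zero b fun _ _ => mem_top _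
    rw [← e]
    exact ⟨fun e1 => Zt_cj e1 k, fun e1 => by simpa [mul_assoc] using Zt_cj e1 k⁻¹⟩
  have N : ∀ s, Zt D.z (el D.z t c 1 s 0) → s = 0 := fun s e => by_contra fun s0 => by
    obtain ⟨α, a0, a1, a2⟩ := (by decide +kernel : ∀ s ε : ZMod 3, s ≠ 0 → ε ≠ 0 →
      ∃ α : Fin 3 → ZMod 3, α 0 = 0 ∧ α ≠ 0 ∧
        s + ε * 1 * (α 0 * α 0 + α 1 * α 1 + α 2 * α 2) = 0) s ε s0 e1
    have h1 := (O s α).2 (by rw [a2, E0]; exact tZ)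
    rw [E1, cc_zero, mul_one] at e
    have zs := fun X (e : D.z ∈ X) => zp_mem' (X := X) e s
    exact a1 (nz0 h v f (mul_mem tJ (zs _ (zJ h f.cQ)))
      (fun e => n ((mul_mem_cancel_right (zs _ (zQ h (mem_zpowers _)))).1 e))
      (fun i => mul_mem (mem_Ce.2 (tr i)) (zs _ (Ce_symm (Bz (f.ty i).B)))) e (E1 s α ▸ h1) a0)
  have zQ' := zQ h (mem_zpowers D.z)
  have cQ' := fun i => Qle i (f.cQ i)
  have I : ∀ a b α, el D.z t c a b α = 1 → a = 0 ∧ b = 0 ∧ α = 0 := fun a b α e => by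
    have h1 : a = 0 := zp_of T.t3 ((mul_mem_cancel_right (mul_mem (zp_mem' zQ' b)
      (cc_mem (α := α) cQ'))).1 (by rw [← mul_assoc, ← el_eq, e]; exact one_mem _)) n
    rw [h1, el_eq, zp_zero, one_mul] at e
    have h2 := cc_z (τ := 1) h f.cQ f.cz (zp_mem b) (e ▸ one_mem _)
    rw [h2, cc_zero, mul_one] at e
    exact ⟨h1, zp_eq_one h.ord e, h2⟩
  have Z1 : ∀ b α, Zt D.z (el D.z t c 1 b α) ↔
      α 0 * α 0 + α 1 * α 1 + α 2 * α 2 + ε * 1 * b = 0 := fun b α => by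
    rw [O, (by decide : ∀ ε b s : ZMod 3, ε ≠ 0 → (s + ε * 1 * b = 0 ↔ b + ε * 1 * s = 0)) _ _ _ e1]
    exact ⟨N _, fun e => by rw [e, E0]; exact tZ⟩
  have M : ∀ g, g ∈ JJ D c ↔ ∃ a b α, g = el D.z t c a b α := fun g => by
    refine ⟨fun hg => ?_, fun ⟨a, b, α, e⟩ => e ▸ el_mem tJ (zJ h f.cQ) (cJ h f.cQ) a b⟩
    obtain ⟨l, e⟩ := J_dec h f.cQ f.cz W tJ n hg
    obtain ⟨b, α, e⟩ := JQ h f.cQ f.cz (mul_mem hg (pow_mem tJ l)) e
    have h1 : g ∈ Ce t := J_le h f.cQ f.cz W tJ n (Ce_symm T.tz)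
      (fun i => mem_Ce.2 (T.tc i).symm) (mem_Ce.2 rfl) hg
    refine ⟨-l, b, α, ?_⟩
    rw [el_eq, mul_assoc, ← e, zp_neg ot, zp_natCast ot,
      ((show Commute g t from mem_Ce.1 h1).pow_right l).eq, inv_mul_cancel_left]
  obtain ⟨u, hu, pu⟩ := corr h f.ty hw
  obtain ⟨k1, -, τ, hτ⟩ := key0 h v f hz n (Ce_symm T.tz) (fun i => mem_Ce.2 (T.tc i).symm)
    fun i => mem_Ce.2 (tr i).symm
  rw [dc_QQ] at k1
  have tq : t ∈ cj k D.QQ := hz ▸ conj_mem_cj zQ'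
  have cq : ∀ i, c i ∈ cj k D.QQ := fun i => dc_QQ.le (Qle _ (hτ i).1)
  refine ⟨u * w, (z3 ε).resolve_left e1, fun i => (f.ty i).B, fun i => (f.ty i).sq,
    fun i => (f.ty i).neg, fun i => (f.ty i).one, fun i j e => (f.ty i).cn h e, fun i j => ?_,
    mul_mem (Bz (QB h hu)) hw, fun i => by rw [pu, sg_of h (CeN hw) (cyc i)], f.cQ, f.cz, f.rcr, tB,
    T.t3, (W.bs t tB fun e => n (P_Q h e T.t3)).1, T.tc, tr, xQ, xt, xc, rfl, M, I,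
    fun a b α => ?_, hk, hz, le_antisymm ?_ ((closure_le _).2 ?_)⟩
  · by_cases e : i = j
    exacts [by rw [e], (f.ty i).comm h (f.ty j) e]
  · rcases z3 a with rfl | rfl | rfl
    · rw [mul_zero, zero_mul, add_zero, (by decide +kernel : ∀ α : Fin 3 → ZMod 3,
        α 0 * α 0 + α 1 * α 1 + α 2 * α 2 = 0 ↔ α = 0 ∨ ∀ i, α i ≠ 0), el_eq, zp_zero, one_mul]
      refine ⟨fun e => ⟨Zt_ne h e, or_iff_not_imp_right.2 fun e1 => ?_⟩, ?_⟩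
      · obtain ⟨i, e1⟩ := not_forall.1 e1
        exact Z0 (τ := 1) h W f.cQ f.cz (zp_mem b) e (not_not.1 e1)
      · rintro ⟨e, rfl | e'⟩
        · rw [cc_zero, mul_one] at e ⊢
          rcases mem_cases h.ord (zp_mem b) with e1 | e1 | e1
          exacts [(e e1).elim, ⟨1, .inl (by simp [e1])⟩, ⟨1, .inr (by simp [e1])⟩]
        · refine Zt_z h (cc_mem cQ') (fun e1 => ?_) (f.zt α e') b
          have := L_cc' (α := α) (τ := 1) h f.cQ (one_mem _) 0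
          rw [one_mul, Equiv.Perm.one_apply, L_cn h e1, eq_comm, smul_eq_zero] at this
          exact this.elim (e' 0) (H84.PS.lne (co h 0) (f.cQ 0) (f.cz 0))
    · exact (Z1 b α).trans (and_iff_right fun e => one_ne_zero (I _ _ _ e).1).symm
    · rw [and_iff_right fun e => one_ne_zero (neg_eq_zero.1 (I _ _ _ e).1)]
      have h1 := Z1 (-b) (-α)
      rw [← neg_neg (1 : ZMod 3), el_neg h T, neg_neg] at h1
      simp only [Pi.neg_apply, mul_neg, neg_mul, neg_neg] at h1 ⊢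
      exact ⟨fun e => h1.1 (Zt_inv e), fun e => by simpa using Zt_inv (h1.2 e)⟩
  · rintro g ⟨hg, hq⟩
    obtain ⟨a, b, α, rfl⟩ := (M g).1 hg
    have h1 := (mul_mem_cancel_left (zp_mem' tq a)).1 ((mul_mem_cancel_right (cc_mem cq)).1 hq)
    rw [zp_of (z_cube h.ord) h1 k1, el_eq, zp_zero, mul_one]
    exact mul_mem (zp_mem' (subset_closure (by simp)) _) (cc_mem fun i => subset_closure (by
      rcases f3 i with rfl | rfl | rfl <;> simp))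
  · rintro _ (rfl | rfl | rfl | rfl)
    exacts [⟨tJ, tq⟩, ⟨cJ h f.cQ 0, cq 0⟩, ⟨cJ h f.cQ 1, cq 1⟩, ⟨cJ h f.cQ 2, cq 2⟩]

end

theorem jobJ0 : JobJ0.{u} := fun G _ _ D h _ v => by
  obtain ⟨c, k, w, cQ, cz, zt, hk, n, hw, cyc⟩ := part10 h v
  have tJ := conj_mem_of_mem_normalizer hk (zJ h cQ)
  have t3 := Zt_cube h (Zt_conj (D := D) k)
  have tB := JB h cQ cz tJ
  have tm := ((hw_of0 h v).bs _ tB fun e => n (P_Q h e t3)).1
  choose r l x e ty tr rcr xQ _ e0 xt xc using fun i => frame h tB t3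
    (fun e => tm i (by rw [e, one_pow])) (cQ i) (cz i) (Ce_symm ((mem_JJ.1 tJ).2 i))
  have zc := fun i => zp_comm ((co h i).le_Ce (cQ i))
  have h1 : JJ D (fun i => c i * zp D.z (l i)) = JJ D c := by
    ext y
    rw [mem_JJ, mem_JJ]
    exact and_congr_right fun e => forall_congr' fun i => ⟨fun e1 => Ce_symm ((mul_mem_cancel_right
      (zp_mem' (Ce_symm e) _)).1 (Ce_symm e1)), fun e1 => Ce_symm (mul_mem (Ce_symm e1)
      (zp_mem' (Ce_symm e) _))⟩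
  have f := mk_fr (c := fun i => c i * zp D.z (l i)) h ty (fun i => mul_mem (cQ i) ((co h i).zp_mem _))
    (fun i e => cz i ((mul_mem_cancel_right (zp_mem _)).1 e)) rcr (by
      have := Zt_z h ((memQ h).2 ⟨c, cQ, rfl⟩) (W3_cn h ⟨c, fun i => ⟨cQ i, cz i⟩, rfl⟩ 0) zt
        (l 0 + l 1 + l 2)
      rw [← zp_comm (mul_mem (mul_mem ((co h 0).le_Ce (cQ 0)) ((co h 1).le_Ce (cQ 1)))
        ((co h 2).le_Ce (cQ 2))), zp_add h.ord, zp_add h.ord] at this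
      rwa [(show Commute _ _ from (zc 1 _).symm).mul_mul_mul_comm, ← zp_add h.ord,
        (show Commute _ _ from (zc 2 _).symm).mul_mul_mul_comm, zp_add h.ord])
  obtain ⟨π, hj⟩ := part30 h v f (h1 ▸ hk) rfl n tr e0 xQ xt xc hw cyc
  exact ⟨_, _, _, _, _, _, _, _, hj⟩

end H78.F22
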