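import Cfsg.Agent.H48.DC4Spec

/-! The module lemma `F2` of chapter C4. -/

set_option autoImplicit false

namespace H78.DPF2

open Subgroup Cfsg H98 H48.DP H57.DPC H48.DP2

universe u

section Abs

variable {Λ V : Type*} [Group Λ] [CommGroup V] (φ : Λ →* MulAut V)

/-- Stabiliser of a vector. -/
def St (v : V) : Subgroup Λ where
  carrier := {g | φ g v = v}
  one_mem' := by simp
  mul_mem' := fun {a b} ha hb => by
    have ha' : φ a v = v := ha
    have hb' : φ b v = v := hb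
    show φ (a * b) v = v
    rw [map_mul, MulAut.mul_apply, hb', ha']
  inv_mem' := fun {a} ha => by
    have ha' : φ a v = v := ha
    show φ a⁻¹ v = v
    conv_lhs => rw [← ha']
    rw [← MulAut.mul_apply, ← map_mul, inv_mul_cancel, map_one, MulAut.one_apply]

/-- Fixed vectors of a subgroup. -/
def Fx (H : Subgroup Λ) : Subgroup V where
  carrier := {v | ∀ h ∈ H, φ h v = v}
  one_mem' := fun h _ => map_one _
  mul_mem' := fun {a b} ha hb h hh => by rw [map_mul, ha h hh, hb h hh]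
  inv_mem' := fun {a} ha h hh => by rw [map_inv, ha h hh]

theorem mem_Fx {H : Subgroup Λ} {v : V} : v ∈ Fx φ H ↔ H ≤ St φ v := Iff.rfl

theorem Fx_sup (H K : Subgroup Λ) : Fx φ (H ⊔ K) = Fx φ H ⊓ Fx φ K := by
  ext v
  rw [mem_inf, mem_Fx, mem_Fx, mem_Fx, sup_le_iff]

theorem mem_Fx_zp {g : Λ} {v : V} : v ∈ Fx φ (zpowers g) ↔ φ g v = v := by
  rw [mem_Fx, zpowers_le]; rfl

theorem Fx_anti {H K : Subgroup Λ} (h : H ≤ K) : Fx φ K ≤ Fx φ H := fun _ hv g hg => hv g (h hg)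

theorem ap_inv (l : Λ) (v : V) : φ l (φ l⁻¹ v) = v := by
  rw [← MulAut.mul_apply, ← map_mul, mul_inv_cancel, map_one, MulAut.one_apply]

theorem mem_Fx_cj {l : Λ} {H : Subgroup Λ} {v : V} : v ∈ Fx φ (cj l H) ↔ φ l⁻¹ v ∈ Fx φ H := by
  constructor
  · intro hv h hh
    have h1 : l * h * l⁻¹ ∈ cj l H := mem_cj.2 (by simpa [mul_assoc] using hh)
    have h2 := hv _ h1
    have e : h * l⁻¹ = l⁻¹ * (l * h * l⁻¹) := by group
    rw [← MulAut.mul_apply, ← map_mul, e, map_mul, MulAut.mul_apply, h2]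
  · intro hv h hh
    have h2 := hv _ (mem_cj.1 hh)
    have e : h = l * (l⁻¹ * h * l) * l⁻¹ := by group
    rw [e, map_mul, map_mul, MulAut.mul_apply, MulAut.mul_apply, h2, ap_inv]

theorem Fx_cj (l : Λ) (H : Subgroup Λ) :
    Fx φ (cj l H) = (Fx φ H).comap (φ l⁻¹).toMonoidHom := by
  ext v; rw [mem_Fx_cj, mem_comap]; rfl

theorem rel_cj (l : Λ) (H : Subgroup Λ) :
    (Fx φ ⊤).relIndex (Fx φ (cj l H)) = (Fx φ ⊤).relIndex (Fx φ H) := by
  have e : Fx φ ⊤ = (Fx φ ⊤).comap (φ l⁻¹).toMonoidHom := by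
    rw [← Fx_cj, cj_top]
  conv_lhs => rw [e, Fx_cj]
  rw [relIndex_comap, map_comap_eq_self_of_surjective (φ l⁻¹).surjective]

theorem core [Finite V] [Finite Λ] {B A : Subgroup Λ} {z : Λ} (h : F7 B z) (hB : Nat.card B = 4)
    (hz : orderOf z = 3) (hV : ∀ v : V, v * v = 1) (hA : A ≤ B) (hA1 : A ≠ ⊥)
    (hi : (Fx φ A).index ≤ Nat.card A) :
    (Fx φ ⊤).relIndex (Fx φ (B ⊔ zpowers z)) ≤ 2 := by
  by_contra hc
  rw [not_le] at hc
  have s1 : ∀ t ∈ B, t ≠ 1 → 2 < (Fx φ (zpowers t)).index := by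
    intro t ht ht1
    obtain ⟨l, hl⟩ := h.g1 t ht ht1
    rw [← rel_cj φ l, ← hl, Fx_sup, inf_comm, inf_relIndex_right] at hc
    exact hc.trans_le (Nat.le_of_dvd (Nat.pos_of_ne_zero index_ne_zero_of_finite)
      (relIndex_dvd_index_of_normal _ _))
  have hAB : A = B := by
    obtain ⟨⟨t, ht⟩, ht1⟩ := ne_bot_iff_exists_ne_one.1 hA1
    have h1 := s1 t (hA ht) (fun e => ht1 (Subtype.ext e))
    have h2 : (Fx φ (zpowers t)).index ≤ (Fx φ A).index :=
      index_antitone (Fx_anti φ (zpowers_le.2 ht))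
    have h3 : Nat.card A ∣ 4 := hB ▸ card_dvd_of_le hA
    have h4 : Nat.card A ≤ 4 := Nat.le_of_dvd (by norm_num) h3
    have h5 : Nat.card A = 4 := by
      have : 2 < Nat.card A := by omega
      interval_cases (Nat.card A)
      · exact absurd h3 (by norm_num)
      · rfl
    exact eq_of_le_of_card_ge hA (by omega)
  subst hAB
  rw [hB] at hi
  have hpos : (Fx φ A).index ≠ 0 := index_ne_zero_of_finite
  obtain ⟨l, hl⟩ : ∃ l, l ∉ No A := by
    by_contra hn
    push Not at hn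
    have : No A = ⊤ := eq_top_iff.2 fun l _ => hn l
    have h7 := h.idx
    rw [this, index_top] at h7
    omega
  obtain ⟨hg, ⟨t, ht, ht1, htn⟩, -, -⟩ := h.g4 l hl
  set F := Fx φ (cj l (A ⊔ zpowers z)) with hF
  have hZ : Fx φ A ⊓ F = Fx φ ⊤ := by rw [hF, ← Fx_sup, hg]
  have hsup : F ⊔ Fx φ A = ⊤ := by
    have h1 : 2 < (Fx φ A).relIndex (F ⊔ Fx φ A) := by
      rw [relIndex_sup_right, ← inf_relIndex_right, hZ, hF, rel_cj]; exact hc
    have h2 := relIndex_mul_index (le_sup_right : Fx φ A ≤ F ⊔ Fx φ A)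
    have h3 : (F ⊔ Fx φ A).index ≠ 0 := index_ne_zero_of_finite
    have h4 : (F ⊔ Fx φ A).index = 1 := by
      by_contra h5
      have : 2 ≤ (F ⊔ Fx φ A).index := by omega
      nlinarith
    exact index_eq_one.1 h4
  have hCt : Fx φ (zpowers t) ≤ Fx φ A := by
    have h1 := s1 t ht ht1
    have h2 := relIndex_mul_index (Fx_anti φ (zpowers_le.2 ht))
    have h4 : (Fx φ A).relIndex (Fx φ (zpowers t)) = 1 := by
      by_contra h5
      have h6 : (Fx φ A).relIndex (Fx φ (zpowers t)) ≠ 0 := fun e => by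
        rw [e, zero_mul] at h2; exact hpos h2.symm
      have : 2 ≤ (Fx φ A).relIndex (Fx φ (zpowers t)) := by omega
      nlinarith
    exact relIndex_eq_one.1 h4
  have hnK : No A ≤ No (A ⊔ zpowers z) := by
    refine h.nb.trans (sup_le (le_sup_left.trans le_normalizer) fun g hg => ?_)
    rw [← cj_eq_self_iff, cj_sup, cj_eq_self hg.1, cj_eq_self hg.2]
  have htK : cj t⁻¹ (cj l (A ⊔ zpowers z)) = cj l (A ⊔ zpowers z) := by
    have h1 : l⁻¹ * t * l ∈ No A := by
      rw [← mem_cj, cj_normalizer]; exact htn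
    have h2 : t ∈ No (cj l (A ⊔ zpowers z)) := by
      have h3 := (mem_cj (g := l)).2 (hnK h1)
      rw [cj_normalizer] at h3
      exact h3
    exact cj_eq_self (inv_mem h2)
  have hinv : ∀ v : V, v⁻¹ = v := fun v => inv_eq_of_mul_eq_one_right (hV v)
  have htt : ∀ v, φ t v * v⁻¹ ∈ Fx φ ⊤ := by
    intro v
    rw [← hZ]
    refine ⟨hCt ((mem_Fx_zp φ).2 ?_), ?_⟩
    · rw [hinv, map_mul, ← MulAut.mul_apply, ← map_mul, h.el t ht, map_one, MulAut.one_apply,
        mul_comm]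
    · have hv : v ∈ F ⊔ Fx φ A := hsup ▸ mem_top v
      obtain ⟨a, ha, b, hb, rfl⟩ := mem_sup.1 hv
      have h1 : φ t a ∈ F := by
        have h2 : a ∈ Fx φ (cj t⁻¹ (cj l (A ⊔ zpowers z))) := by rw [htK]; exact ha
        rw [mem_Fx_cj, inv_inv] at h2
        exact h2
      have e : φ t (a * b) * (a * b)⁻¹ = φ t a * a⁻¹ := by
        rw [map_mul, hb t ht, mul_inv, mul_mul_mul_comm, mul_inv_cancel, mul_one]
      rw [e]
      exact F.mul_mem h1 (F.inv_mem ha)
  let N : Subgroup Λ :=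
    { carrier := {g | ∀ v, φ g v * v⁻¹ ∈ Fx φ ⊤}
      one_mem' := fun v => by simp [one_mem]
      mul_mem' := fun {a b} ha hb v => by
        have e : φ (a * b) v * v⁻¹ = (φ a (φ b v) * (φ b v)⁻¹) * (φ b v * v⁻¹) := by
          rw [map_mul, MulAut.mul_apply]; group
        rw [e]; exact mul_mem (ha _) (hb _)
      inv_mem' := fun {a} ha v => by
        have h1 := inv_mem (ha (φ a⁻¹ v))
        rw [ap_inv, mul_inv_rev, inv_inv] at h1
        exact h1 }
  have hN : N.Normal := ⟨fun a ha g v => by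
    have h1 := ha (φ g⁻¹ v)
    have h2 := h1 g (mem_top g)
    rw [map_mul, map_inv (φ g), ap_inv] at h2
    rw [map_mul, map_mul, MulAut.mul_apply, MulAut.mul_apply, h2]
    exact h1⟩
  haveI := h.simple
  have hNt : N = ⊤ := (hN.eq_bot_or_eq_top).resolve_left fun e => ht1 (by
    have : t ∈ N := htt
    rwa [e, mem_bot] at this)
  have hzk : z ∈ φ.ker := by
    rw [MonoidHom.mem_ker]
    ext v
    have h0 : z ∈ N := hNt ▸ mem_top z
    have h1 := h0 v z (mem_top z)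
    obtain ⟨c, hc'⟩ : ∃ c, c = φ z v * v⁻¹ := ⟨_, rfl⟩
    rw [← hc'] at h1
    have h2 : φ z v = c * v := by rw [hc', inv_mul_cancel_right]
    have h3 : φ (z * z * z) v = c * (c * c) * v := by
      rw [map_mul, map_mul, MulAut.mul_apply, MulAut.mul_apply, h2, map_mul, h1, h2, map_mul,
        map_mul, h1, h2]
      simp only [mul_assoc]
    have h4 : z * z * z = 1 := by rw [← pow_three', ← hz, pow_orderOf_eq_one]
    rw [h4, hV, mul_one, map_one] at h3
    rw [h2, ← h3]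
  have hk : φ.ker = ⊤ := (φ.normal_ker.eq_bot_or_eq_top).resolve_left fun e => by
    rw [e, mem_bot] at hzk
    rw [hzk, orderOf_one] at hz
    omega
  have h1 := s1 t ht ht1
  have h2 : Fx φ (zpowers t) = ⊤ := eq_top_iff.2 fun v _ => (mem_Fx_zp φ).2 (by
    have : t ∈ φ.ker := hk ▸ mem_top t
    rw [MonoidHom.mem_ker.1 this, MulAut.one_apply])
  rw [h2, index_top] at h1
  omega

end Abs

theorem no_Om {G : Type*} [Group G] (J : Subgroup G) : No J ≤ No (Om J) := by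
  have key : ∀ g ∈ No J, ∀ x ∈ Om J, g * x * g⁻¹ ∈ Om J := by
    intro g hg x hx
    refine ⟨(mem_normalizer_iff.1 hg x).1 hx.1, mem_centralizer_iff.2 fun j hj => ?_, ?_⟩
    · have h1 : g⁻¹ * j * g⁻¹⁻¹ ∈ J := (mem_normalizer_iff.1 (inv_mem hg) j).1 hj
      have h2 := mem_centralizer_iff.1 hx.2.1 _ h1
      calc j * (g * x * g⁻¹) = g * (g⁻¹ * j * g⁻¹⁻¹ * x) * g⁻¹ := by group
        _ = g * x * g⁻¹ * j := by rw [h2]; group
    · calc g * x * g⁻¹ * (g * x * g⁻¹) = g * (x * x) * g⁻¹ := by group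
        _ = 1 := by rw [hx.2.2]; group
  intro g hg
  refine mem_normalizer_iff.2 fun x => ⟨key g hg x, fun hx => ?_⟩
  have := key g⁻¹ (inv_mem hg) _ hx
  simpa [mul_assoc] using this

theorem job : JF2.{u} := by
  intro G _ _ M Q J L y z u hb hoff
  obtain ⟨f, z', hs, hk, hz', h7, hB, hz3⟩ := hb.md
  obtain ⟨A, hAQ, hAJ, hAi⟩ := hoff
  have hLN : L ≤ No (Om J) := hb.lt.LN.trans (no_Om J)
  letI : CommGroup (Om J) :=
    { (inferInstance : Group (Om J)) with
      mul_comm := fun a b => Subtype.ext (mem_centralizer_iff.1 b.2.2.1 a a.2.1) }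
  let ψ : L →* MulAut (Om J) := (Om J).normalizerMonoidHom.comp (inclusion hLN)
  have hψ : ∀ (l : L) (v : Om J), ((ψ l v : Om J) : G) = l * v * (l : G)⁻¹ := fun _ _ => rfl
  have hker : f.ker ≤ ψ.ker := by
    intro l hl
    rw [hk, mem_subgroupOf] at hl
    rw [MonoidHom.mem_ker]
    ext v
    rw [hψ, mem_centralizer_iff.1 v.2.2.1 _ hl]
    simp
  let φ : P7 →* MulAut (Om J) := f.liftOfSurjective hs ⟨ψ, hker⟩
  have hφ : ∀ l, φ (f l) = ψ l := fun l => MonoidHom.liftOfRightInverse_comp_apply _ _ _ _ l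
  have hFx : ∀ S : Subgroup G, S ≤ L →
      Fx φ ((S.subgroupOf L).map f) = (Ce S).subgroupOf (Om J) := by
    intro S hS
    ext v
    rw [mem_subgroupOf, mem_centralizer_iff]
    constructor
    · intro hv s hs'
      have h1 := hv (f ⟨s, hS hs'⟩) (mem_map_of_mem f (mem_subgroupOf.2 hs'))
      have h2 := congrArg Subtype.val h1
      rw [hφ, hψ] at h2
      exact mul_inv_eq_iff_eq_mul.1 h2
    · rintro hv _ ⟨s, hs', rfl⟩
      apply Subtype.ext
      rw [hφ, hψ, hv s (mem_subgroupOf.1 hs'), mul_inv_cancel_right]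
  have hAL : A ≤ L := hAQ.trans inf_le_right
  have key := core φ (A := (A.subgroupOf L).map f) h7 hB hz3
    (fun v => Subtype.ext v.2.2.2) (map_mono (comap_mono hAQ))
    (fun e => hAJ fun a ha => by
      have h1 : f ⟨a, hAL ha⟩ ∈ (A.subgroupOf L).map f := mem_map_of_mem f (mem_subgroupOf.2 ha)
      rw [e, mem_bot, ← MonoidHom.mem_ker, hk, mem_subgroupOf] at h1
      exact h1)
    (by
      rw [hFx A hAL, ← relIndex_ker, hk, relIndex_subgroupOf hAL]
      exact hAi)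
  have e1 : Fx φ ⊤ = (Ce L).subgroupOf (Om J) := by
    rw [← hFx L le_rfl, subgroupOf_self, map_top_of_surjective f hs]
  have e2 : Fx φ (((Q ⊓ L).subgroupOf L).map f ⊔ zpowers (f z')) =
      (Om J ⊓ Ce (Q ⊓ L) ⊓ C1 z).subgroupOf (Om J) := by
    rw [Fx_sup, hFx _ inf_le_right]
    ext v
    rw [mem_inf, mem_Fx_zp, mem_subgroupOf, mem_subgroupOf, mem_inf, mem_inf,
      mem_centralizer_singleton_iff, hφ, Subtype.ext_iff, hψ, hz', mul_inv_eq_iff_eq_mul]
    exact ⟨fun h => ⟨⟨v.2, h.1⟩, h.2.symm⟩, fun h => ⟨h.1.2, h.2.symm⟩⟩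
  rw [e1, e2, relIndex_subgroupOf (inf_le_left.trans inf_le_left)] at key
  exact key

end H78.DPF2
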