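import Cfsg.Agent.H92.DP0BSpec
import Cfsg.Agent.H18.Misc2
import Cfsg.Agent.H2.Core

/-! Lifting `KQ` over the 2-core. -/

set_option autoImplicit false

namespace H78.DPKL

open Subgroup Cfsg H98 H48.DP H57.DPC H48.DP2 H92.DPB

universe u

theorem tw_map {A B : Type u} [Group A] [Group B] (f : A →* B) (hk : IsPGroup 2 f.ker)
    {E H : Subgroup A} {H' : Subgroup B} (hH : H.map f ≤ H') (h : Tw E H) : Tw (E.map f) H' := by
  obtain ⟨X, Y, h1, h2, h3, h4, h5, h6, h7⟩ := h
  refine ⟨X.map f, Y.map f, (map_mono h1).trans hH, (map_mono h2).trans hH, h3.map f, h4.map f,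
    (map_mono h5).trans (le_normalizer_map f), (map_mono h6).trans (le_normalizer_map f),
    fun hp => h7 ?_⟩
  rw [← Subgroup.map_sup] at hp
  exact (hp.comap_of_ker_isPGroup f hk).to_le (le_comap_map f _)

theorem tw_comap {A B : Type u} [Group A] [Group B] (f : A →* B) (hk : IsPGroup 2 f.ker)
    {E C : Subgroup A} {C' : Subgroup B} (hC : C' ≤ C.map f) (hE : E ≤ No C)
    (h : Tw (E.map f) C') : Tw E C := by
  obtain ⟨X, Y, h1, h2, h3, h4, h5, h6, h7⟩ := h
  have hn : ∀ Z : Subgroup B, E.map f ≤ No Z → E ≤ No (Z.comap f ⊓ C) := fun Z hZ =>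
    (le_inf ((map_le_iff_le_comap.1 hZ).trans (le_normalizer_comap f)) hE).trans
      inf_normalizer_le_normalizer_inf
  have hl : ∀ Z : Subgroup B, Z ≤ C' → Z ≤ (Z.comap f ⊓ C).map f := fun Z hZ x hx => by
    obtain ⟨c, hc, rfl⟩ := hC (hZ hx)
    exact mem_map_of_mem f ⟨hx, hc⟩
  refine ⟨X.comap f ⊓ C, Y.comap f ⊓ C, inf_le_right, inf_le_right,
    (h3.comap_of_ker_isPGroup f hk).to_inf_left, (h4.comap_of_ker_isPGroup f hk).to_inf_left,
    hn X h5, hn Y h6, fun hp => h7 ((hp.map f).to_le ?_)⟩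
  rw [Subgroup.map_sup]
  exact sup_le_sup (hl X h1) (hl Y h2)

theorem triv {A B : Type u} [Group A] [Group B] (f : A →* B) (hk : IsPGroup 2 f.ker)
    {K : Subgroup A} (hK : IsPGroup 3 K) {a : A} (ha : a ∈ K) (h : f a = 1) : a = 1 := by
  haveI : Fact (Nat.Prime 3) := ⟨Nat.prime_three⟩
  exact disjoint_def.1 (IsPGroup.disjoint_of_ne 2 3 (by norm_num) _ _ hk hK) h ha

theorem lift27 {A B : Type u} [Group A] [Group B] [Finite A] (f : A →* B)
    (hf : Function.Surjective f) (hk : IsPGroup 2 f.ker) {D : Subgroup B} (hD : E27 D) :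
    ∃ K : Subgroup A, E27 K := by
  haveI : Fact (Nat.Prime 3) := ⟨Nat.prime_three⟩
  haveI : Finite B := Finite.of_surjective f hf
  obtain ⟨k, hk3⟩ := IsPGroup.iff_card.1 (el_pg hD.1)
  have h1 : 3 ^ 3 ∣ Nat.card D := by
    rw [hk3]
    refine pow_dvd_pow 3 ?_
    by_contra hlt
    have h2 := hD.2
    rw [hk3] at h2
    have : k ≤ 2 := by omega
    interval_cases k <;> omega
  have h2 : Nat.card D ∣ Nat.card (D.comap f) := by
    conv_lhs => rw [← map_comap_eq_self_of_surjective hf D]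
    exact card_map_dvd _ f
  obtain ⟨K0, hK0⟩ := Sylow.exists_subgroup_card_pow_prime 3 (h1.trans h2)
  have hc : Nat.card (K0.map (D.comap f).subtype) = 3 ^ 3 := by
    rw [card_map_of_injective (subtype_injective _), hK0]
  have hp : IsPGroup 3 (K0.map (D.comap f).subtype) := IsPGroup.of_card hc
  have hle : K0.map (D.comap f).subtype ≤ D.comap f := map_subtype_le _
  refine ⟨_, el_of (fun a ha b hb => ?_) (fun a ha => ?_), by rw [hc]; norm_num⟩
  · have h3 := (el_comm hD.1 (hle ha) (hle hb)).eq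
    have h4 : a * b * (b * a)⁻¹ = 1 := triv f hk hp
      (mul_mem (mul_mem ha hb) (inv_mem (mul_mem hb ha)))
      (by rw [map_mul, map_inv, map_mul, map_mul, h3, mul_inv_cancel])
    exact mul_inv_eq_one.1 h4
  · exact triv f hk hp (pow_mem ha 3) (by rw [map_pow]; exact hD.1.2 _ (hle ha))

theorem jobKL : JobKL.{u} := by
  intro xs kq G _ _ H E hG hH hEH hno hE h9 htw
  haveI : Fact (Nat.Prime 3) := ⟨Nat.prime_three⟩
  let π := QuotientGroup.mk' (pCore 2 H)
  have hs : Function.Surjective π := QuotientGroup.mk'_surjective _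
  have hk : IsPGroup 2 π.ker := by
    rw [QuotientGroup.ker_mk']; exact H2.pCore_isPGroup 2 H
  have hk0 : IsPGroup 2 H.subtype.ker := by rw [ker_subtype]; exact IsPGroup.of_bot
  have hb : pCore 2 (H ⧸ pCore 2 H) = ⊥ := H2.pCore_quotient_pCore 2 H
  have eE : (E.subgroupOf H).map H.subtype = E := map_subgroupOf_eq_of_le hEH
  have hE0 : IsElementaryAbelian 3 (E.subgroupOf H) :=
    el_of (fun a ha b hb => Subtype.ext (el_comm hE ha hb).eq)
      fun a ha => Subtype.ext (hE.2 a ha)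
  have t0 : Tw (E.subgroupOf H) ⊤ := tw_comap H.subtype hk0 (C' := H)
    (by rw [← MonoidHom.range_eq_map, range_subtype]) (by simp) (by rw [eE]; exact htw)
  have t1 : Tw ((E.subgroupOf H).map π) ⊤ := tw_map π hk le_top t0
  have hE1 : IsElementaryAbelian 3 ((E.subgroupOf H).map π) := by
    refine el_of ?_ ?_
    · rintro _ ⟨a, ha, rfl⟩ _ ⟨b, hb, rfl⟩; exact (el_comm hE0 ha hb).map π
    · rintro _ ⟨a, ha, rfl⟩; rw [← map_pow, hE0.2 a ha, map_one]
  have hc1 : Nat.card ((E.subgroupOf H).map π) = 9 := by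
    rw [← relIndex_ker, ← inf_relIndex_right,
      disjoint_iff.1 (IsPGroup.disjoint_of_ne 2 3 (by norm_num) _ _ hk (el_pg hE0)),
      relIndex_bot_left, ← h9, ← card_map_of_injective (subtype_injective H), eE]
  obtain ⟨_, ⟨e, he, rfl⟩, he1, t2⟩ := kq _ _ (xs G hG H hH _ hb) hb (fun B hB => by
    obtain ⟨K, hK⟩ := lift27 π hs hk hB
    refine hno (K.map H.subtype) ⟨el_of ?_ ?_, ?_⟩ (map_subtype_le _)
    · rintro _ ⟨a, ha, rfl⟩ _ ⟨b, hb, rfl⟩; exact (el_comm hK.1 ha hb).map _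
    · rintro _ ⟨a, ha, rfl⟩; rw [← map_pow, hK.1.2 a ha, map_one]
    · rw [card_map_of_injective (subtype_injective H)]; exact hK.2) hE1 hc1 t1
  have hne : e ≠ 1 := fun h => he1 (by rw [h, map_one])
  have ho : orderOf e = 3 := orderOf_eq_prime (hE0.2 e he) hne
  have hcp : (orderOf e).Coprime (Nat.card π.ker) := by
    obtain ⟨k, hk2⟩ := IsPGroup.iff_card.1 hk
    rw [ho, hk2]
    exact Nat.Coprime.pow_right k (by norm_num)
  have t3 : Tw (E.subgroupOf H) (C1 e) := tw_comap π hk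
    (H18.map_centralizer_singleton_of_coprime π hs hcp).ge
    (le_trans (fun a ha => mem_centralizer_singleton_iff.2 (el_comm hE0 ha he).eq) le_normalizer) t2
  refine ⟨e, he, fun h => hne (Subtype.ext h), ?_⟩
  rw [← eE]
  refine tw_map H.subtype hk0 ?_ t3
  rintro _ ⟨c, hc, rfl⟩
  exact mem_centralizer_singleton_iff.2
    (congrArg Subtype.val (mem_centralizer_singleton_iff.1 hc))

end H78.DPKL
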