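/- `H63.Oc.JobId`: the Bruhat decomposition of the group generated by the amalgam. -/
import Cfsg.Agent.H63.OcSpec

set_option autoImplicit false

namespace H78.Par
open Subgroup H63.Oc

universe u v w

section
variable {G : Type*} [Group G]

/-- the alternating word `a b a ⋯` of length `k` -/
def al : G → G → ℕ → G
  | _, _, 0 => 1
  | a, b, k + 1 => a * al b a k

theorem map_al {G' : Type*} [Group G'] (f : G →* G') (k : ℕ) :
    ∀ a b : G, f (al a b k) = al (f a) (f b) k := by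
  induction k with
  | zero => exact fun _ _ => map_one f
  | succ k ih => intro a b; rw [al, al, map_mul, ih]

theorem al_eight {a b : G} (ha : a * a = 1) (hb : b * b = 1) (h : (a * b) ^ 8 = 1) :
    al a b 8 = al b a 8 := by
  have e1 : al a b 8 = (a * b) ^ 4 := by simp [al, pow_succ, mul_assoc]
  have e2 : al b a 8 = (b * a) ^ 4 := by simp [al, pow_succ, mul_assoc]
  rw [e1, e2, show b * a = (a * b)⁻¹ by
    rw [mul_inv_rev, inv_eq_of_mul_eq_one_right ha, inv_eq_of_mul_eq_one_right hb], inv_pow,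
    eq_inv_iff_mul_eq_one, ← pow_add, h]

/-- the double coset -/
def Cell (B : Subgroup G) (w g : G) : Prop := ∃ b ∈ B, ∃ b' ∈ B, g = b * w * b'

theorem Cell.mul {B : Subgroup G} {w g c : G} (h : Cell B w g) (hc : c ∈ B) : Cell B w (c * g) := by
  obtain ⟨b, hb, b', hb', rfl⟩ := h
  exact ⟨c * b, mul_mem hc hb, b', hb', by group⟩

/-- the rank one data -/
structure R1 (B : Subgroup G) (n : G) (U : Set G) : Prop where
  sq : n * n = 1
  dec : ∀ b ∈ B, ∃ q, ∃ x ∈ U, b = q * x ∧ n * q * n ∈ B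
  rk : ∀ x ∈ U, x ≠ 1 → ∃ b ∈ B, ∃ x' ∈ U, n * x * n = b * n * x'

theorem R1.up {B : Subgroup G} {n w g : G} {U : Set G} (h : R1 B n U)
    (hw : ∀ x ∈ U, w⁻¹ * x * w ∈ B) (hg : Cell B w g) : Cell B (n * w) (n * g) := by
  obtain ⟨b, hb, b', hb', rfl⟩ := hg
  obtain ⟨q, x, hx, rfl, hq⟩ := h.dec b hb
  refine ⟨_, hq, _, mul_mem (hw x hx) hb', ?_⟩
  calc _ = n * q * (n * n)⁻¹ * (n * n) * x * w * b' := by group
    _ = _ := by nth_rewrite 1 [h.sq]; group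

theorem R1.down {B : Subgroup G} {n w g : G} {U : Set G} (h : R1 B n U)
    (hw : ∀ x ∈ U, w⁻¹ * x * w ∈ B) (hg : Cell B (n * w) g) :
    Cell B w (n * g) ∨ Cell B (n * w) (n * g) := by
  obtain ⟨b, hb, b', hb', rfl⟩ := hg
  obtain ⟨q, x, hx, rfl, hq⟩ := h.dec b hb
  by_cases e : x = 1
  · exact Or.inl ⟨_, hq, _, hb', by rw [e]; group⟩
  · obtain ⟨c, hc, x', hx', e'⟩ := h.rk x hx e
    refine Or.inr ⟨_, mul_mem hq hc, _, mul_mem (hw x' hx') hb', ?_⟩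
    calc _ = n * q * (n * n)⁻¹ * n * (n * x * n) * w * b' := by group
      _ = _ := by rw [e', h.sq]; group

theorem cell_step {B : Subgroup G} {a b : G} {U : Set G} (h : R1 B a U) (e : al a b 8 = al b a 8)
    (hw : ∀ k ≤ 7, ∀ x ∈ U, (al b a k)⁻¹ * x * al b a k ∈ B) {g : G}
    (hg : ∃ k ≤ 8, Cell B (al a b k) g ∨ Cell B (al b a k) g) :
    ∃ k ≤ 8, Cell B (al a b k) (a * g) ∨ Cell B (al b a k) (a * g) := by
  have key : ∀ k ≤ 7, Cell B (al a b (k + 1)) g →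
      ∃ k ≤ 8, Cell B (al a b k) (a * g) ∨ Cell B (al b a k) (a * g) := fun k hk hg =>
    (h.down (hw k hk) hg).elim (fun c => ⟨k, by omega, Or.inr c⟩)
      fun c => ⟨k + 1, by omega, Or.inl c⟩
  obtain ⟨k, hk, hg | hg⟩ := hg
  · rcases k with _ | k
    · exact ⟨1, by omega, Or.inl (h.up (hw 0 (by omega)) hg)⟩
    · exact key k (by omega) hg
  · by_cases e8 : k = 8
    · subst e8; exact key 7 le_rfl (e ▸ hg)
    · exact ⟨k + 1, by omega, Or.inl (h.up (hw k (by omega)) hg)⟩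

end

section
variable {M : Type*} [Group M]

/-- `c` can be conjugated `k` times -/
def gd : Subgroup M → Subgroup M → (M → M) → (M → M) → ℕ → M → Prop
  | _, _, _, _, 0, _ => True
  | X, Y, f, g, k + 1, c => c ∈ X ∧ gd Y X g f k (f c)

theorem gd_mono (k : ℕ) : ∀ (X Y : Subgroup M) (f g : M → M) (c : M),
    gd X Y f g (k + 1) c → gd X Y f g k c := by
  induction k with
  | zero => intros; trivial
  | succ k ih => exact fun X Y f g c h => ⟨h.1, ih _ _ _ _ _ h.2⟩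

theorem gd_le {k l : ℕ} (h : k ≤ l) {X Y : Subgroup M} {f g : M → M} {c : M}
    (hc : gd X Y f g l c) : gd X Y f g k c := by
  induction h with
  | refl => exact hc
  | step _ ih => exact ih (gd_mono _ _ _ _ _ _ hc)

theorem gd_conj {G : Type*} [Group G] (ι : M →* G) (k : ℕ) : ∀ (X Y : Subgroup M) (f g : M → M)
    (a b : G) (c : M), a * a = 1 → b * b = 1 → (∀ c ∈ X, a * ι c * a = ι (f c)) →
    (∀ c ∈ Y, b * ι c * b = ι (g c)) → gd X Y f g k c →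
    ∃ c', (al a b k)⁻¹ * ι c * al a b k = ι c' := by
  induction k with
  | zero => exact fun _ _ _ _ _ _ c _ _ _ _ _ => ⟨c, by simp [al]⟩
  | succ k ih =>
    intro X Y f g a b c ha hb h1 h2 h
    obtain ⟨c', e⟩ := ih Y X g f b a (f c) hb ha h2 h1 h.2
    refine ⟨c', ?_⟩
    rw [← e, ← h1 c h.1, al, mul_inv_rev, inv_eq_of_mul_eq_one_right ha]
    group

end

variable {K : Type*} [Field K] [CharP K 2] {T : TF K} {G : Type*} [Group G]

theorem gd_x1 (t : K) : gd (sQ T) (sQ1 T) Co.nu8 Co.nu1 7 (x1 T t) := by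
  simp [gd, mem_sQ, mem_sQ1, Co.nu8, Co.nu1, x1]

theorem gd_uu (b a : K) : gd (sQ1 T) (sQ T) Co.nu1 Co.nu8 7 (uu T b a) := by
  simp [gd, mem_sQ, mem_sQ1, Co.nu8, Co.nu1, uu]

theorem eq_uu {c : Co T} (h : c ∈ sU8 T) : c = uu T c.b8 c.a8 := by
  obtain ⟨h1, h2, h3, h4, h5, h6, h7, h8, h9, h10⟩ := h
  ext <;> simp [uu, *]

/-- the Borel subgroup -/
def bor (A : AD T G) : Subgroup G where
  carrier := {g | ∃ c p, g = A.ι c * A.h p}
  one_mem' := ⟨1, 1, by simp⟩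
  mul_mem' := by
    rintro _ _ ⟨c, p, rfl⟩ ⟨c', p', rfl⟩
    exact ⟨c * dg T p.1 p.2 c', p * p', by rw [map_mul, map_mul, ← A.tor.h_conj]; group⟩
  inv_mem' := by
    rintro _ ⟨c, p, rfl⟩
    exact ⟨dg T p⁻¹.1 p⁻¹.2 c⁻¹, p⁻¹, by rw [← A.tor.h_conj, map_inv, map_inv]; group⟩

variable (A : AD T G)

theorem ι_mem (c : Co T) : A.ι c ∈ bor A := ⟨c, 1, by simp⟩
theorem h_mem (p : Kˣ × Kˣ) : A.h p ∈ bor A := ⟨1, p, by simp⟩

theorem bor_right {g : G} (h : g ∈ bor A) : ∃ c p, g = A.h p * A.ι c := by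
  obtain ⟨c, p, e⟩ := inv_mem h
  exact ⟨c⁻¹, p⁻¹, by rw [map_inv, map_inv, ← mul_inv_rev, ← e, inv_inv]⟩

theorem conj_mul_conj {n : G} (hn : n * n = 1) (x y : G) :
    n * (x * y) * n = n * x * n * (n * y * n) := by
  calc _ = n * x * (n * n)⁻¹ * (n * n) * y * n := by group
    _ = _ := by nth_rewrite 1 [hn]; group

theorem r1_n1 : R1 (bor A) A.n1 (Set.range fun t => A.ι (x1 T t)) where
  sq := A.n1_sq
  dec b hb := by
    obtain ⟨c, p, rfl⟩ := bor_right A hb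
    refine ⟨A.h p * A.ι (c * (x1 T c.a1)⁻¹), _, ⟨c.a1, rfl⟩, by simp [mul_assoc], ?_⟩
    rw [conj_mul_conj A.n1_sq, A.n1_h, A.n1_conj _ (by simp [mem_sQ1, x1, CharTwo.add_self_eq_zero])]
    exact mul_mem (h_mem A _) (ι_mem A _)
  rk := by
    rintro _ ⟨t, rfl⟩ h1
    have t0 : t ≠ 0 := by
      rintro rfl
      exact h1 (by rw [← map_one A.ι]; rfl)
    have x2 : A.ι (x1 T 1) * A.ι (x1 T 1) = 1 := by
      rw [← map_mul, ← map_one A.ι]
      congr 1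
      ext <;> simp [x1, CharTwo.add_self_eq_zero]
    have e1 : A.n1 * A.ι (x1 T 1) * A.n1 = A.ι (x1 T 1) * A.n1 * A.ι (x1 T 1) := by
      have := A.rank1
      rw [pow_succ, pow_two, ← mul_assoc, ← mul_assoc, mul_assoc _ (A.ι _) A.n1, mul_assoc,
        mul_eq_one_iff_eq_inv] at this
      rw [this, mul_inv_rev, mul_inv_rev, inv_eq_of_mul_eq_one_right x2,
        inv_eq_of_mul_eq_one_right A.n1_sq, mul_assoc]
    set p : Kˣ × Kˣ := (Units.mk0 t t0, 1)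
    have e2 : ∀ q : Kˣ × Kˣ, A.h q * A.ι (x1 T 1) * (A.h q)⁻¹ = A.ι (x1 T q.1) := fun q => by
      rw [A.tor.h_conj]
      congr 1
      ext <;> simp [x1, dg]
    refine ⟨A.h (w1 p) * A.ι (x1 T 1) * A.h (w1 (w1 p)⁻¹),
      mul_mem (mul_mem (h_mem A _) (ι_mem A _)) (h_mem A _), _, ⟨(w1 p).1, rfl⟩, ?_⟩
    show A.n1 * A.ι (x1 T p.1) * A.n1 = _ * A.ι (x1 T (w1 p).1)
    rw [← e2, ← e2, conj_mul_conj A.n1_sq, conj_mul_conj A.n1_sq, e1, ← A.n1_h (w1 p)⁻¹,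
      ← map_inv A.h p, A.n1_h, A.n1_h p⁻¹, show w1 p⁻¹ = (w1 p)⁻¹ by simp [w1, mul_comm], map_inv]
    calc _ = A.h (w1 p) * A.ι (x1 T 1) * A.n1 * (A.h (w1 p))⁻¹ * (A.n1 * A.n1)⁻¹ *
        (A.n1 * A.n1) * (A.h (w1 p) * A.ι (x1 T 1) * (A.h (w1 p))⁻¹) := by group
      _ = _ := by nth_rewrite 1 [A.n1_sq]; group

theorem r1_n8 : R1 (bor A) A.n8 (A.ι '' sU8 T) where
  sq := A.n8_sq
  dec b hb := by
    obtain ⟨c, p, rfl⟩ := bor_right A hb
    refine ⟨A.h p * A.ι (c * (uu T c.b8 c.a8)⁻¹), _, ⟨uu T c.b8 c.a8, by simp [mem_sU8, uu], rfl⟩,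
      by simp [mul_assoc], ?_⟩
    rw [conj_mul_conj A.n8_sq, A.tor.n8_h, A.n8_conj _ (by
      refine ⟨?_, ?_⟩ <;> simp [uu] <;> grind)]
    exact mul_mem (h_mem A _) (ι_mem A _)
  rk := by
    rintro _ ⟨c, hc, rfl⟩ h1
    obtain ⟨u', -, u'', hu'', p, e⟩ := A.rank8 c hc fun e => h1 (by rw [e, map_one])
    exact ⟨_, mul_mem (ι_mem A u') (A.tor.h_h0 p ▸ h_mem A p), _, ⟨u'', hu'', rfl⟩, e⟩

/-- the Bruhat decomposition -/
theorem bruhat (hb : A.Braid) {g : G} (hg : g ∈ A.G0) :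
    ∃ k ≤ 8, Cell (bor A) (al A.n1 A.n8 k) g ∨ Cell (bor A) (al A.n8 A.n1 k) g := by
  have e := al_eight A.n1_sq A.n8_sq hb
  have gen : ∀ x ∈ Set.range A.ι ∪ Set.range A.h ∪ {A.n1, A.n8}, ∀ y, y = x ∨ y = x⁻¹ → ∀ g,
      (∃ k ≤ 8, Cell (bor A) (al A.n1 A.n8 k) g ∨ Cell (bor A) (al A.n8 A.n1 k) g) →
      ∃ k ≤ 8, Cell (bor A) (al A.n1 A.n8 k) (y * g) ∨ Cell (bor A) (al A.n8 A.n1 k) (y * g) := by
    intro x hx y hy g hg
    have k : x ∈ bor A → ∃ k ≤ 8, Cell (bor A) (al A.n1 A.n8 k) (y * g) ∨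
        Cell (bor A) (al A.n8 A.n1 k) (y * g) := fun hx => by
      have : y ∈ bor A := by
        rcases hy with rfl | rfl
        exacts [hx, inv_mem hx]
      exact hg.imp fun k h => ⟨h.1, h.2.imp (·.mul this) (·.mul this)⟩
    rcases hx with (⟨c, rfl⟩ | ⟨p, rfl⟩) | rfl | rfl
    · exact k (ι_mem A c)
    · exact k (h_mem A p)
    · rw [inv_eq_of_mul_eq_one_right A.n1_sq, or_self] at hy
      subst hy
      refine cell_step (r1_n1 A) e ?_ hg
      rintro k hk _ ⟨t, rfl⟩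
      obtain ⟨c, e⟩ := gd_conj A.ι k _ _ _ _ _ _ _ A.n8_sq A.n1_sq A.n8_conj A.n1_conj
        (gd_le hk (gd_x1 t))
      exact e ▸ ι_mem A c
    · rw [inv_eq_of_mul_eq_one_right A.n8_sq, or_self] at hy
      subst hy
      refine (cell_step (r1_n8 A) e.symm ?_ (hg.imp fun k h => ⟨h.1, h.2.symm⟩)).imp
        fun k h => ⟨h.1, h.2.symm⟩
      rintro k hk _ ⟨c, hc, rfl⟩
      obtain ⟨c, e⟩ := gd_conj A.ι k _ _ _ _ _ _ c A.n1_sq A.n8_sq A.n1_conj A.n8_conj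
        (gd_le hk (eq_uu hc ▸ gd_uu c.b8 c.a8))
      exact e ▸ ι_mem A c
  induction hg using closure_induction_left with
  | one => exact ⟨0, by omega, Or.inl ⟨1, one_mem _, 1, one_mem _, by simp [al]⟩⟩
  | mul_left x hx y _ ih => exact gen x hx x (Or.inl rfl) y ih
  | inv_mul_cancel x hx y _ ih => exact gen x hx _ (Or.inr rfl) y ih

omit [CharP K 2] in
theorem x4_comm (c : Co T) (t : K) : c * x4 T t = x4 T t * c := by
  ext <;> simp [x4, add_comm]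

theorem h_x4 (p : Kˣ × Kˣ) (t : K) :
    A.h p * A.ι (x4 T t) * (A.h p)⁻¹ = A.ι (x4 T (chi4 T p.1 p.2 * t)) := by
  rw [A.tor.h_conj]
  congr 1
  ext <;> simp [x4, dg, chi4]

theorem bor_x4 {b : G} (hb : b ∈ bor A) {t : K} (ht : t ≠ 0) :
    ∃ t', t' ≠ 0 ∧ b * A.ι (x4 T t) = A.ι (x4 T t') * b := by
  obtain ⟨c, p, rfl⟩ := hb
  refine ⟨chi4 T p.1 p.2 * t, by simp [chi4, ht], ?_⟩
  rw [← mul_assoc, ← map_mul, ← x4_comm, map_mul, ← h_x4]
  group

theorem n8_not_mem : A.n8 ∉ bor A := by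
  intro h
  obtain ⟨c, p, e⟩ := h
  have h1 := A.n8_conj (x6 T 1) (by simp [mem_sQ, x6])
  rw [show A.n8 * A.ι (x6 T 1) * A.n8 = A.n8 * A.ι (x6 T 1) * A.n8⁻¹ by
    rw [inv_eq_of_mul_eq_one_right A.n8_sq], e,
    show A.ι c * A.h p * A.ι (x6 T 1) * (A.ι c * A.h p)⁻¹ =
      A.ι c * (A.h p * A.ι (x6 T 1) * (A.h p)⁻¹) * (A.ι c)⁻¹ by group, A.tor.h_conj,
    mul_inv_eq_iff_eq_mul, ← map_mul, ← map_mul] at h1
  have h2 := congrArg Co.a2 (A.inj h1)
  simp [x6, dg, Co.nu8] at h2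

theorem mv {n x y : G} (hn : n * n = 1) (h : n * x * n = y) :
    (∀ w, x * (n * w) = n * (y * w)) ∧ n * x = y * n := by
  subst h
  refine ⟨fun w => ?_, by rw [mul_assoc, hn, mul_one]⟩
  calc _ = (n * n) * x * n * w := by rw [hn]; group
    _ = _ := by group

theorem n8_x4 (t : K) : A.n8 * A.ι (x4 T t) * A.n8 = A.ι (x4 T t) := by
  rw [A.n8_conj _ (by simp [mem_sQ, x4])]
  congr 1
  ext <;> simp [x4, Co.nu8]

theorem word_x4 {t t' : K} (ht' : t' ≠ 0) {k : ℕ} (hk : k ≤ 7)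
    (h : A.ι (x4 T t') * al A.n1 A.n8 k = al A.n1 A.n8 k * A.ι (x4 T t)) : k = 0 := by
  have e1 : ∀ t, A.n1 * A.ι (x4 T t) * A.n1 = A.ι (x6 T t) := fun t => by
    rw [A.n1_conj _ (by simp [mem_sQ1, x4])]
    congr 1
    ext <;> simp [x4, x6, Co.nu1]
  have e2 : ∀ t, A.n8 * A.ι (x6 T t) * A.n8 = A.ι (x2 T t) := fun t => by
    rw [A.n8_conj _ (by simp [mem_sQ, x6])]
    congr 1
    ext <;> simp [x2, x6, Co.nu8]
  have e3 : ∀ t, A.n1 * A.ι (x2 T t) * A.n1 = A.ι (x8 T t) := fun t => by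
    rw [A.n1_conj _ (by simp [mem_sQ1, x2])]
    congr 1
    ext <;> simp [x2, x8, Co.nu1]
  have l1 := (mv A.n1_sq (e1 t')).1
  have l2 := (mv A.n8_sq (e2 t')).1
  have l3 := (mv A.n1_sq (e3 t')).1
  have r0 := (mv A.n8_sq (n8_x4 A t)).2
  have r1 := (mv A.n1_sq (e1 t)).2
  have r2 := (mv A.n8_sq (e2 t)).2
  have r3 := (mv A.n1_sq (e3 t)).2
  have n64 : A.ι (x6 T t') ≠ A.ι (x4 T t) := fun e => ht' (congrArg Co.a6 (A.inj e))
  have n24 : A.ι (x2 T t') ≠ A.ι (x4 T t) := fun e => ht' (congrArg Co.a2 (A.inj e))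
  have n84 : A.ι (x8 T t') ≠ A.ι (x4 T t) := fun e => ht' (congrArg Co.a8 (A.inj e))
  have n82 : A.ι (x8 T t') ≠ A.ι (x2 T t) := fun e => ht' (congrArg Co.a8 (A.inj e))
  by_contra h0
  interval_cases k
  · exact h0 rfl
  all_goals simp only [al, mul_assoc, l1, l2, l3, one_mul, mul_right_inj] at h
  · exact n64 (by simpa using h)
  · exact n24 (by simpa using h)
  · exact n84 (by simpa using h)
  · exact n84 (by simpa [r0] using h)
  · rw [r1, ← mul_assoc A.n8 (A.ι _), r2] at h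
    exact n82 (by simpa [mul_assoc] using h)
  · rw [r0, ← mul_assoc A.n1 (A.ι _), r1, mul_assoc, ← mul_assoc A.n8 (A.ι _), r2] at h
    exact n82 (by simpa [mul_assoc] using h)
  · rw [r1, ← mul_assoc A.n8 (A.ι (x6 T t)), r2, mul_assoc, ← mul_assoc A.n1 (A.ι (x2 T t)), r3,
      mul_one, mul_assoc, ← mul_assoc A.n8 (A.ι (x8 T t)), ← mul_assoc (A.ι _),
      mul_left_inj] at h
    obtain ⟨u', -, u'', -, p, e⟩ := A.rank8 (x8 T t') (by simp [mem_sU8, x8])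
      fun e => ht' (congrArg Co.a8 e)
    rw [mul_assoc, h, ← mul_assoc, A.n8_sq, one_mul] at e
    refine n8_not_mem A ?_
    rw [show A.n8 = (A.ι u' * A.h0 p)⁻¹ * A.ι (x8 T t) * (A.ι u'')⁻¹ by rw [e]; group]
    exact mul_mem (mul_mem (inv_mem (mul_mem (ι_mem A _) (A.tor.h_h0 p ▸ h_mem A p))) (ι_mem A _))
      (inv_mem (ι_mem A _))

/-- the cells that meet the normalizer of `Z` -/
theorem cell_x4 (hb : A.Braid) {k : ℕ} (hk : k ≤ 8) {w g : G}
    (hw : w = al A.n1 A.n8 k ∨ w = al A.n8 A.n1 k) (hg : Cell (bor A) w g) {t t' : K} (ht : t ≠ 0)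
    (ht' : t' ≠ 0) (h : g * A.ι (x4 T t) = A.ι (x4 T t') * g) :
    k = 0 ∨ (k = 1 ∧ w = al A.n8 A.n1 k) := by
  obtain ⟨b, hb1, b', hb2, rfl⟩ := hg
  obtain ⟨a, -, e1⟩ := bor_x4 A hb2 ht
  obtain ⟨a', ha', e2⟩ := bor_x4 A (inv_mem hb1) ht'
  have e : A.ι (x4 T a') * w = w * A.ι (x4 T a) := by
    calc _ = A.ι (x4 T a') * b⁻¹ * (b * w * b') * b'⁻¹ := by group
      _ = b⁻¹ * (b * w * b' * A.ι (x4 T t)) * b'⁻¹ := by rw [← e2, h]; group
      _ = w * (b' * A.ι (x4 T t)) * b'⁻¹ := by group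
      _ = _ := by rw [e1]; group
  have key : ∀ k ≤ 7, w = al A.n8 A.n1 (k + 1) → k = 0 := by
    rintro k hk rfl
    refine word_x4 A ha' hk (t := a) ?_
    rw [al, (mv A.n8_sq (n8_x4 A a')).1, mul_assoc, mul_right_inj] at e
    exact e
  rcases hw with rfl | rfl
  · by_cases e8 : k = 8
    · subst e8
      exact absurd (key 7 le_rfl (al_eight A.n1_sq A.n8_sq hb)) (by omega)
    · exact Or.inl (word_x4 A ha' (by omega) e)
  · rcases k with _ | k
    · exact Or.inl rfl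
    · exact Or.inr ⟨by rw [key k (by omega) rfl], rfl⟩

theorem h_mem_C {p : Kˣ × Kˣ} (h : A.h p * A.τ = A.τ * A.h p) : A.h p ∈ A.C := by
  have e := h_x4 A p 1
  rw [mul_inv_eq_iff_eq_mul, ← CS.τ, h, mul_left_inj] at e
  have e' : chi4 T p.1 p.2 = 1 := by simpa [x4] using (congrArg Co.a4 (A.inj e)).symm
  exact A.tor.h_h0 ⟨p, e'⟩ ▸ A.h0_mem _

theorem cen_le (hb : A.Braid) {g : G} (hg : g ∈ A.G0) (h : g * A.τ = A.τ * g) : g ∈ A.C := by
  have c1 : ∀ c, Commute (A.ι c) A.τ := fun c => by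
    show A.ι c * A.ι _ = A.ι _ * A.ι c
    rw [← map_mul, x4_comm, map_mul]
  have c2 : Commute A.n8 A.τ := (mv A.n8_sq (n8_x4 A 1)).2
  obtain ⟨k, hk, hc⟩ := bruhat A hb hg
  have : Cell (bor A) 1 g ∨ Cell (bor A) A.n8 g := by
    rcases hc with hc | hc
    · rcases cell_x4 A hb hk (Or.inl rfl) hc one_ne_zero one_ne_zero h with rfl | ⟨rfl, e⟩
      · exact Or.inl hc
      · rw [e] at hc; exact Or.inr (by simpa [al] using hc)
    · rcases cell_x4 A hb hk (Or.inr rfl) hc one_ne_zero one_ne_zero h with rfl | ⟨rfl, -⟩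
      · exact Or.inl hc
      · exact Or.inr (by simpa [al] using hc)
  rcases this with ⟨b, h1, b', h2, rfl⟩ | ⟨b, h1, b', h2, rfl⟩
  · obtain ⟨c, p, e⟩ := mul_mem h1 h2
    rw [mul_one, e] at h ⊢
    refine mul_mem (A.ι_mem c) (h_mem_C A ?_)
    have := (c1 c).inv_left.mul_left h
    rwa [inv_mul_cancel_left] at this
  · obtain ⟨c, p, rfl⟩ := h1
    obtain ⟨c', p', rfl⟩ := bor_right A h2
    have e : A.ι c * A.h p * A.n8 * (A.h p' * A.ι c') =
        A.ι c * A.h (p * w8 T p') * A.n8 * A.ι c' := by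
      rw [map_mul, ← A.tor.n8_h]
      calc _ = A.ι c * A.h p * A.n8 * A.h p' * (A.n8 * A.n8) * A.ι c' := by rw [A.n8_sq]; group
        _ = _ := by group
    rw [e] at h ⊢
    refine mul_mem (mul_mem (mul_mem (A.ι_mem c) (h_mem_C A ?_)) A.n8_mem) (A.ι_mem c')
    have := (((c1 c).inv_left.mul_left h).mul_left (c1 c').inv_left).mul_left c2.inv_left
    rwa [show (A.ι c)⁻¹ * (A.ι c * A.h (p * w8 T p') * A.n8 * A.ι c') * (A.ι c')⁻¹ * A.n8⁻¹ =
      A.h (p * w8 T p') by group] at this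

theorem bor_inj {c : Co T} {p : Kˣ × Kˣ} (h : A.ι c * A.h p = 1) : c = 1 ∧ p = 1 := by
  have e : ∀ d, c * dg T p.1 p.2 d = d * c := fun d => A.inj (by
    rw [map_mul, map_mul, ← A.tor.h_conj, eq_inv_of_mul_eq_one_right h]; group)
  have e1 := congrArg Co.a1 (e (x1 T 1))
  have e2 := congrArg Co.b8 (e (y8 T 1))
  have : p = 1 := Prod.ext (Units.ext (by simpa [x1, dg, add_comm] using e1))
    (Units.ext (by simpa [y8, dg, add_comm c.b8] using e2))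
  subst this
  exact ⟨A.inj (by simpa using h), rfl⟩

/-- a homomorphism between two amalgams is an isomorphism of the generated groups -/
theorem equiv_of_hom {G' : Type*} [Group G'] (A' : AD T G') (hb : A.Braid) (f : G →* G')
    (h1 : ∀ c, f (A.ι c) = A'.ι c) (h2 : ∀ p, f (A.h p) = A'.h p) (h3 : f A.n1 = A'.n1)
    (h4 : f A.n8 = A'.n8) : Nonempty (A.G0 ≃* A'.G0) := by
  have hb' : A'.Braid := by rw [AD.Braid, ← h3, ← h4, ← map_mul, ← map_pow, hb, map_one]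
  have hB : ∀ b ∈ bor A, f b ∈ bor A' := by
    rintro _ ⟨c, p, rfl⟩
    exact ⟨c, p, by rw [map_mul, h1, h2]⟩
  have hm : A.G0.map f = A'.G0 := by
    rw [AD.G0, AD.G0, MonoidHom.map_closure, Set.image_union, Set.image_union, Set.image_pair, h3,
      h4, ← Set.range_comp, ← Set.range_comp, show f ∘ A.ι = A'.ι from funext h1,
      show f ∘ A.h = A'.h from funext h2]
  have hi : Function.Injective (f.subgroupMap A.G0) := by
    rw [injective_iff_map_eq_one]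
    rintro ⟨g, hg⟩ e
    have e : f g = 1 := congrArg Subtype.val e
    obtain ⟨k, hk, hc⟩ := bruhat A hb hg
    have cm : ∀ w, Cell (bor A) w g → Cell (bor A') (f w) 1 := by
      rintro w ⟨b, h1, b', h2, rfl⟩
      exact ⟨_, hB b h1, _, hB b' h2, by rw [← e, map_mul, map_mul]⟩
    have n8 : ¬ Cell (bor A') (al A'.n8 A'.n1 1) 1 := by
      rintro ⟨b, h1, b', h2, e⟩
      refine n8_not_mem A' ?_
      rw [show A'.n8 = b⁻¹ * (b * al A'.n8 A'.n1 1 * b') * b'⁻¹ by simp [al, mul_assoc], ← e]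
      exact mul_mem (mul_mem (inv_mem h1) (one_mem _)) (inv_mem h2)
    have : Cell (bor A) 1 g := by
      rcases hc with hc | hc <;> have k1 := cm _ hc <;> rw [map_al, h3, h4] at k1
      · rcases cell_x4 A' hb' hk (Or.inl rfl) k1 one_ne_zero one_ne_zero (by simp) with
          rfl | ⟨rfl, e⟩
        · exact hc
        · exact absurd (e ▸ k1) n8
      · rcases cell_x4 A' hb' hk (Or.inr rfl) k1 one_ne_zero one_ne_zero (by simp) with
          rfl | ⟨rfl, -⟩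
        · exact hc
        · exact absurd k1 n8
    obtain ⟨b, k1, b', k2, rfl⟩ := this
    obtain ⟨c, p, e'⟩ := mul_mem k1 k2
    rw [mul_one, e', map_mul, h1, h2] at e
    obtain ⟨rfl, rfl⟩ := bor_inj A' e
    exact Subtype.ext (by simpa using e')
  exact ⟨(MulEquiv.ofBijective _ ⟨hi, f.subgroupMap_surjective _⟩).trans (MulEquiv.subgroupCongr hm)⟩

/-- the product of two amalgams -/
def prodAD {G' : Type*} [Group G'] (A' : AD T G')
    (h : ∀ u u' u'' p, u ∈ sU8 T → u' ∈ sU8 T → u'' ∈ sU8 T →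
      A.n8 * A.ι u * A.n8 = A.ι u' * A.h0 p * A.n8 * A.ι u'' →
      A'.n8 * A'.ι u * A'.n8 = A'.ι u' * A'.h0 p * A'.n8 * A'.ι u'') : AD T (G × G') where
  ι := A.ι.prod A'.ι
  inj := fun _ _ e => A.inj (congrArg Prod.fst e)
  n8 := (A.n8, A'.n8)
  h0 := A.h0.prod A'.h0
  h0_conj p c := Prod.ext (A.h0_conj p c) (A'.h0_conj p c)
  n8_sq := Prod.ext A.n8_sq A'.n8_sq
  n8_conj c hc := Prod.ext (A.n8_conj c hc) (A'.n8_conj c hc)
  n8_h0 p := Prod.ext (A.n8_h0 p) (A'.n8_h0 p)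
  rank8 u hu h1 := by
    obtain ⟨u', hu', u'', hu'', p, e⟩ := A.rank8 u hu h1
    exact ⟨u', hu', u'', hu'', p, Prod.ext e (h u u' u'' p hu hu' hu'' e)⟩
  h := A.h.prod A'.h
  n1 := (A.n1, A'.n1)
  tor := ⟨fun p => Prod.ext (A.tor.h_h0 p) (A'.tor.h_h0 p),
    fun p c => Prod.ext (A.tor.h_conj p c) (A'.tor.h_conj p c),
    fun p => Prod.ext (A.tor.n8_h p) (A'.tor.n8_h p)⟩
  n1_sq := Prod.ext A.n1_sq A'.n1_sq
  n1_conj c hc := Prod.ext (A.n1_conj c hc) (A'.n1_conj c hc)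
  n1_h p := Prod.ext (A.n1_h p) (A'.n1_h p)
  rank1 := Prod.ext A.rank1 A'.rank1

theorem jobId : JobId.{u, v, w} := by
  intro hE K _ _ _ T G _ A hbc hb
  refine ⟨fun g hg h => cen_le A hb hg h, fun G' _ A' hbc' hb' => ?_⟩
  have h := (hE K T G G' A.toCS A'.toCS hbc hbc').1
  have hP : (prodAD A A' h).Braid := Prod.ext hb hb'
  obtain ⟨e1⟩ := equiv_of_hom (prodAD A A' h) A hP (MonoidHom.fst G G') (fun _ => rfl)
    (fun _ => rfl) rfl rfl
  obtain ⟨e2⟩ := equiv_of_hom (prodAD A A' h) A' hP (MonoidHom.snd G G') (fun _ => rfl)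
    (fun _ => rfl) rfl rfl
  exact ⟨e1.symm.trans e2⟩

end H78.Par
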