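import Cfsg.Agent.H54.NFSpec
import Cfsg.Agent.H14.Tight

/-! Tower NF, job NR: the invariant Sylow subgroup of a non-full edge. -/

set_option autoImplicit false

namespace H78.NFNR

open Cfsg Subgroup MulAction H14 H98 H1.Gold H31.S2 H14.GC H14.FE H54.NF

universe u

theorem jobNR : JobNR.{u} := by
  intro G _ _ Q hQ g T h
  have hTn : T ≤ nor Q := h.syl.le.trans inf_le_right
  have hTQ : T ≤ cj g Q := h.syl.le.trans inf_le_left
  obtain ⟨P, hP, TP, hR⟩ := exists_inv_syl h.syl.isPGroup hTn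
  obtain ⟨h1, h2, -, ⟨e⟩⟩ := te_structure hQ h.out h.ne h.syl hP TP
  have hW : P ⊓ normalizer (T : Set G) ⊓ Q = P ⊓ Q ⊓ cen T := by
    refine le_antisymm (le_inf (inf_le_inf_right _ inf_le_left) ?_) ?_
    · exact le_centralizer_iff.1 (commutator_eq_bot_iff_le_centralizer.1 h2)
    · exact le_inf (le_inf (inf_le_left.trans inf_le_left)
        (inf_le_right.trans (centralizer_le_normalizer _))) (inf_le_left.trans inf_le_right)
  rw [hW] at e
  have hc : Nat.card ↥(P ⊓ Q ⊓ cen T) = Nat.card T := Nat.card_congr e.toEquiv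
  have hQ' := te_cj hQ g
  refine ⟨P ⊓ Q, h.syl.isPGroup, h.ne, hTn, hR, le_normalizer_inf (TP.trans le_normalizer) hTn,
    fun t ht htQ => mem_bot.1 (h1 ▸ (⟨ht, htQ⟩ : t ∈ T ⊓ Q)), fun t ht ht1 => ?_, ⟨e⟩,
    fun hle => h.nf ?_⟩
  · obtain ⟨d, hd, d2⟩ := exists_inv_two (h.syl.isPGroup.to_le (zpowers_le.2 ht))
      (fun e0 => ht1 (zpowers_eq_bot.1 e0))
    have hdQ : d ∈ cj g Q := hTQ (zpowers_le.2 ht hd)
    have hXn : P ⊓ Q ⊓ cen1 t ≤ nor (cj g Q) := by
      intro c hc1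
      refine te_mem_normalizer hQ' (inv_iff.1 d2) hdQ ?_
      obtain ⟨k, rfl⟩ := hd
      have h3 : Commute c t := mem_centralizer_singleton_iff.1 hc1.2
      have h4 := conj_mem_cj (g := c) hdQ
      rwa [(h3.zpow_right k).eq, mul_inv_cancel_right] at h4
    have hX2 : IsPGroup 2 ↥(P ⊓ Q ⊓ cen1 t) := hR.isPGroup.to_le inf_le_left
    have hWX : P ⊓ Q ⊓ cen T ≤ P ⊓ Q ⊓ cen1 t := inf_le_inf_left _ (cen_le_cen1 ht)
    obtain ⟨R', hR', hXR⟩ := exists_isSyl_le (H := cj g⁻¹ (cj g Q) ⊓ nor (cj g Q)) hX2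
      (le_inf (by rw [cj_inv_cj]; exact inf_le_left.trans inf_le_right) hXn)
    have hR'Q : R' ≤ Q := by
      have := hR'.le.trans inf_le_left
      rwa [cj_inv_cj] at this
    have hR1 : R' ≠ ⊥ := fun e0 => h.ne (by
      have h3 := hWX.trans hXR
      rw [e0, le_bot_iff] at h3
      rw [h3, card_bot] at hc
      exact card_eq_one.1 hc.symm)
    have hg' : g⁻¹ ∉ nor (cj g Q) := fun hg => h.out (by
      have h3 := cj_eq_self hg
      rw [cj_inv_cj] at h3
      exact cj_eq_self_iff.1 h3.symm)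
    obtain ⟨S', hS', hRS⟩ := exists_isSyl_le hR'.isPGroup (le_sup_right : R' ≤ cj g Q ⊔ R')
    obtain ⟨-, -, -, ⟨e'⟩⟩ := te_structure hQ' hg' hR1 hR' hS' hRS
    have hd2 : 2 ∣ Nat.card R' := by
      by_contra h5
      exact hR1 ((isSyl_self hR'.isPGroup).eq_bot_iff.2 h5)
    have hU : Nat.card ↥(S' ⊓ normalizer (R' : Set G) ⊓ cj g Q) ≤ Nat.card T :=
      h.syl.card_le (hS'.isPGroup.to_le (inf_le_left.trans inf_le_left))
        (le_inf inf_le_right ((inf_le_left.trans inf_le_right).trans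
          (te_normalizer_le hQ hd2 hR'Q)))
    rw [Nat.card_congr e'.toEquiv, ← hc] at hU
    rw [← eq_of_le_of_card_ge hWX ((card_le_of_le hXR).trans hU)]
    exact inf_le_right
  · rw [inf_eq_left.2 hle] at hc
    exact (hR.cj g).of_card_ge h.syl.isPGroup hTQ (by rw [card_cj, hc])

end H78.NFNR
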