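import Cfsg.Agent.H64.SGCov

/-! Row S3133: the weak form of the fact `RA` of the endgame (it also holds for `Ω₈⁺(2)`). -/

set_option autoImplicit false

namespace H78.Y3

open H64.SG (Cs Ns)

variable {Y : Type} [Group Y] (τ : MulAut Y) (Z Q : Subgroup Y)

/-- For `JobCA2`. -/
structure RA2 (P : Subgroup Y) : Prop where
  tz : ∀ z ∈ Z, τ z = z
  irr : ∀ B, Z ≤ B → B ≤ Q → P ≤ Ns B → Q ≤ B ∨ (B ⊓ Cs B ≤ Z ∧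
    ∃ x ∈ Q, ∃ y ∈ Q, x ∈ Cs B ∧ y ∈ Cs B ∧ x ∉ B ∧ y ∉ B ∧ x * x ≠ y * y)

variable {τ Z Q}

theorem RA2.of {P : Subgroup Y} (qc : Q ≤ Cs Z) (tz : ∀ z ∈ Z, τ z = z)
    (irr : ∀ B, Z ≤ B → B ≤ Q → P ≤ Ns B → B ≤ Z ∨ Q ≤ B)
    (sqs : ∃ x ∈ Q, ∃ y ∈ Q, x ∉ Z ∧ y ∉ Z ∧ x * x ≠ y * y) : RA2 τ Z Q P := by
  refine ⟨tz, fun B h1 h2 h3 => (irr B h1 h2 h3).symm.imp_right fun h => ⟨inf_le_left.trans h, ?_⟩⟩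
  obtain ⟨x, hx, y, hy, k1, k2, k3⟩ := sqs
  exact ⟨x, hx, y, hy, fun b hb => qc hx b (h hb), fun b hb => qc hy b (h hb), fun k => k1 (h k),
    fun k => k2 (h k), k3⟩

end H78.Y3
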