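import Cfsg.Agent.H78.U5M
import Cfsg.Agent.H85.U3Syl
import Cfsg.Agent.H55.Transport

/-! The model `H78.U5.U` is a Sylow `2`-subgroup of `U₅(2)`. -/

set_option autoImplicit false

namespace H78.U5

open Cfsg Matrix E U

/-- the matrix of an element of the model -/
def toMat (s : U) : Matrix (Fin 5) (Fin 5) E :=
  !![1, s.a, s.b, s.c, s.w;
    0, 1, s.d, s.e, -(σ s.c + σ s.a * s.e + σ s.b * s.d);
    0, 0, 1, -σ s.d, σ (s.a * s.d - s.b);
    0, 0, 0, 1, -σ s.a;
    0, 0, 0, 0, 1]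

/-- the Gram matrix -/
def mJ : Matrix (Fin 5) (Fin 5) E :=
  !![0, 0, 0, 0, 1; 0, 0, 0, 1, 0; 0, 0, 1, 0, 0; 0, 1, 0, 0, 0; 1, 0, 0, 0, 0]

/-- a hyperbolic basis -/
def mB : Matrix (Fin 5) (Fin 5) E :=
  !![1, 0, 0, 0, E.w; 0, 1, 0, E.w, 0; 0, 0, 1, 0, 0; 0, 1, 0, v, 0; 1, 0, 0, 0, v]

/-- its inverse -/
def mC : Matrix (Fin 5) (Fin 5) E :=
  !![v, 0, 0, 0, E.w; 0, v, 0, E.w, 0; 0, 0, 1, 0, 0; 0, 1, 0, 1, 0; 1, 0, 0, 0, 1]

theorem mC_mB : mC * mB = 1 := by decide +kernel
theorem mB_mC : mB * mC = 1 := by decide +kernel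
theorem mB_gram : mBᵀ * mB.map σ = mJ := by decide +kernel
theorem mC_gram : mCᵀ * mJ * mC.map σ = 1 := by decide +kernel

theorem toMat_mul (s t : U) : toMat (s * t) = toMat s * toMat t := by
  change toMat (U.mul s t) = _
  ext i j
  fin_cases i <;> fin_cases j <;>
    simp [toMat, Matrix.mul_apply, Fin.sum_univ_five, mul_a, mul_b, mul_c, mul_d, mul_e, mul_w, σσ]
  all_goals first | ring1 | linear_combination (-σ s.a) * t.he

theorem toMat_gram (s : U) : (toMat s)ᵀ * mJ * (toMat s).map σ = mJ := by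
  ext i j
  fin_cases i <;> fin_cases j <;>
    simp [toMat, mJ, Matrix.mul_apply, Fin.sum_univ_five, σσ]
  all_goals first
    | ring1
    | linear_combination s.he
    | linear_combination (-s.a) * s.he
    | linear_combination (-σ s.a) * s.he
    | linear_combination s.hw + s.a * σ s.a * s.he

theorem det_toMat (s : U) : (toMat s).det = 1 := by
  rw [det_of_isUpperTriangular]
  · simp [toMat, Fin.prod_univ_five]
  · intro i j h
    fin_cases i <;> fin_cases j <;> first | rfl | exact absurd h (by decide)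

theorem herm_of_gram {M : Matrix (Fin 5) (Fin 5) E} (h : Mᵀ * M.map σ = 1) (x y : Fin 5 → E) :
    hermForm 5 E 2 (M *ᵥ x) (M *ᵥ y) = hermForm 5 E 2 x y := by
  have k : ∀ x y : Fin 5 → E, hermForm 5 E 2 x y = x ⬝ᵥ (σ ∘ y) := fun x y => by
    simp [hermForm, dotProduct, sq_eq]
  have k2 : σ ∘ (M *ᵥ y) = M.map σ *ᵥ (σ ∘ y) := funext fun i => RingHom.map_mulVec σ M y i
  rw [k, k, k2, dotProduct_mulVec, ← vecMul_transpose, vecMul_vecMul, h, vecMul_one]

/-- the embedding into `SU₅(2)` -/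
def toSU : U →* SU 5 E 2 := MonoidHom.mk' (fun s => ⟨⟨mB * toMat s * mC, by
    rw [det_mul, det_mul, det_toMat, mul_one, ← det_mul, mB_mC, det_one]⟩, herm_of_gram (by
    change (mB * toMat s * mC)ᵀ * (mB * toMat s * mC).map σ = 1
    rw [← mC_gram, ← toMat_gram s, ← mB_gram, transpose_mul, transpose_mul, Matrix.map_mul,
      Matrix.map_mul]
    simp only [Matrix.mul_assoc])⟩) fun s t => Subtype.ext (Subtype.ext (by
  change mB * toMat (s * t) * mC = mB * toMat s * mC * (mB * toMat t * mC)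
  rw [toMat_mul]
  simp only [Matrix.mul_assoc]
  rw [← Matrix.mul_assoc mC, mC_mB, Matrix.one_mul]))

theorem toSU_inj : Function.Injective toSU := fun s t h => by
  have h1 : mB * toMat s * mC = mB * toMat t * mC := congrArg (·.1.1) h
  have h2 : toMat s = toMat t := by
    have := congrArg (mC * · * mB) h1
    simpa only [Matrix.mul_assoc, mC_mB, Matrix.mul_one, ← Matrix.mul_assoc mC mB, Matrix.one_mul]
      using this
  exact U.ext (congrFun (congrFun h2 0) 1) (congrFun (congrFun h2 0) 2) (congrFun (congrFun h2 0) 3)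
    (congrFun (congrFun h2 1) 2) (congrFun (congrFun h2 1) 3) (congrFun (congrFun h2 0) 4)

theorem sylow_equiv {F : Type*} [Field F] [Fintype F] (hF : Fintype.card F = 4)
    (P : Sylow 2 (PSU 5 F 2)) : Nonempty ((P : Subgroup (PSU 5 F 2)) ≃* U) := by
  have : Fact (Nat.Prime 2) := ⟨Nat.prime_two⟩
  let e : E ≃+* F := FiniteField.ringEquivOfCardEq (E.card.trans hF.symm)
  have h1 := H59.card_PSU (q := 2) hF (n := 5) (by omega)
  rw [show H59.ordGU 2 5 = 41057280 by decide +kernel, show Nat.gcd 5 (2 + 1) = 1 by decide] at h1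
  have h2 : Subgroup.center (SU 5 F 2) = ⊥ := Subgroup.card_eq_one.1 (by
    rw [H59.card_center_SU (q := 2) hF (by omega)]; decide)
  refine H85.nonempty_equiv_sylow_of_hom ((QuotientGroup.mk' _).comp
    ((H55.suCongr e 5 2).toMonoidHom.comp toSU)) ?_ U.card (m := 13365)
    (show Nat.card (PSU 5 F 2) = _ by omega) (by decide) P
  have h3 : Function.Injective (QuotientGroup.mk' (Subgroup.center (SU 5 F 2))) := by
    rwa [← MonoidHom.ker_eq_bot_iff, QuotientGroup.ker_mk']
  exact h3.comp ((H55.suCongr e 5 2).injective.comp toSU_inj)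

end H78.U5
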