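import Cfsg.Agent.H78.U5G
import Cfsg.Agent.H78.U5P
import Cfsg.Agent.H1.LXWrap
import Cfsg.Agent.S1296

/-! Simple groups with a Sylow `2`-subgroup of type `U₅(2)` (blueprint `SYL2H.md`, part 2). -/

set_option autoImplicit false
set_option linter.unusedSectionVars false

namespace H78.U5

open Cfsg Subgroup H14 H98 H1.Gold H31.S2 H32.SH H78.Iso

universe u

variable {G : Type u} [Group G] [Finite G] {φ : U →* G} {g n : G} {s t x y : U}

namespace Md

variable (h : Md φ)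
include h

theorem ord (s2 : s * s = 1) (s1 : s ≠ 1) : orderOf (φ s) = 2 :=
  order_two (by rw [← map_mul, s2, map_one]) fun e => s1 (h.inj (by rw [e, map_one]))

theorem not_comm : ¬ IsMulCommutative G := by
  obtain ⟨x, -, y, -, e⟩ := h.xs.nonab
  exact not_comm_of_ne e

theorem conj_z [IsSimpleGroup G] (hs : Sg s) : ∃ g, g * φ ez * g⁻¹ = φ s := by
  have : Fact (Nat.Prime 2) := ⟨Nat.prime_two⟩
  by_cases h0 : s = ez
  · exact ⟨1, by simp [h0]⟩
  obtain ⟨g, h1, h2⟩ := H49.exists_conj_comm_of_simple (h.ord xs_Q.z_sq z_ne) fun e =>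
    h.not_comm ((isCyclic_of_prime_card (p := 2) e).isMulCommutative)
  obtain ⟨k, hk, h3⟩ := h.syl'.exists_cj_le (Q := zpowers (g * φ ez * g⁻¹))
    (zp_two (by rw [conj_mul, h.xs.z_sq]; simp)) (zpowers_le.2 ⟨mem_top _, mem_cen1.2 h1.eq.symm⟩)
  obtain ⟨y, hy⟩ := (h3 (conj_mem_cj (mem_zpowers _))).1
  have e : k * g * φ ez * (k * g)⁻¹ = φ y := by rw [hy]; group
  obtain ⟨a, ha⟩ := Sg_conj y (h.sg Sg_z e) fun e' => h2 (by
    rw [e'] at hy
    calc g * φ ez * g⁻¹ = k⁻¹ * (k * (g * φ ez * g⁻¹) * k⁻¹) * k := by group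
      _ = φ ez := by rw [← hy, mul_assoc, ← mem_cen1.1 hk.2, inv_mul_cancel_left])
  obtain ⟨b, hb⟩ := Sg_conj s hs h0
  refine ⟨φ b * (φ a)⁻¹ * (k * g), ?_⟩
  calc _ = φ b * (φ a)⁻¹ * (k * g * φ ez * (k * g)⁻¹) * (φ b * (φ a)⁻¹)⁻¹ := by group
    _ = φ s := by rw [e, ← ha, ← hb, ← map_conj, ← map_conj]; group

theorem con_sg [IsSimpleGroup G] (hs : Sg s) : IsPConstrained 2 (cen1 (φ s)) := by
  obtain ⟨g, e⟩ := h.conj_z hs
  exact e ▸ con_cj h.con_z g

/-- NC: the centralizers of involutions are `2`-constrained -/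
theorem con [IsSimpleGroup G] {r : G} (hr : orderOf r = 2) : IsPConstrained 2 (cen1 r) := by
  have : Fact (Nat.Prime 2) := ⟨Nat.prime_two⟩
  obtain ⟨k, -, hk⟩ := h.syl.exists_cj_le (isPGroup_zpowers_of_order hr) le_top
  obtain ⟨g, -, ⟨t, ht⟩, -, h1⟩ := exists_ext h.syl (hk (conj_mem_cj (mem_zpowers r)))
  rw [← ht, top_inf_eq] at h1
  have h2 : orderOf (φ t) = 2 := by rw [ht, H83.orderOf_conj, H83.orderOf_conj, hr]
  have t2' := H99.mul_self_of_orderOf_two h2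
  have t2 : t * t = 1 := h.inj (by rw [map_mul, t2', map_one])
  have t1 : t ≠ 1 := fun e => H99.ne_one_of_orderOf_two h2 (by rw [e, map_one])
  have key : ∀ d, Sg d → d * t = t * d → (∀ c ∈ cen1 (φ t), ∀ y, y * t = t * y →
      c * φ d * c⁻¹ = φ y → y = d ∨ y = d * t) → IsPConstrained 2 (cen1 (φ t)) :=
    fun d hd hc H => con_cen h1 ⟨⟨t, rfl⟩, mem_cen1.2 rfl⟩ t2'
      (mem_cen1.2 (by rw [← map_mul, hc, map_mul])) (by rw [← map_mul, V_sq d hd.1, map_one])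
      (fun c hc ⟨⟨y, hy⟩, hy'⟩ => by
        rw [← hy, ← map_mul]
        exact (H c hc y (h.inj (by rw [map_mul, map_mul, hy]; exact mem_cen1.1 hy')) hy.symm).imp
          (congrArg φ) (congrArg φ)) (h.con_sg hd)
  rw [show r = (g * k)⁻¹ * φ t * (g * k)⁻¹⁻¹ by rw [ht]; group]
  refine con_cj ?_ _
  by_cases hS : Sg t
  · exact h.con_sg hS
  by_cases hV : t ∈ V
  · obtain ⟨d, hd, hd', H⟩ := V_gen t hV t1 hS
    refine key d hd (V_comm d hd.1 t hV) fun c hc y _ e => H y (h.sg hd e) (h.sg (g := c) hd' ?_)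
    rw [map_mul, map_mul, ← e, ← conj_mul, mem_cen1.1 hc, mul_inv_cancel_right]
  · exact key ez Sg_z (z_comm t) fun c _ y hy e => .inl (Sg_Q y (h.sg Sg_z e)
      (cen_le_Q ((inv_mem t t2).resolve_right hV) t2 hV hy))

theorem odd_bot [IsSimpleGroup G] : oddCore (cen1 (φ ez)) = ⊥ := by
  have : Fact (Nat.Prime 2) := ⟨Nat.prime_two⟩
  have hz := h.ord xs_Q.z_sq z_ne
  have ev : Even (Nat.card G) := even_iff_two_dvd.2 (hz ▸ orderOf_dvd_natCard _)
  rcases Cfsg.Agent.S1296.result ev (fun N hN e => by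
      rcases hN.eq_bot_or_eq_top with rfl | rfl
      · rw [index_bot] at e
        exact h.not_comm ((isCyclic_of_prime_card (p := 2) e).isMulCommutative)
      · simp at e)
    ((Normal.eq_bot_or_eq_top inferInstance).resolve_right fun e => by
      have := H2.odd_card_oddCore G
      rw [e, card_top] at this
      exact Nat.not_even_iff_odd.2 this ev) with h1 | ⟨r, hr, h1⟩ | ⟨-, h1⟩
  · have := h1 (V.map φ) ⟨⟨by
      rintro ⟨_, x, hx, rfl⟩ ⟨_, y, hy, rfl⟩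
      exact Subtype.ext (show φ x * φ y = φ y * φ x by
        rw [← map_mul, ← map_mul, V_comm x hx y hy])⟩⟩ (by
      rintro _ ⟨x, hx, rfl⟩
      rw [pow_two, ← map_mul, V_sq x hx, map_one])
    rw [card_map_of_injective h.inj, card_V] at this
    omega
  · exact absurd h1 (not_hasComponent (h.con hr))
  · have h2 := h1 (zpowers (φ ez)) (zp_two h.xs.z_sq) (zpowers_ne_bot.2 h.xs.z_ne)
    have e : normalizer (zpowers (φ ez) : Set G) = cen1 (φ ez) := by
      refine le_antisymm (fun g hg => ?_) ((cen1_eq _).le.trans (centralizer_le_normalizer _))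
      rcases mem_zp h.xs.z_sq (conj_mem_of_mem_normalizer hg (mem_zpowers _)) with e | e
      · exact absurd (by simpa using e) h.xs.z_ne
      · exact mem_cen1.2 (mul_inv_eq_iff_eq_mul.1 e)
    rw [e] at h2
    exact H10.IsCharP.pPrimeCore_eq_bot h2

theorem map_restrict (A : Subgroup U) :
    (A.map (φ.codRestrict (cen1 (φ ez)) h.mem_cen)).map (cen1 (φ ez)).subtype = A.map φ := by
  rw [Subgroup.map_map]; rfl

theorem le_norQ [IsSimpleGroup G] : cen1 (φ ez) ≤ nor (Q.map φ) := by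
  have := h.restrict.normal h.odd_bot h.restrict_center
  rw [← h.map_restrict]
  exact le_normalizer_map_subtype _

theorem cenQ_le [IsSimpleGroup G] : cen (Q.map φ) ≤ Q.map φ := fun x hx => by
  have h1 : x ∈ cen1 (φ ez) := cen_le_cen1 h.xs.z_mem hx
  rw [← h.map_restrict]
  refine ⟨⟨x, h1⟩, h.restrict.cenQ h.odd_bot h.restrict_center ?_, rfl⟩
  rintro _ ⟨y, hy, rfl⟩
  exact Subtype.ext (hx _ (mem_map_of_mem φ hy))

theorem not_le_norV [IsSimpleGroup G] : ¬ cen1 (φ ez) ≤ nor (V.map φ) := fun hn => by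
  have hsc : IsStronglyClosed (V.map φ) φ.range := by
    refine ⟨map_le_range _ _, ?_⟩
    rintro _ ⟨v, hv, rfl⟩ g ⟨u, e⟩
    obtain ⟨a, ha, y, -, e1, hy⟩ := h.extW (V_le_W hv)
    have hyV := h.mem_of_nor ha hv e1
    obtain ⟨k, α, e2, hα, -⟩ := h.pull (g := a * g⁻¹) (s := u) hy (by rw [e, ← e1]; group)
    have e3 := hα.eq ez (mem_cen1.2 (z_comm u))
    obtain ⟨m, hm, e4⟩ := h.fusV (g := k⁻¹) (V_le_W (h.sg Sg_z e3).1) (V_le_W Sg_z.1)
      (by rw [← e3]; group)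
    rw [← e3] at e4
    have h1 : m * k ∈ cen1 (φ ez) := mem_cen1.2 (mul_inv_eq_iff_eq_mul.1 (by
      simpa only [mul_inv_rev, mul_assoc] using e4))
    have h2 := conj_mem_of_mem_normalizer (mul_mem (Subgroup.inv_mem _ (hn h1)) hm) (mem_map_of_mem φ hyV)
    rw [← e2, e] at h2
    simpa [mul_assoc] using h2
  obtain ⟨m, -, e⟩ := one_class (x := φ ez) (y := φ ec) h.not_comm h.syl hsc (by
      rintro _ ⟨x, hx, rfl⟩ _ ⟨y, hy, rfl⟩
      rw [← map_mul, ← map_mul, V_comm x hx y hy])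
    (fun e => h.xs.z_ne (mem_bot.1 (e ▸ mem_map_of_mem φ Sg_z.1))) ⟨_, rfl⟩ ⟨_, rfl⟩ h.xs.z_sq
    (by rw [← map_mul, V_sq _ c_mem.1, map_one]) h.xs.z_ne
    (fun e => c_mem.2 (h.inj (by rw [e, map_one])))
  exact not_Sg_c (h.sg Sg_z e)

theorem O2C_eq [IsSimpleGroup G] : O2C (φ ez) = Q.map φ := by
  have : Fact (Nat.Prime 2) := ⟨Nat.prime_two⟩
  have hH : φ.range ≤ cen1 (φ ez) := by rintro _ ⟨s, rfl⟩; exact h.mem_cen s
  have h1 : Q.map φ ≤ pCoreOf 2 (cen1 (φ ez)) := le_pCoreOf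
    (h.syl.isPGroup.to_le (map_le_range _ _)) ((map_le_range _ _).trans hH) h.le_norQ
  have h2 : pCoreOf 2 (cen1 (φ ez)) ≤ φ.range := h.syl.le_of_le_normalizer (isPGroup_pCoreOf _)
    le_top (le_normalizer_pCoreOf_of_le hH)
  refine le_antisymm (fun x hx => by_contra fun hQ => h.not_le_norV ?_) h1
  obtain ⟨x, rfl⟩ := h2 hx
  change φ x ∈ pCoreOf 2 (cen1 (φ ez)) at hx
  have hn := self_le_normalizer_pCoreOf (p := 2) (cen1 (φ ez))
  generalize pCoreOf 2 (cen1 (φ ez)) = O at *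
  have h3 : φ es ∈ O := by
    rcases mem_Qs x fun e => hQ (mem_map_of_mem φ e) with e | e
    · have := h1 (mem_map_of_mem φ e)
      rwa [map_mul, O.mul_mem_cancel_left hx] at this
    · have := h1 (mem_map_of_mem φ e)
      rwa [map_mul, map_mul, O.mul_mem_cancel_left (mul_mem hx hx)] at this
  have h4 : ∀ c ∈ cen1 (φ ez), ∀ s, Sg s → c * φ s * c⁻¹ ∈ V.map φ := fun c hc s hs => by
    have h5 : φ s ∈ O := by
      by_cases e : s = ez
      · exact e ▸ h1 h.xs.z_mem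
      · obtain ⟨a, rfl⟩ := Sg_conj s hs e
        rw [← map_conj]
        exact conj_mem_of_mem_normalizer (hn (h.mem_cen a)) h3
    obtain ⟨y, hy⟩ := h2 (conj_mem_of_mem_normalizer (hn hc) h5)
    exact hy ▸ mem_map_of_mem φ (h.sg hs hy.symm).1
  refine fun c hc => mem_normalizer_of_cj_le ?_
  rintro _ ⟨_, ⟨v, hv, rfl⟩, rfl⟩
  show c * φ v * c⁻¹ ∈ _
  by_cases v1 : v = 1
  · simp [v1]
  by_cases hS : Sg v
  · exact h4 c hc v hS
  obtain ⟨d, hd, hd', -⟩ := V_gen v hv v1 hS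
  have h6 := h4 c hc _ hd'
  rwa [map_mul, ← conj_mul, (V.map φ).mul_mem_cancel_left (h4 c hc d hd)] at h6

theorem main [IsSimpleGroup G] : Nonempty (G ≃* PSU 5 H75.F4 2) := by
  have hb : H1.LX.Big (φ ez) 3 := by
    refine ⟨?_, ?_⟩ <;> rw [h.O2C_eq]
    · exact ⟨h.xs, fun x hx => h.cenQ_le fun y hy => (hx y hy).symm,
        fun c hc x hx => conj_mem_of_mem_normalizer (h.le_norQ (mem_cen1.2 hc)) hx⟩
    · rw [card_map_of_injective h.inj, card_Q]; rfl
  have hw : H1.LX.WC (φ ez) := by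
    rintro _ ⟨g, rfl⟩ hd
    rw [h.O2C_eq] at hd
    obtain ⟨y, hy, e⟩ := hd
    rw [← e, Sg_Q y (h.sg Sg_z e.symm) hy]
  obtain ⟨-, ⟨e⟩⟩ := H1.LX.wc_unitary le_rfl hb hw (H1.LX.noC_of_ne le_rfl (by decide) hb hw) hb.nb
  have ht := (normalClosure_normal (s := ({φ ez} : Set G))).eq_bot_or_eq_top.resolve_left
    fun e => h.xs.z_ne (mem_bot.1 (e ▸ subset_normalClosure rfl))
  exact ⟨topEquiv.symm.trans ((MulEquiv.subgroupCongr ht.symm).trans e)⟩

end Md

theorem s0513 [IsSimpleGroup G] {F : Type*} [Field F] [Fintype F] (hF : Fintype.card F = 4)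
    (S : Sylow 2 G) (P : Sylow 2 (PSU 5 F 2))
    (hS : Nonempty ((S : Subgroup G) ≃* (P : Subgroup (PSU 5 F 2)))) :
    Nonempty (G ≃* PSU 5 F 2) := by
  obtain ⟨e⟩ := hS
  obtain ⟨f⟩ := sylow_equiv hF P
  let φ : U →* G := (S : Subgroup G).subtype.comp (e.trans f).symm.toMonoidHom
  have h : Md φ := ⟨(subtype_injective _).comp (e.trans f).symm.injective, by
    have : φ.range = S := by
      rw [MonoidHom.range_comp, MonoidHom.range_eq_top.2 (e.trans f).symm.surjective,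
        ← MonoidHom.range_eq_map, range_subtype]
    rw [this]; exact isSyl_sylow S⟩
  obtain ⟨k⟩ := h.main
  exact ⟨k.trans (H55.psuCongr (FiniteField.ringEquivOfCardEq (H55.card_F4.trans hF.symm)) 5 2)⟩

end H78.U5
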