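import Cfsg.Agent.H78.S2Def

/-! STD-SP chapter II, slot LV: the Levi data of `XU n K`. -/

set_option autoImplicit false
set_option linter.unusedSectionVars false

namespace H78.S2

open H67.UA hiding Par
open H67.SP H54 H57 Matrix
open scoped MatrixGroups

section

variable {n m : ℕ} (hm : n + 1 = 2 * (m + 2))

theorem up_inj {i j : Fin (m + 2)} : up hm i = up hm j ↔ i = j := by simp [up, Fin.ext_iff]

theorem up_ne_rev (i j : Fin (m + 2)) : up hm i ≠ (up hm j).rev := fun h => by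
  have := congrArg Fin.val h
  have := i.2
  have := j.2
  simp only [up, Fin.val_rev] at *
  omega

/-- the hyperbolic numbering -/
noncomputable def eI : (Fin (m + 2) ⊕ Fin (m + 2)) ⊕ Empty ≃ Fin (n + 1) :=
  Equiv.ofBijective (Sum.elim (Sum.elim (up hm) fun k => (up hm k).rev) Empty.elim)
    ((Fintype.bijective_iff_injective_and_card _).2 ⟨by
      rintro ((a | a) | ⟨⟨⟩⟩) ((b | b) | ⟨⟨⟩⟩) h
      · rw [(up_inj hm).1 h]
      · exact (up_ne_rev hm _ _ h).elim
      · exact (up_ne_rev hm _ _ h.symm).elim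
      · rw [(up_inj hm).1 (Fin.rev_injective h)], by simp; omega⟩)

theorem eI_l (k : Fin (m + 2)) : eI hm (.inl (.inl k)) = up hm k := rfl
theorem eI_r (k : Fin (m + 2)) : eI hm (.inl (.inr k)) = (up hm k).rev := rfl

variable (K : Type) [Field K] [StarRing K] [CharP K 2] [Finite K]

/-- the form -/
noncomputable def fdX : FD K (Fin (n + 1)) (m + 2) :=
  FD.ofBlocks (starRingEnd K) 1 (AddMonoidHom.id K + (starRingEnd K).toAddMonoidHom).ker
    (fun a => star_star a) (by simp)
    (fun a => by simp [AddMonoidHom.mem_ker]) (fun a h => by simpa [AddMonoidHom.mem_ker] using h)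
    (fun c a h => by
      have h' : a + star a = 0 := h
      change star c * a * c + star (star c * a * c) = 0
      rw [star_mul', star_mul', star_star]
      linear_combination (c * star c) * h')
    (eI hm).symm 0 fun v _ => funext fun j => j.elim

theorem sq_fdX (u v : Vn n K) : (fdX hm K).sq (fdX hm K).hM u v = hf v u := by
  have h : ∀ u v : Vn n K, (fdX hm K).sq (fdX hm K).M u v =
      ∑ k, star (u (up hm k)) * v (up hm k).rev := fun u v => by
    change (_ ∘ u) ⬝ᵥ ((hypM K _ _).submatrix _ _ *ᵥ v) = _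
    rw [hyp_sum]
    simp [dotProduct, eI_l, eI_r]
    rfl
  rw [FD.sq_hM, h, h, hf, ← (eI hm).sum_comp]
  change _ + 1 * star _ = _
  simp [Fintype.sum_sum_type, eI_l, eI_r, mul_comm, add_comm]

theorem isom_fdX {A : Matrix (Fin (n + 1)) (Fin (n + 1)) K} :
    (fdX hm K).Isom A ↔ ∀ u v, hf (A *ᵥ u) (A *ᵥ v) = hf u v := by
  refine ⟨fun h u v => by rw [← sq_fdX hm, h.1, sq_fdX], fun h => ⟨fun u v => by
    rw [sq_fdX, sq_fdX, h], fun v => ?_⟩⟩
  have := h v v
  rw [← sq_fdX hm, ← sq_fdX hm, FD.sq_hM, FD.sq_hM] at this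
  change (_ - _) + star (_ - _) = (0 : K)
  change _ + 1 * star _ = _ + 1 * star _ at this
  rw [star_sub]
  linear_combination this

variable (n) in
/-- the full isometry group -/
def GX : Subgroup (GL (Fin (n + 1)) K) where
  carrier := {g | ∀ u v, hf (g.1 *ᵥ u) (g.1 *ᵥ v) = hf u v}
  one_mem' := by simp
  mul_mem' := fun {a b} ha hb u v => by
    rw [Units.val_mul, ← mulVec_mulVec, ← mulVec_mulVec, ha, hb]
  inv_mem' := fun {a} ha u v => by
    rw [← ha, mulVec_mulVec, mulVec_mulVec, a.mul_inv, one_mulVec, one_mulVec]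

variable (n) in
/-- its matrices -/
def rhoX : GX n K →* Matrix (Fin (n + 1)) (Fin (n + 1)) K := (Units.coeHom _).comp (GX n K).subtype

theorem rhoX_inj : Function.Injective (rhoX n K) := fun _ _ h => Subtype.ext (Units.ext h)

theorem rhoX_isom (g : GX n K) : (fdX hm K).Isom (rhoX n K g) := (isom_fdX hm K).2 g.2

theorem exists_rhoX (A : Matrix (Fin (n + 1)) (Fin (n + 1)) K) (hA : IsUnit A)
    (h : (fdX hm K).Isom A) : ∃ g, rhoX n K g = A := ⟨⟨hA.unit, (isom_fdX hm K).1 h⟩, rfl⟩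

variable (n) in
/-- `X ≤ GX` -/
def inX : XU n K →* GX n K :=
  (SpecialLinearGroup.toGL.comp (io n K)).codRestrict _ fun g u v => hf_ac g u v

theorem inX_inj : Function.Injective (inX n K) := fun _ _ h =>
  Subtype.ext (SpecialLinearGroup.toGL_injective (congrArg Subtype.val h))

/-- the datum of `GX` -/
noncomputable def cdG : CD K (Fin (n + 1)) (Fin (m + 2)) (GX n K) :=
  (fdX hm K).cd (rhoX n K) (rhoX_inj K) (rhoX_isom hm K) (exists_rhoX hm K)

theorem US_le (l : (Fin (m + 2) → ℤ) →+ ℤ) : (cdG hm K).US (posS l) ≤ (inX n K).range :=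
  fun g hg => by
    obtain ⟨x, hx⟩ := exists_X g.1.1 (CD.det_eq_one hg) g.2
    exact ⟨x, Subtype.ext (Units.ext hx)⟩

/-- the datum of `X` -/
noncomputable def cdX : CD K (Fin (n + 1)) (Fin (m + 2)) (XU n K) :=
  (cdG hm K).comap (inX n K) (inX_inj K) (US_le hm K)

/-- the Levi datum -/
noncomputable def lvX : LV (cdX hm K) :=
  (lvFD (eI hm).symm (fdX hm K) rfl (fun _ => rfl) _ _ _ _).comap _ (inX_inj K) (US_le hm K)

theorem rho_cdX (g : XU n K) : (cdX hm K).ρ g = mt g := rfl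
theorem lvX_up (k : Fin (m + 2)) : (lvX hm K).up k = up hm k := rfl
theorem lvX_dn (k : Fin (m + 2)) : (lvX hm K).dn k = (up hm k).rev := rfl
theorem lvX_θ (a : K) : (lvX hm K).θ a = star a := rfl

theorem lev_tvn {i j : Fin (m + 2)} (h : i ≠ j) (a : K) :
    (lvX hm K).lev (SpecialLinearGroup.transvection h a) = ss (up hm i) (up hm j) a := by
  have r : ∀ k : Fin (m + 2), (up hm k).rev ≠ (up hm k).rev.rev := fun k e =>
    up_ne_rev hm k k (Fin.rev_injective e)
  have p : Pp (ev (up hm j).rev : Vn n K) (a • ev (up hm i)) := by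
    simpa using (pp_ev (K := K) (r j) (up_ne_rev hm i i)
      (by rw [Fin.rev_rev, Ne, up_inj]; exact h)).smul 1 a
  refine X_ext (Matrix.ext fun s t => ?_)
  rw [mt_EE p.ok, mE, zero_smul, add_zero, op_smul_left, op_smul_right, op_ev,
    show ev (up hm i) = (ev (up hm i).rev.rev : Vn n K) by rw [Fin.rev_rev], op_ev, ← rho_cdX hm]
  obtain ⟨k, rfl | rfl⟩ := (lvX hm K).all s <;> obtain ⟨l, rfl | rfl⟩ := (lvX hm K).all t
  · rw [LV.uu, SpecialLinearGroup.transvection_coe]
    simp [lvX_up, one_apply, single_apply, up_inj, (up_ne_rev hm _ _).symm]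
  · rw [LV.ud]
    simp [lvX_up, lvX_dn, one_apply, up_ne_rev hm, (up_ne_rev hm _ _).symm]
  · rw [LV.du]
    simp [lvX_up, lvX_dn, one_apply, up_ne_rev hm, (up_ne_rev hm _ _).symm]
  · rw [LV.dd, SpecialLinearGroup.transvection_inv, SpecialLinearGroup.transvection_coe, lvX_θ]
    simp [lvX_dn, one_apply, single_apply, up_inj, up_ne_rev hm, apply_ite (star : K → K),
      CharTwo.neg_eq, eq_comm, and_comm]

theorem Tc_ev {i : Fin (n + 1)} (hi : i ≠ i.rev) {c : K} (hc : star c = c) :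
    mt (Tc c (ev i)) = 1 + single i i.rev c := by
  rw [mt_EE (ok_zero (ev_iso hi) hc), mE, op_zero_left, op_zero_right, add_zero, add_zero]
  conv_lhs => rw [show op (ev i) (ev i) = op (ev i : Vn n K) (ev i.rev.rev) by rw [Fin.rev_rev], op_ev]
  simp

end

theorem jobLV : JobLV := by
  intro n F _ _ _ _ _ _ K _ _ _ _ x h m hm
  have hφ : ∀ u, star (x.φ u) = x.φ u := fun u => (h _).trans ((x.fix _).2 ⟨u, rfl⟩)
  have key : ∀ c : K, c + star c = 0 ↔ ∃ u, c = x.φ u := fun c => by
    rw [show c + star c = tr c from rfl, tr_eq_zero, h, x.fix]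
    exact ⟨fun ⟨u, e⟩ => ⟨u, e.symm⟩, fun ⟨u, e⟩ => ⟨u, e.symm⟩⟩
  let L : LG (lvX hm K) F := ⟨x.φ, 1, one_ne_zero, hφ,
    Or.inl (AddSubgroup.ne_bot_iff_exists_ne_zero.2 ⟨⟨1, (key 1).2 ⟨1, (map_one _).symm⟩⟩,
      fun e => one_ne_zero (congrArg Subtype.val e)⟩), fun k c => by
      rw [add_comm (Pi.single _ _), ← Pi.single_smul, smul_eq_mul, mul_one]
      refine (iso_fd (eI hm).symm (fdX hm K) rfl _ (rhoX_inj K) (rhoX_isom hm K)
        (exists_rhoX hm K) k c 1).trans ?_
      change star c * 1 + star (star c * 1) = 0 ↔ _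
      simp only [mul_one, one_mul, star_star, add_comm (star c), key], fun k c => by
      rw [← Pi.single_smul, smul_eq_mul, mul_one]
      refine (iso_fd (eI hm).symm (fdX hm K) rfl _ (rhoX_inj K) (rhoX_isom hm K)
        (exists_rhoX hm K) k 1 c).trans ?_
      change star 1 * c + star (star 1 * c) = 0 ↔ _
      simp only [star_one, one_mul, inv_one, key]⟩
  obtain ⟨μ, hμ⟩ := L.exists_mu (Fin.last (m + 1))
  refine ⟨cdX hm K, lvX hm K, L, μ, hμ, gen_top hμ fun g hg => ?_, fun i j hij a => lev_tvn hm K hij a,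
    fun c => X_ext ?_, fun c => X_ext ?_⟩
  · have d : ((cdX hm K).ρ g).det = 1 := mt_det g
    rw [CD.eq_diagonal (fun i _ h => absurd h ((lvX hm K).nz i)) hg, det_diagonal,
      ← (eI hm).prod_comp, Fintype.prod_sum_type, Fintype.prod_sum_type, Fintype.prod_empty (ι := Empty),
      mul_one] at d
    erw [Finset.prod_congr rfl fun k _ => (lvX hm K).dn_eq hg k, Finset.prod_inv_distrib,
      ← map_prod] at d
    have d' := (mul_inv_eq_one₀ (mt inv_eq_zero.2 (right_ne_zero_of_mul_eq_one d))).1 d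
    exact (key _).1 (tr_eq_zero.2 d'.symm)
  · rw [Tc_ev K (up_ne_rev hm _ _) (hφ c), ← rho_cdX hm, LV.eq_long hμ.at_.key ((lvX hm K).wt_up _)
      ((lvX hm K).wt_dn _) (hμ.at_.U_mem c), hμ.at_.e01]
    simp [L, lvX_up, lvX_dn]
  · rw [Tc_ev K (fun e => up_ne_rev hm _ _ (Fin.rev_injective e)) (hφ c), ← rho_cdX hm,
      LV.eq_long hμ.at_.key.symm ((lvX hm K).wt_dn _) (by rw [neg_neg]; exact (lvX hm K).wt_up _)
      (hμ.at_.L_mem c), hμ.at_.e10]
    simp [L, lvX_up, lvX_dn]

end H78.S2
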