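import Cfsg.Agent.H78.S2Kit
import Cfsg.Agent.H78.S2LV

/-! STD-SP chapter II, slot CT: the relations `UF` define the unitary group. -/

set_option autoImplicit false
set_option linter.unusedSectionVars false

namespace H78.S2

open H67.UA hiding Par
open H67.SP H57 H65 Matrix
open H86.SPI (ok pp hf_self hf_comm hf_smul_right')
open scoped MatrixGroups commutatorElement

universe u

local notation "tvn" => Matrix.SpecialLinearGroup.transvection

section SL2

variable {L : Type} [Field L] [CharP L 2]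

theorem W_eq : (sl2W : SL(2, L)) = sl2U 1 * sl2L 1 * sl2U 1 := by
  ext i j; fin_cases i <;> fin_cases j <;> simp [mul_apply, CharTwo.neg_eq, CharTwo.add_self_eq_zero]

theorem T_eq (c : Lˣ) : sl2T c = sl2U (c : L) * sl2L (c : L)⁻¹ * sl2U (c : L) * sl2W := by
  ext i j; fin_cases i <;> fin_cases j <;>
    simp [sl2T, mul_apply, CharTwo.neg_eq, CharTwo.add_self_eq_zero]

theorem T_eq' (c : Lˣ) : sl2T c = sl2L (c : L)⁻¹ * sl2U (c : L) * sl2L (c : L)⁻¹ * sl2W := by
  ext i j; fin_cases i <;> fin_cases j <;>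
    simp [sl2T, mul_apply, CharTwo.neg_eq, CharTwo.add_self_eq_zero]

end SL2

variable {n : ℕ} {F : Type} [Field F] [StarRing F] [TrivialStar F] [CharP F 2] [Finite F] [Par n F]
  {K : Type} [Field K] [StarRing K] [CharP K 2] [Finite K]

theorem ph_ev (φ : F →+* K) (i : Fin (n + 1)) : (fun j => φ ((ev i : Vn n F) j)) = ev i := by
  funext j; simp [ev_apply, apply_ite φ]

theorem bc_Tc (φ : F →+* K) (h : ∀ a, star (φ a) = φ (star a)) {i : Fin (n + 1)} (hi : i ≠ i.rev)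
    (c : F) : bc φ h (Tc c (ev i : Vn n F)) = Tc (φ c) (ev i) := X_ext (by
  rw [mt_bc, Tc_ev F hi (star_trivial c), Tc_ev K hi (by rw [h, star_trivial])]
  ext a b
  simp [one_apply, single_apply, apply_ite φ])

theorem bc_inj (φ : F →+* K) (h : ∀ a, star (φ a) = φ (star a)) :
    Function.Injective (bc (m := n) φ h) := fun a b e => X_ext (Matrix.ext fun i j => by
  have := congrArg (fun g => mt g i j) e
  exact φ.injective this)

section UF

variable {J : Type u} [Group J] {e : XU n F →* J} {φ : F →+* K} {Z : Vn n F → Vn n F → K → J}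
  (U : UF e φ Z) {u x s : Vn n F}
include U

theorem UF.z0 (h : hf x u = 0) : Z u x 0 = 1 := by simpa using U.rat u x 0 h

theorem UF.sq (h : hf x u = 0) (α : K) : Z u x α * Z u x α = 1 := by
  rw [U.add _ _ _ _ h, CharTwo.add_self_eq_zero, U.z0 h]

theorem UF.inv (h : hf x u = 0) (α : K) : (Z u x α)⁻¹ = Z u x α :=
  inv_eq_of_mul_eq_one_right (U.sq h α)

theorem UF.fix (h : hf x u = 0) (α : K) {g : XU n F} (h1 : ac g u = u) (h2 : ac g x = x) :
    e g * Z u x α = Z u x α * e g := by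
  rw [← mul_inv_eq_iff_eq_mul, U.eqv _ u x α h, h1, h2]

theorem UF.tc (h : hf x u = 0) (hs : hf s u = 0) (h1 : hf x s = 1) {θ : K} {N : F}
    (hN : φ N = nm θ) (c : F) : Z u x θ * e (Tc c s) * Z u x θ =
      Z u s (φ c * θ) * e (Tc (N * c) u) * e (Tc c s) := by
  have k : hf (c • s) u = 0 := by rw [hf_smul_left, hs, mul_zero]
  have h2 := U.ad2 u x (c • s) θ N h k hN
  have h3 := mul_inv_eq_iff_eq_mul.1 (U.eqv (Tc c s) u x θ h)
  rw [ac_Tc_fix c (hf_symm hs), ac_Tc', h1, mul_one] at h3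
  rw [hf_smul_left, hf_comm s, h1, mul_one, U.sm _ _ _ _ hs] at h2
  rw [mul_assoc, h3, ← mul_assoc, mul_left_inj, ← mul_left_inj (e (Tc (N * c) u)), mul_assoc,
    ← h2, ← mul_assoc, U.sq h, one_mul, mul_assoc, ← map_mul, Tc_sq, map_one, mul_one]

/-- The Weyl element moves the long root subgroups. -/
theorem UF.weyl {p p' r r' : Vn n F} (h0 : hf p r = 0) (h1 : hf p' p = 1) (h2 : hf r' r = 1)
    (h3 : hf p' r = 0) (h4 : hf r' p = 0) {α β : K} (h : α * β = 1) {M N : F} (hM : φ M = nm α)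
    (hN : φ N = nm β) (hφ : ∀ a, star (φ a) = φ a) (c : F) :
    Z p r' α * Z r p' β * Z p r' α * e (Tc c p) * (Z p r' α * Z r p' β * Z p r' α)⁻¹ =
      e (Tc (N * c) r) := by
  have h5 := hf_symm h0
  have e1 : Z p r' α * e (Tc c p) = e (Tc c p) * Z p r' α :=
    (U.fix h4 α (ac_Tc_fix c (hf_self p)) (ac_Tc_fix c h4)).symm
  have e2 := U.tc h3 h0 h1 hN c
  have e3 := U.tc h4 h5 h2 hM (N * c)
  have e4 := U.cm p r' r α (star (φ c * β)) 0 h4 h5 (by
    rw [map_zero, star_star, mul_left_comm, h, mul_one, tr_eq_zero.2 (hφ c)])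
  have e5 : M * (N * c) = c := φ.injective (by
    rw [map_mul, map_mul, hM, hN, ← mul_assoc, show nm α * nm β = α * β * star (α * β) by
      rw [star_mul']; ring, h]; simp)
  have e6 : φ (N * c) * α = star (φ c * β) := by
    rw [map_mul, hN, star_mul', hφ]; linear_combination (φ c * star β) * h
  rw [e5, e6] at e3
  rw [U.sw p r _ h5] at e2
  rw [zero_mul, Tc, EE_zero, map_one, mul_one] at e4
  have e7 : Tc c p * Tc (N * c) r * Tc c p = Tc (N * c) r := by
    rw [EE_fix (hf_zero_left r) _ (ac_Tc_fix c h5) (ac_zero _), mul_assoc, Tc_sq, mul_one]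
  calc _ = Z p r' α * (Z r p' β * e (Tc c p) * Z r p' β) * Z p r' α := by
        rw [_root_.mul_inv_rev, _root_.mul_inv_rev, U.inv h4, U.inv h3, mul_assoc _ (Z p r' α), e1]
        simp only [mul_assoc]
        rw [← mul_assoc (Z p r' α) (Z p r' α), U.sq h4, one_mul]
    _ = Z p r (star (φ c * β)) * (Z p r' α * e (Tc (N * c) r) * Z p r' α) * e (Tc c p) := by
        rw [e2, ← mul_assoc, ← mul_assoc, e4]
        simp only [mul_assoc, e1]
    _ = _ := by
        rw [e3, ← mul_assoc, ← mul_assoc, U.sq h5, one_mul, ← map_mul, ← map_mul, e7]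

end UF

section Idx

variable {m : ℕ} (hm : n + 1 = 2 * (m + 2))

/-- the upper basis vectors -/
abbrev uV (i : Fin (m + 2)) : Vn n F := ev (up hm i)
/-- the lower basis vectors -/
abbrev dV (i : Fin (m + 2)) : Vn n F := ev (up hm i).rev

theorem hUU (i j : Fin (m + 2)) : hf (uV (F := F) hm i) (uV hm j) = 0 := by
  rw [hf_ev, if_neg (up_ne_rev hm j i)]
theorem hDD (i j : Fin (m + 2)) : hf (dV (F := F) hm i) (dV hm j) = 0 := by
  rw [hf_ev, Fin.rev_rev, if_neg (up_ne_rev hm i j).symm]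
theorem hUD (i j : Fin (m + 2)) : hf (uV (F := F) hm i) (dV hm j) = if i = j then 1 else 0 := by
  simp [hf_ev, up_inj, eq_comm]
theorem hDU (i j : Fin (m + 2)) : hf (dV (F := F) hm i) (uV hm j) = if i = j then 1 else 0 := by
  simp [hf_ev, up_inj, eq_comm]

variable {J : Type u} [Group J] {e : XU n F →* J} {φ : F →+* K} {Z : Vn n F → Vn n F → K → J}

theorem UF.stA (U : UF e φ Z) : StA fun i j α => Z (dV hm j) (uV hm i) α where
  add i j h s t := U.add _ _ _ _ (by simp [hUD, h])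
  comm i j k l h1 h2 h3 h4 s t := U.com _ _ _ _ _ _ (by simp [hUD, h1]) (by simp [hUD, h2])
    (hDD hm _ _) (by simp [hDU, h3.symm]) (by simp [hUD, h4.symm]) (hUU hm _ _)
  tri i j k h1 h2 h3 s t := by
    have := U.tri (dV hm j) (uV hm i) (dV hm k) (uV hm j) s t ⟨by simp [hUD, h1], hDD hm _ _,
      by simp [hDU, h3.symm], fun a b c h => ⟨by
        simpa [hf_add_left, hf_smul_left, hUU, hDU, h2.symm] using congrArg (hf · (uV hm j)) h, by
        simpa [hf_add_left, hf_smul_left, hDD, hUD] using congrArg (hf · (dV hm i)) h, by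
        simpa [hf_add_left, hf_smul_left, hUU, hDU, h2] using congrArg (hf · (uV hm k)) h⟩,
      by simp [hUD, h2], hUU hm _ _, by simp [hUD]⟩
    rw [U.inv (by simp [hUD, h1]), this, mul_inv_eq_iff_eq_mul]
    exact U.com _ _ _ _ _ _ (by simp [hUD, h2]) (by simp [hUD, h3]) (hDD hm _ _)
      (by simp [hDU, h2.symm]) (by simp [hUD, h3]) (hUU hm _ _)

/-- the transposition -/
noncomputable def nS (i j : Fin (m + 2)) : XU n F :=
  qq (uV hm i) (dV hm j) * qq (uV hm j) (dV hm i) * qq (uV hm i) (dV hm j)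

/-- the long reflection -/
noncomputable def nL (i : Fin (m + 2)) (c : F) : XU n F :=
  Tc c (uV hm i) * Tc c⁻¹ (dV hm i) * Tc c (uV hm i)

theorem nS_ac {i j : Fin (m + 2)} (h : i ≠ j) : ac (nS hm i j) (uV hm i) = (uV hm j : Vn n F) ∧
    ac (nS hm i j) (uV hm j) = (uV hm i : Vn n F) ∧ ac (nS hm i j) (dV hm j) = (dV hm i : Vn n F) := by
  have h1 : hf (uV (F := F) hm i) (dV hm j) = 0 := by simp [hUD, h]
  have h2 : hf (uV (F := F) hm j) (dV hm i) = 0 := by simp [hUD, h.symm]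
  simp only [nS, ac_mul, ac_qq' h1, ac_qq' h2, hf_add_left, hUU, hDD, hUD, hDU, h,
    h.symm, if_true, if_false, zero_smul, one_smul, add_zero, zero_add]
  refine ⟨?_, ?_, ?_⟩ <;> ext k <;> simp only [Pi.add_apply] <;> simp [CharTwo.add_self_eq_zero,
    add_comm, add_left_comm, CharTwo.add_cancel_left]

theorem nL_ac (i : Fin (m + 2)) {c : F} (hc : c ≠ 0) :
    ac (nL hm i c) (uV hm i) = c⁻¹ • (dV hm i : Vn n F) ∧
      ac (nL hm i c) (dV hm i) = c • (uV hm i : Vn n F) := by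
  simp only [nL, ac_mul, ac_Tc', hf_add_left, hf_smul_left, hUU, hDD, hUD, hDU, if_true, zero_smul,
    add_zero, mul_zero, zero_add, mul_one, mul_inv_cancel₀ hc, inv_mul_cancel₀ hc, one_smul]
  refine ⟨?_, ?_⟩ <;> ext k <;> simp only [Pi.add_apply] <;> simp [CharTwo.add_self_eq_zero,
    add_comm, add_left_comm, CharTwo.add_cancel_left]

end Idx

theorem jobCT : JobCT.{u} := by
  intro n F _ _ _ _ _ P _ _ _ fy K _ _ _ _ x h lv
  obtain ⟨m, hm, m1⟩ : ∃ m, n + 1 = 2 * (m + 2) ∧ 1 ≤ m := by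
    obtain ⟨k, hk⟩ := P.odd
    have := P.five
    exact ⟨k - 1, by omega, by omega⟩
  obtain ⟨D, V, L, μ, hμ, top, hl, hU, hL⟩ := lv m hm
  have hφ : ∀ u, star (x.φ u) = x.φ u := fun u => (h _).trans ((x.fix _).2 ⟨u, rfl⟩)
  have fx : ∀ a : K, star a = a → ∃ c, x.φ c = a := fun a ha => (x.fix a).1 ((h a).symm.trans ha)
  have zm : ∀ i j α, zM x.φ (dV hm j) (uV hm i) α = ss (up hm i) (up hm j) α := fun i j α => by
    rw [zM, ph_ev, ph_ev]
  have r1 : ∀ k, up hm k ≠ (up hm k).rev := fun k => up_ne_rev hm k k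
  have r2 : ∀ k, (up hm k).rev ≠ (up hm k).rev.rev := fun k e => r1 k (Fin.rev_injective e)
  set B := bc (m := n) x.φ (x.st (Or.inr h))
  have mr : ∀ g, μ g ∈ B.range := fun g => (sl2_closure' (K := B.range.comap μ)
    (fun c => ⟨_, (bc_Tc _ _ (r1 _) c).trans (hU c).symm⟩)
    fun c => ⟨_, (bc_Tc _ _ (r2 _) c).trans (hL c).symm⟩).ge (Subgroup.mem_top g)
  refine ⟨eq_top_iff.2 (top.ge.trans (sup_le ?_ ?_)), fun J _ f e Z U he hz g hg => ?_⟩
  · rintro _ ⟨g, rfl⟩
    exact (sl_eq_top_of_adj (H := (Gn B (zM x.φ)).comap V.lev) fun k l hkl _ c =>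
      ⟨Subgroup.mem_sup_right (Subgroup.subset_closure ⟨_, _, c, by simp [hUD, hkl],
        (hl _ _ _ _).trans (zm _ _ _).symm⟩), Subgroup.mem_sup_right (Subgroup.subset_closure
        ⟨_, _, c, by simp [hUD, hkl.symm], (hl _ _ _ _).trans (zm _ _ _).symm⟩)⟩).ge
      (Subgroup.mem_top g)
  · rintro _ ⟨g, rfl⟩
    exact Subgroup.mem_sup_left (mr g)
  obtain ⟨Λ, hΛ⟩ := (U.stA hm).exists_hom (by omega)
  have Λt : ∀ {i j} (hij : i ≠ j) α, Λ (tvn hij α) = Z (dV hm j) (uV hm i) α := fun hij α => by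
    rw [← xA_eq, hΛ _ _ hij]
  have fΛ : ∀ g, f (Λ g) = V.lev g := fun g =>
    (sl_eq_top_of_adj (H := (f.comp Λ).eqLocus V.lev) fun k l hkl _ c =>
      ⟨(congrArg f (Λt _ _)).trans ((hz _ _ _ (by simp [hUD, hkl])).trans
        ((zm _ _ _).trans (hl _ _ _ _).symm)), (congrArg f (Λt _ _)).trans
        ((hz _ _ _ (by simp [hUD, hkl.symm])).trans ((zm _ _ _).trans (hl _ _ _ _).symm))⟩).ge
      (Subgroup.mem_top g)
  have Bi : Function.Injective B := bc_inj _ _
  obtain ⟨γ, hγ⟩ : ∃ γ : SL(2, F) →* XU n F, ∀ g, B (γ g) = μ g :=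
    ⟨(MonoidHom.ofInjective Bi).symm.toMonoidHom.comp (μ.codRestrict _ mr), fun g =>
      MonoidHom.apply_ofInjective_symm Bi _⟩
  set b := Fin.last (m + 1)
  set a := (Fin.last m).castSucc
  have ab : a ≠ b := pen_ne m
  have γU : ∀ c, γ (sl2U c) = Tc c (uV hm b) := fun c => Bi (by rw [hγ, hU, bc_Tc _ _ (r1 _)])
  have γL : ∀ c, γ (sl2L c) = Tc c (dV hm b) := fun c => Bi (by rw [hγ, hL, bc_Tc _ _ (r2 _)])
  have γW : γ sl2W = nL hm b 1 := by rw [W_eq, map_mul, map_mul, γU, γL, nL, inv_one]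
  have γf : ∀ v, hf v (uV hm b) = 0 → hf v (dV hm b) = 0 → ∀ g, ac (γ g) v = v := fun v h1 h2 g =>
    (sl2_closure' (K := (Stab v).comap γ) (fun c => (congrArg (ac · v) (γU c)).trans (ac_Tc_fix c h1))
      fun c => (congrArg (ac · v) (γL c)).trans (ac_Tc_fix c h2)).ge (Subgroup.mem_top g)
  have ua := γf (uV hm a) (hUU hm _ _) (by simp [hUD, ab])
  have da := γf (dV hm a) (by simp [hDU, ab]) (hDD hm _ _)
  set β := e.comp γ
  have fβ : ∀ g, f (β g) = μ g := fun g => (he _).trans (hγ g)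
  set α := Λ.comp (bkSL (pairE ab))
  have αU : ∀ v, α (sl2U v) = Z (dV hm b) (uV hm a) v := fun v => by
    rw [sl2U_eq, MonoidHom.comp_apply, bkSL_tvn, Λt]; rfl
  have αL : ∀ v, α (sl2L v) = Z (dV hm a) (uV hm b) v := fun v => by
    rw [sl2L_eq, MonoidHom.comp_apply, bkSL_tvn, Λt]; rfl
  have hab : hf (uV (F := F) hm a) (dV hm b) = 0 := by simp [hUD, ab]
  have hba : hf (uV (F := F) hm b) (dV hm a) = 0 := by simp [hUD, ab.symm]
  have z1 : ∀ u v, hf v u = 0 → Z u v 1 = e (qq v u) := fun u v k => by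
    simpa using U.rat u v 1 k
  have αW : α sl2W = e (nS hm a b) := by
    rw [W_eq, map_mul, map_mul, αU, αL, z1 _ _ hab, z1 _ _ hba, nS, map_mul, map_mul]
  have cmt : ∀ p q : XU n F, Commute (f (e p)) (f (e q)) → Commute (e p) (e q) := fun p q k =>
    Commute.map (Bi (by rw [map_mul, map_mul, ← he, ← he]; exact k.eq) : Commute p q) e
  obtain ⟨n1, n2, n3⟩ := nS_ac (F := F) hm ab
  have b1 : ∀ c, b2w α β (.inl c) = e (Tc c (uV hm a)) := fun c => by
    change α sl2W * e (γ (sl2U c)) * (α sl2W)⁻¹ = _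
    rw [αW, γU, ← map_inv, ← map_mul, ← map_mul, EE_conj' (hf_zero_left _), n2, ac_zero]
  have b2 : ∀ v, b2w α β (.inr v) = Z (uV hm b) (uV hm a) v := fun v => by
    change e (γ sl2W) * α (sl2U v) * (e (γ sl2W))⁻¹ = _
    rw [αU, U.eqv _ _ _ _ hab, ua, γW, (nL_ac hm b one_ne_zero).2, one_smul]
  have d3 : ∀ v, ⁅α (sl2U v), β (sl2U 1)⁆ ∈ Subgroup.closure (Set.range (b2w α β)) := fun v => by
    obtain ⟨N, hN⟩ := fx _ (star_nm (star v))
    have k := U.tc (hf_symm hab) (hUU hm b a) (by simp [hDU]) hN 1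
    rw [map_one, one_mul, ← U.sw _ _ _ (hf_symm hab), ← U.sw _ _ _ (hUU hm b a), ← b1, ← b2] at k
    change ⁅α (sl2U v), e (γ (sl2U 1))⁆ ∈ _
    rw [commutatorElement_def, αU, γU, U.inv hab, k, mul_inv_cancel_right]
    exact mul_mem (Subgroup.subset_closure ⟨_, rfl⟩) (Subgroup.subset_closure ⟨_, rfl⟩)
  obtain ⟨ζ, hζ⟩ := exists_prim_unit K
  obtain ⟨ξ, hξ⟩ := exists_prim_unit F
  refine full_inj hμ fΛ fβ (fun Q sa sb ha hb => pair_inj ab hμ Q ha hb (fun _ => fΛ _) fβ hζ hξ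
    ?_ ?_ (fun p q => ?_) ⟨?_, ?_, d3 _, d3 _⟩) (fun p q => ?_) g ?_
  · obtain ⟨M, hM⟩ := fx _ (star_nm (ζ : K))
    obtain ⟨N, hN⟩ := fx _ (star_nm (ζ : K)⁻¹)
    rintro _ ⟨g, rfl⟩
    refine (sl2_closure' (K := (β.range.comap (MulAut.conj (α (sl2T ζ))).toMonoidHom).comap β)
      (fun c => ⟨sl2U (N * c), ?_⟩) fun c => ⟨sl2L (M * c), ?_⟩).ge (Subgroup.mem_top g)
    · have k := U.weyl (hUU hm a b) (p' := dV hm a) (r' := dV hm b) (by simp [hDU]) (by simp [hDU])
        (hf_symm hba) (hf_symm hab) (α := star (ζ : K)) (β := star (ζ : K)⁻¹)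
        (by rw [← star_mul']; simp) (M := M) (N := N) (by rw [hM, nm, nm, star_star, mul_comm])
        (by rw [hN, nm, nm, star_star, mul_comm]) hφ c
      rw [← U.sw _ _ _ (hf_symm hab), ← U.sw _ _ _ (hf_symm hba), ← b1, ← αU, ← αL, ← γU] at k
      refine k.symm.trans ?_
      change _ = α _ * β _ * (α _)⁻¹
      simp only [T_eq, b2w, Sum.elim_inl, map_mul, _root_.mul_inv_rev, mul_assoc]
    · have k := U.weyl (hDD hm a b) (p' := uV hm a) (r' := uV hm b) (by simp [hUD]) (by simp [hUD])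
        hab hba (α := (ζ : K)⁻¹) (β := ζ) (by simp) hN hM hφ c
      have k' : e (Tc c (dV hm a)) = α sl2W * β (sl2L c) * (α sl2W)⁻¹ := by
        change _ = _ * e (γ _) * _
        rw [αW, γL, ← map_inv, ← map_mul, ← map_mul, EE_conj' (hf_zero_left _), n3, ac_zero]
      rw [k', ← αU, ← αL, ← γL] at k
      refine k.symm.trans ?_
      change _ = α _ * β _ * (α _)⁻¹
      simp only [T_eq', map_mul, _root_.mul_inv_rev, mul_assoc]
  · have t1 : γ (sl2T ξ) = nL hm b (ξ : F) * nL hm b 1 := by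
      rw [T_eq, map_mul, γW, map_mul, map_mul, γU, γL]; rfl
    obtain ⟨l1, l2⟩ := nL_ac (F := F) hm b one_ne_zero
    obtain ⟨l3, l4⟩ := nL_ac (F := F) hm b ξ.ne_zero
    rintro _ ⟨g, rfl⟩
    refine (sl2_closure' (K := (α.range.comap (MulAut.conj (β (sl2T ξ))).toMonoidHom).comap α)
      (fun c => ⟨sl2U (x.φ (ξ : F)⁻¹ * c), ?_⟩) fun c => ⟨sl2L (x.φ ξ * c), ?_⟩).ge
      (Subgroup.mem_top g)
    · change _ = e (γ _) * α _ * (e (γ _))⁻¹
      rw [αU, αU, U.eqv _ _ _ _ hab, ua, t1, ac_mul, l2, one_smul, l3,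
        U.sw (uV hm a) (_ • _) _ (by rw [hf_smul_left, hf_symm hab, mul_zero]),
        U.sm _ _ _ _ (hf_symm hab), U.sw _ _ _ (hf_symm hab), star_mul', hφ]
    · change _ = e (γ _) * α _ * (e (γ _))⁻¹
      rw [αL, αL, U.eqv _ _ _ _ hba, da, t1, ac_mul, l1, inv_one, one_smul, l4, U.sm _ _ _ _ hba]
  · have k := comm_conj ab hμ p q
    rw [← fβ, ← fβ, show V.al ab sl2W = f (α sl2W) from (fΛ _).symm, αW] at k
    have k' := cmt (γ p) (nS hm a b * γ q * (nS hm a b)⁻¹) (by simp only [map_mul, map_inv]; exact k)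
    rw [map_mul, map_mul, map_inv, ← αW] at k'
    exact k'
  · refine Subgroup.subset_closure ⟨1, ?_⟩
    change b2w α β (.inr 1) = α sl2W * b2w α β (.inr 1) * (α sl2W)⁻¹
    rw [b2, αW, U.eqv _ _ _ _ (hUU hm _ _), n1, n2, U.sw _ _ _ (hUU hm b a), star_one]
  · rw [b1, αU]
    exact (U.fix hab 1 (ac_Tc_fix 1 (hf_symm hab)) (ac_Tc_fix 1 (hUU hm _ _))).symm
  · refine (Subgroup.mem_centralizer_singleton_iff.1 ((sl_eq_top_of_transvections
      ((Subgroup.centralizer {β q}).comap (Λ.comp (bkSL Fin.castSuccEmb))) fun i j hij c => ?_).ge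
      (Subgroup.mem_top p)))
    rw [Subgroup.mem_comap, Subgroup.mem_centralizer_singleton_iff, MonoidHom.comp_apply, bkSL_tvn,
      Λt]
    have k : ∀ i : Fin (m + 1), i.castSucc ≠ b := Fin.castSucc_ne_last
    exact (U.fix (by simp [hUD, hij]) c (γf _ (by simp [hDU, k]) (hDD hm _ _) q)
      (γf _ (hUU hm _ _) (by simp [hUD, k]) q)).symm
  · have k : ∀ p, e p ∈ Λ.range ⊔ β.range := fun p =>
      (fy.genL m hm ((Λ.range ⊔ β.range).comap e) (fun i j c hij => Subgroup.mem_sup_left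
        ⟨_, (Λt hij _).trans (U.rat _ _ c (by simp [hUD, hij]))⟩)
        (fun c => Subgroup.mem_sup_right ⟨_, congrArg e (γU c)⟩)
        fun c => Subgroup.mem_sup_right ⟨_, congrArg e (γL c)⟩).ge (Subgroup.mem_top p)
    refine (sup_le (by rintro _ ⟨p, rfl⟩; exact k p) ((Subgroup.closure_le _).2 ?_)) hg
    rintro _ ⟨u, v, s, h0, rfl⟩
    have dp : ∀ (u : Vn n F) (c : F) s, Z u (c • u) s ∈ Λ.range ⊔ β.range := fun u c s => by
      obtain ⟨d, hd⟩ := fx _ (star_tr (x.φ c * s))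
      rw [U.sm _ _ _ _ (hf_self u), U.dep _ _ d hd]
      exact k _
    by_cases hu : u = 0
    · rw [U.sw v u s (hf_symm h0), hu, ← zero_smul F v]
      exact dp _ _ _
    by_cases hv : Li u v
    · obtain ⟨p, p1, p2⟩ := FW.w2 u v (hf_symm h0) hv
      obtain ⟨q, q1, q2⟩ := FW.w2 (dV (F := F) hm b) (uV hm a) (hf_symm hab) fun r s k => ⟨by
        simpa [hf_add_left, hf_smul_left, hUU, hDU] using congrArg (hf · (uV hm b)) k, by
        simpa [hf_add_left, hf_smul_left, hDD, hUD] using congrArg (hf · (dV hm a)) k⟩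
      have := U.eqv (p * q⁻¹) _ _ s hab
      rw [← q1, ← q2, ac_mul, ac_mul, ac_inv_ac, ac_inv_ac, p1, p2, q1, q2, ← Λt ab] at this
      rw [← this]
      exact mul_mem (mul_mem (k _) (Subgroup.mem_sup_left ⟨_, rfl⟩)) (inv_mem (k _))
    · obtain ⟨c, rfl⟩ := dep_of_not_li hu hv
      exact dp _ _ _

end H78.S2
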