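import Cfsg.Agent.H78.S2Fac
import Cfsg.Agent.H78.S2LV
import Cfsg.Agent.H78.S2CT
import Cfsg.Agent.H67.SPIII
import Cfsg.Agent.H35.S2SH
import Cfsg.Agent.H35.S2UM
import Cfsg.Agent.H10.S2L1
import Cfsg.Agent.H69.SP2L2
import Cfsg.Agent.H69.SP2RU
import Cfsg.Agent.H30.S2UZ

/-! STD-SP (row S3129), chapter III, step B: `SL_(2k)` and `SU_(2k)` from the relations `RE`. -/

set_option autoImplicit false
set_option linter.all false

namespace H78.S3

open H67.UA hiding Par
open H67.SP H78.S2 H30.S2UZ H69.SP2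
open H67.SA (SLn)
open H86.SPI (ok hf_self hf_comm EE_mul' hf_smul_right' hf_comb qq_dep)
open Matrix Subgroup

universe u

section

variable {n : ℕ} {F : Type} [Field F] [StarRing F] [TrivialStar F] [CharP F 2] [Finite F]
  [p : Par n F] {G : Type u} [Group G] {e : XU n F →* G} {t : G} {y : Vn n F → Vn n F → G} {δ : F}

theorem fam (r : RE e y δ) : Fam e δ y where
  sw u x h := r.ssym u x (hf_symm h)
  sm c u x h := r.sscal c u x (hf_symm h)
  eqv g u x h := r.eqv g u x (hf_symm h)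
  dep u c := r.shift c u
  add u x x' h h' := by rw [hf_comm x' x]; exact r.mul u x x' (hf_symm h) (hf_symm h')

theorem rel (r : RE e y δ) : Rel e δ y where
  toFam := fam r
  com u x u' x' h1 h2 h3 h4 h5 h6 := by
    have := r.cS u' u x x' ⟨h3, h4, hf_symm h1⟩ (hf_symm h2)
    simp only [h5, h6, zero_smul, add_zero, smul_zero, EE_zero, map_one, one_mul] at this
    exact mul_inv_eq_iff_eq_mul.1 this
  tri u x u' f h := by
    have f' := fam r
    have := r.cS u' u x f ⟨h.uu, h.ux, hf_symm h.xu⟩ (hf_symm h.fu')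
    simp only [h.fx, h.fu, zero_smul, zero_add, one_smul] at this
    have xu' := hf_symm h.ux
    have k := hs xu' δ
    rw [f'.inv h.xu] at this
    rw [f'.add0 h.fu' xu' (hf_symm h.fx), this]
    exact f'.fix (by rw [hf_add_left, h.fu', xu', add_zero]) (ac_EE_u k 0) (ac_qq_fix k
      (by rw [hf_add_left, h.fu', xu', add_zero])
      (hs' (by rw [hf_add_left, h.fx, hf_self, add_zero]) δ))

theorem tw (r : RE e y δ) (c : ∀ g, t * e g = e g * t) (v : Sv e y t) : Tw t y := fun u x h => by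
  have f' := fam r
  have h1 := mul_inv_eq_iff_eq_mul.1 (v u x (hf_symm h))
  have h2 := f'.qc h 1
  rw [one_smul] at h2
  have h3 : e (qq x u) * e (qq x u) = 1 := by rw [← map_mul, H86.SPI.qq_sq h, map_one]
  rw [f'.sw u x h, ← h2, mul_inv_eq_iff_eq_mul, mul_assoc, h1, c, ← mul_assoc, ← mul_assoc, h3,
    one_mul]

theorem uz (cen : ∀ g, t * e g = e g * t) (r : Rel e δ y) (tw : Tw t y) {K : Type} [Field K]
    [StarRing K] [CharP K 2] (q : Qx F K) (hq : ∀ a : K, star a = q.σ a) {η : K} (h1 : tr η = 1)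
    (h2 : nm η = q.φ δ) : ∃ Z, UF e q.φ Z ∧ TwU t Z ∧ ∀ u x, Z u x η = y u x := by
  have r' := r.toFam
  have t2 := two0 K
  have sφ : ∀ a, star (q.φ a) = q.φ a := fun a => by rw [hq, (q.fix _).2 ⟨a, rfl⟩]
  have h3 : star η = η + 1 := by linear_combination h1 - η * t2
  have h4 : η * η = η + q.φ δ := by
    rw [nm, h3] at h2; linear_combination h2 - η * t2
  have co : ∀ α : K, ∃ p : F × F, α = q.φ p.1 + q.φ p.2 * η := fun α => by
    obtain ⟨b, hb⟩ := (q.fix (tr α)).1 (by rw [← hq, star_tr])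
    obtain ⟨a, ha⟩ := (q.fix (α + q.φ b * η)).1 (by
      rw [← hq, star_add, star_mul', sφ, h3, hb, tr]; linear_combination star α * t2)
    exact ⟨(a, b), by rw [ha]; linear_combination -(q.φ b * η) * t2⟩
  have st : ∀ a b, star (q.φ a + q.φ b * η) = q.φ (a + b) + q.φ b * η := fun a b => by
    rw [star_add, star_mul', sφ, sφ, h3, map_add]; ring
  have trc : ∀ a b, tr (q.φ a + q.φ b * η) = q.φ b := fun a b => by
    rw [tr, st, map_add]; linear_combination (q.φ a + q.φ b * η) * t2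
  choose p hp using co
  have uq : ∀ a b, p (q.φ a + q.φ b * η) = (a, b) := fun a b => by
    have k := hp (q.φ a + q.φ b * η)
    have k2 := congrArg tr k
    rw [trc, trc] at k2
    rw [← k2] at k
    exact Prod.ext (q.φ.injective (add_right_cancel k)).symm (q.φ.injective k2).symm
  have co : ∀ α : K, ∃ a b, α = q.φ a + q.φ b * η := fun α => ⟨_, _, hp α⟩
  have ml : ∀ a b a' b', (q.φ a + q.φ b * η) * (q.φ a' + q.φ b' * η) =
      q.φ (a * a' + δ * (b * b')) + q.φ (a * b' + a' * b + b * b') * η := fun a b a' b' => by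
    simp only [map_add, map_mul]; linear_combination q.φ b * q.φ b' * h4
  have f2 := two0 F
  refine ⟨fun u x α => V e y u ((p α).1 • x) ((p α).2 • x) 0, ⟨fun g u x α h => ?_,
    fun u x a h => ?_, fun u x α β h => ?_, fun u x α h => ?_, fun c u x α h => ?_,
    fun u α c h => ?_, fun u x x' α c h h' k => ?_, fun u x x' α β c h h' k => ?_,
    fun u x u' x' α β k1 k2 k3 k4 k5 k6 => ?_, fun u x u' f α β h => ?_⟩, fun u x α h => ?_,
    fun u x => ?_⟩
  · rw [V_conj r' (hs h _) (hs h _), ac_smul, ac_smul]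
  · have := uq a 0
    rw [map_zero, zero_mul, add_zero] at this
    simp [this, V, r'.y0]
  · obtain ⟨a, b, rfl⟩ := co α
    obtain ⟨a', b', rfl⟩ := co β
    rw [show q.φ a + q.φ b * η + (q.φ a' + q.φ b' * η) = q.φ (a + a') + q.φ (b + b') * η by
      simp only [map_add]; ring]
    simp only [uq]
    rw [V_mul r' (hs h _) (hs h _) (hs h _) (hs h _), add_smul, add_smul]
    simp [hf_smul_left, hf_smul_right', hf_self]
  · obtain ⟨a, b, rfl⟩ := co α
    simp only [st, uq]
    rw [← V_sw r' h, V, r'.sm b x u (hf_symm h), qq_smul', qq_comm]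
  · obtain ⟨a, b, rfl⟩ := co α
    rw [show q.φ c * (q.φ a + q.φ b * η) = q.φ (a * c) + q.φ (b * c) * η by
      simp only [map_mul]; ring]
    simp only [uq, smul_smul]
  · obtain ⟨a, b, rfl⟩ := co α
    rw [trc] at h
    simp only [uq]
    rw [V, show EE u (a • u) 0 = 1 from qq_dep a u, map_one, one_mul, r'.dep, q.φ.injective h]
  · obtain ⟨a, b, rfl⟩ := co α
    rw [nm, st, ml] at k
    have k2 := congrArg p k
    rw [show q.φ c = q.φ c + q.φ 0 * η by simp, uq, uq] at k2
    have k3 : c = a * (a + b) + δ * (b * b) := congrArg Prod.fst k2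
    have h'' : hf (x + x') u = 0 := by rw [hf_add_left, h, h', add_zero]
    simp only [uq]
    rw [V_mul r' (hs h _) (hs h _) (hs h' _) (hs h' _), V_tc r' (hs h'' _) (hs h'' _), smul_add,
      smul_add, k3]
    congr 1
    simp only [hf_smul_left, hf_smul_right']; ring
  · obtain ⟨a, b, rfl⟩ := co α
    obtain ⟨a', b', rfl⟩ := co β
    rw [st, ml, trc] at k
    simp only [uq]
    rw [V_mul r' (hs h _) (hs h _) (hs h' _) (hs h' _), V_mul r' (hs h' _) (hs h' _) (hs h _) (hs h _),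
      V_tc r' (by rw [hf_add_left, hs h, hs h', add_zero])
        (by rw [hf_add_left, hs h, hs h', add_zero]), add_comm (a' • x'), add_comm (b' • x'),
      q.φ.injective k]
    congr 1
    simp only [hf_smul_left, hf_smul_right', hf_comm x x']
    linear_combination (-(a * b' + b * b') * hf x' x) * f2
  · generalize (p α).1 = a, (p α).2 = b, (p β).1 = a', (p β).2 = b'
    have g1 : ac (qq (a • x) u) u' = u' := ac_qq_fix (hs k1 a) k3 (hs' k4 a)
    have g2 : ∀ c : F, ac (qq (a • x) u) (c • x') = c • x' := fun c =>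
      ac_qq_fix (hs k1 a) (hs k5 c) (hs (hs' k6 a) c)
    refine Commute.mul_left (Commute.mul_right ?_ (r'.fix (hs k2 _) g1 (g2 _)))
      (Commute.mul_right (Commute.symm (r'.fix (hs k1 _) ?_ ?_)) (r.com _ _ _ _ (hs k1 _) (hs k2 _)
        k3 (hs' k4 _) (hs k5 _) (hs (hs' k6 _) _)))
    · exact Commute.map (EE_fix (hs k2 _) 0 g1 (g2 _)) e
    · exact ac_qq_fix (hs k2 _) (hf_symm k3) (hs' (hf_symm k5) _)
    · exact ac_qq_fix (hs k2 _) (hs (hf_symm k4) _) (hs (hs' (hf_symm k6) _) _)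
  · obtain ⟨a, b, rfl⟩ := co α
    obtain ⟨a', b', rfl⟩ := co β
    simp only [ml, uq]
    exact V_tri r h a b a' b'
  · obtain ⟨a, b, rfl⟩ := co α
    simp only [st, uq]
    rw [← V_sw r' h, ← tw u _ (hs h b), V, ← mul_assoc, cen]
    simp only [mul_assoc]
  · have := uq 0 1
    rw [map_zero, map_one, zero_add, one_mul] at this
    simp [this, V]

theorem op_conj (g : XU n F) (a b : Vn n F) :
    mt g * (1 + op a b) * mt g⁻¹ = 1 + op (ac g a) (ac g b) :=
  ext_iff_mulVec.2 fun v => by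
    rw [← mulVec_mulVec, ← mulVec_mulVec, add_mulVec, add_mulVec, one_mulVec, one_mulVec,
      op_mulVec, op_mulVec]
    change ac g (ac g⁻¹ v + hf (ac g⁻¹ v) b • a) = _
    rw [ac_add, ac_smul, ac_ac_inv, ← hf_ac g, ac_ac_inv]

theorem sl_val (a : SLn n F) : sl a.1 = a := dif_pos a.2

end

theorem bL : BL.{u} := by
  intro n F _ _ _ _ _ p G _ _ e t b c s δ ε hε inj cen re sv
  have h5 := p.five
  have r := H35.S2SH.shift (rel re) ε
  rw [show δ + ε + ε ^ 2 = 0 by linear_combination -hε + (ε + ε ^ 2) * two0 F] at r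
  have tw0 := tw re cen sv
  generalize hy : (fun u x => s u x * e (qq (ε • x) u)) = y at r
  have ys : ∀ u x, y u x = s u x * e (qq (ε • x) u) := fun u x => by rw [← hy]
  have tw : Tw t y := fun u x h0 => by
    rw [ys, ys, ← tw0 u x h0, qq_comm (ε • u) x, ← qq_smul', ← mul_assoc, mul_assoc _ (e _),
      mul_assoc _ t⁻¹, (Commute.inv_left (cen _)).eq]
  obtain ⟨Φ, hΦ⟩ := (H10.S2L.stA r).exists_hom (by omega)
  have hx : ∀ i j, i ≠ j → ∀ a, Φ (H67.SA.x i j a) = y (ev j.rev) (a • ev i) := fun i j h a => by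
    rw [H67.SA.x_of_ne h, ← H57.xA_eq h, hΦ i j h]; rfl
  have sw : ∀ i j, i ≠ j → ∀ a : F, Φ (H67.SA.x j.rev i.rev a) = y (a • ev i) (ev j.rev) :=
    fun i j h a => by
      rw [hx _ _ (by simpa using h.symm), Fin.rev_rev, r.sm]
      rw [hf_ev, if_neg (by simpa using h)]
  have tc : ∀ i a, Φ (io n F (Tc a (ev i))) = e (Tc a (ev i)) := fun i a => by
    rw [io_Tc, hx _ _ (ne_rev p.odd i), Fin.rev_rev, r.dep]
  have res : ∀ g, Φ (io n F g) = e g := fun g => by
    obtain ⟨k, hk⟩ := p.odd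
    refine ((fY n F).genL (k - 1) (by omega) ((Φ.comp (io n F)).eqLocus e) (fun i j a h => ?_)
      (fun a => tc _ a) fun a => tc _ a).ge (mem_top g)
    have h' := (show Function.Injective (up (n := n) (m := k - 1) (by omega)) from
      fun a b h => Fin.ext (congrArg Fin.val h :)).ne h
    change Φ (io n F _) = _
    rw [io_ss h', map_mul, hx _ _ h', sw _ _ h', r.sw _ _ (hf_ne h' a), ← mul_assoc,
      r.toFam.sq (hf_ne h' a), one_mul]
  have key : ∀ u v : Vn n F, hf u v = 0 → ∃ a : SLn n F, a.1 = 1 + op v u ∧ Φ a = y u v := by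
    intro u v h
    by_cases hu : u = 0
    · exact ⟨1, by simp [hu], by rw [hu, r.toFam.zero, map_one]⟩
    by_cases hl : Li u v
    · obtain ⟨g, g1, g2⟩ := FW.w2 u v h hl
      have ne : (1 : Fin (n + 1)) ≠ (0 : Fin (n + 1)).rev := fun k => by
        have := congrArg Fin.val k
        rw [Fin.val_rev, Fin.val_one', Nat.mod_eq_of_lt (by omega), Fin.val_zero] at this
        omega
      have h0 := hf_ne (F := F) ne 1
      refine ⟨io n F g * H67.SA.x 1 (0 : Fin (n + 1)).rev 1 * io n F g⁻¹, ?_, ?_⟩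
      · rw [H67.SA.val_mul, H67.SA.val_mul, H67.SA.x_coe ne, ← op_ev, Fin.rev_rev, ← g1, ← g2]
        exact op_conj g _ _
      · rw [map_mul, map_mul, res, res, hx _ _ ne, map_inv, r.eqv _ _ _ h0, Fin.rev_rev, one_smul,
          g1, g2]
    · obtain ⟨a, rfl⟩ := dep_of_not_li hu hl
      refine ⟨io n F (Tc a u), ?_, by rw [res, r.dep]⟩
      change mt (Tc a u) = _
      rw [mt_EE (ok (hf_zero_left _) a), mE, op_smul_left]
      simp
  refine ⟨Φ, ⟨(H67.SA.normal_le_center_or (by omega) _).resolve_right fun k => ?_, res,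
    fun s => ?_⟩, fun u v h => ?_⟩
  · obtain ⟨a, ha⟩ := (FA.ns (n := n) (F := F)).exists_ne
    exact ha (inj (by rw [← res, map_one]; exact k.ge (mem_top _)))
  · refine DFunLike.congr_fun (H67.SA.hom_ext (e := (MulAut.conj t).toMonoidHom.comp Φ)
      (e' := Φ.comp (tau n F).toMonoidHom) fun i j h a => ?_) s
    change t * Φ _ * t⁻¹ = Φ (tau n F _)
    rw [tau_x, star_trivial, hx _ _ h, sw _ _ h, tw _ _ (hf_ne h a)]
  · obtain ⟨a, a1, a2⟩ := key u v h
    have h' := hs (hf_symm h) ε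
    have : SL0 ε u v = a * io n F (qq (ε • v) u) := by
      rw [← sl_val (a * _), SL0, H67.SA.val_mul, a1]
      congr 1
      change _ = _ * mt (qq (ε • v) u)
      rw [mt_EE (ok h' 0), mE]
      simp only [add_mul, mul_add, one_mul, mul_one, op_smul_left, op_smul_right, star_trivial,
        mul_smul_comm, op_mul, hf_self, hf_symm h, zero_smul, smul_zero, add_zero, add_smul, one_smul]
      abel
    rw [this, map_mul, a2, res, ys, mul_assoc, ← map_mul, H86.SPI.qq_sq h', map_one, mul_one]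

theorem bU : BU.{u} := by
  intro n F _ _ _ _ _ _ b K _ _ _ _ x δ η et h G _ _ e t s ij cen re sv
  have t2 := two0 K
  have s1 : star (η + 1) = η := by rw [star_add, star_one, h, et.sg]; linear_combination t2
  obtain ⟨Z, uf, tw, zy⟩ := uz cen (rel re) (tw re cen sv) x h (η := η + 1)
    (by rw [tr, s1]; linear_combination η * t2) (by rw [nm, s1, ← et.sq]; ring)
  have ct := jobCT.{u} n F b (fc n F) (fX n F) (fY n F) K x h (jobLV n F K x h)
  obtain ⟨M, mf⟩ := H35.S2UM.jobUM n F K x h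
  set ι := bc (m := n) x.φ (x.st (Or.inr h))
  have U : UF (e.prod ι) x.φ fun u y α => (Z u y α, zM x.φ u y α) :=
    ⟨fun g u y α k => Prod.ext (uf.eqv g u y α k) (M.eqv g u y α k),
      fun u y a k => Prod.ext (uf.rat u y a k) (M.rat u y a k),
      fun u y α β k => Prod.ext (uf.add u y α β k) (M.add u y α β k),
      fun u y α k => Prod.ext (uf.sw u y α k) (M.sw u y α k),
      fun a u y α k => Prod.ext (uf.sm a u y α k) (M.sm a u y α k),
      fun u α a k => Prod.ext (uf.dep u α a k) (M.dep u α a k),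
      fun u y y' α a k k' l => Prod.ext (uf.ad2 u y y' α a k k' l) (M.ad2 u y y' α a k k' l),
      fun u y y' α β a k k' l => Prod.ext (uf.cm u y y' α β a k k' l) (M.cm u y y' α β a k k' l),
      fun u y u' y' α β k1 k2 k3 k4 k5 k6 => Prod.ext (uf.com u y u' y' α β k1 k2 k3 k4 k5 k6)
        (M.com u y u' y' α β k1 k2 k3 k4 k5 k6),
      fun u y u' f α β k => Prod.ext (uf.tri u y u' f α β k) (M.tri u y u' f α β k)⟩
  have inj := ct.2 (G × XU n K) (MonoidHom.snd _ _) _ _ U (fun _ => rfl) fun _ _ _ _ => rfl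
  have top : ∀ A : Subgroup (XU n K), (∀ g, ι g ∈ A) →
      (∀ u y α, hf y u = 0 → zM x.φ u y α ∈ A) → ⊤ ≤ A := fun A k1 k2 => by
    rw [← ct.1]
    refine sup_le ?_ ((closure_le _).2 ?_)
    · rintro _ ⟨g, rfl⟩
      exact k1 g
    · rintro _ ⟨u, y, α, k, rfl⟩
      exact k2 u y α k
  obtain ⟨Φ, hΦ⟩ := H57.exists_hom_of_inj
    (κ := XU n F ⊕ {p : Vn n F × Vn n F × K // hf p.2.1 p.1 = 0})
    (Sum.elim e fun p => Z p.1.1 p.1.2.1 p.1.2.2) (Sum.elim ι fun p => zM x.φ p.1.1 p.1.2.1 p.1.2.2)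
    (eq_top_iff.2 (top _ (fun g => subset_closure ⟨.inl g, rfl⟩)
      fun u y α k => subset_closure ⟨.inr ⟨(u, y, α), k⟩, rfl⟩))
    fun g hg => inj g ((closure_le _).2 (by
      rintro _ ⟨k | k, rfl⟩
      · exact mem_sup_left ⟨k, rfl⟩
      · exact mem_sup_right (subset_closure ⟨_, _, _, k.2, rfl⟩)) hg)
  have r1 : ∀ g, Φ (ι g) = e g := fun g => hΦ (.inl g)
  have r2 : ∀ u y α, hf y u = 0 → Φ (zM x.φ u y α) = Z u y α :=
    fun u y α k => hΦ (.inr ⟨(u, y, α), k⟩)
  refine ⟨Φ, ⟨(nrmU x h _ inferInstance).resolve_right fun k => ?_, r1, fun s => ?_⟩,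
    fun u v k => (r2 u v (η + 1) (hf_symm k)).trans (zy u v)⟩
  · obtain ⟨a, ha⟩ := (FA.ns (n := n) (F := F)).exists_ne
    exact ha (ij (by rw [← r1, map_one]; exact k.ge (mem_top _)))
  · refine top (((MulAut.conj t).toMonoidHom.comp Φ).eqLocus
      (Φ.comp (fa x.σ (x.sf (Or.inr h))).toMonoidHom)) (fun g => ?_) (fun u y α k => ?_) (mem_top s)
    · change t * Φ (ι g) * t⁻¹ = Φ (fa x.σ (x.sf (Or.inr h)) (ι g))
      rw [show fa x.σ (x.sf (Or.inr h)) (ι g) = ι g from
        X_ext (Matrix.ext fun i j => (x.fix _).2 ⟨_, rfl⟩), r1, cen, mul_inv_cancel_right]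
    · change t * Φ (zM x.φ u y α) * t⁻¹ = Φ (fa x.σ (x.sf (Or.inr h)) (zM x.φ u y α))
      rw [mf u y α k, r2 _ _ _ k, r2 _ _ _ k, tw u y α k]

end H78.S3
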