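import Cfsg.Agent.H78.YUAsm
import Cfsg.Agent.H44.YEa
import Cfsg.Agent.H60.YuR0
import Cfsg.Agent.H34.YuNP
import Cfsg.Agent.H7.YURN
import Cfsg.Agent.H52.YUQN
import Cfsg.Agent.H8.YURA
import Cfsg.Agent.H49.YUHB
import Cfsg.Agent.H96.YUH1
import Cfsg.Agent.H57.YUHA
import Cfsg.Agent.H70.YUPT
import Cfsg.Agent.H17.YUSD
import Cfsg.Agent.H61.YUS0
import Cfsg.Agent.H38.YUS1
import Cfsg.Agent.H14.YUBI
import Cfsg.Agent.H76.YUNU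
import Cfsg.Agent.H35.YUCL
import Cfsg.Agent.H35.YUG1
import Cfsg.Agent.H96.YUDC
import Cfsg.Agent.H77.YUAL
import Cfsg.Agent.H18.YUGC

/-! STD-SP (row S3129), endgame: the unitary models. -/

set_option autoImplicit false

namespace H78.YU

theorem sy : SY :=
  ⟨H44.YE.jobNA, H60.YR0.jobR0, H34.YuNP.jobNP, H7.YURN.jobRN, H52.YUQN.jobQN, H8.YURA.jobRA,
    H49.YUHB.jobHB, H96.YU.jobH1, H57.YUHA.jobHA, H70.YUPT.jobPT, H17.YUSD.jobSD, H61.YUS0.jobS0,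
    H38.YU.jobS1, H14.YUBI.jobBI, H76.YUNU.jobNU, H35.YUCL.jobCL, H35.YUG1.jobG1, H96.YU.jobDC,
    H77.YUAL.jobAL, H18.YUGC.jobGC⟩

theorem jobMU0 : H64.YE.JobMU0 := sy.mu0
theorem jobMU1 : H64.YE.JobMU1 := sy.mu1

end H78.YU
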