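import Cfsg.Agent.H63.StdRed
import Cfsg.Agent.H21.CoverId
import Cfsg.Agent.S2363

/-! Row S3133: type-free kit (lifts through odd central kernels; alternating groups). -/

set_option autoImplicit false

namespace H78.S6

open Subgroup H21 H63.SR

/-- A homomorphism from a perfect group whose multiplier has order dividing `4` lifts through a
central extension with odd kernel. -/
theorem lift_odd {Γ Q E : Type*} [Group Γ] [Group Q] [Group E] [Finite Γ]
    (hP : commutator Γ = ⊤) (hm : multCard Γ ∣ 4) (ρ : Γ →* Q) {π : E →* Q}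
    (hπ : Function.Surjective π) (hZ : π.ker ≤ center E) (ho : ∀ a, π a = 1 → Odd (orderOf a)) :
    ∃ φ : Γ →* E, ∀ g, π (φ g) = ρ g := by
  have h1 := isCentralExt_pullbackFst ρ π ⟨hπ, hZ⟩
  have h2 := isStem_commutator h1.1 h1.2 hP
  have h4 := (card_ker_dvd_multCard h2).trans hm
  have h3 : Function.Injective ((pullbackFst ρ π).comp (commutator _).subtype) := by
    rw [injective_iff_map_eq_one]
    intro z hz
    have k1 : z ^ 4 = 1 := by
      obtain ⟨c, hc⟩ := h4
      have := congrArg Subtype.val (pow_card_eq_one' (x := (⟨z, hz⟩ :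
        ((pullbackFst ρ π).comp (commutator _).subtype).ker)))
      rw [hc, pow_mul, show z ^ _ = 1 from this, one_pow]
    have k2 : z.1.1.1 = 1 := hz
    have k3 : π z.1.1.2 = 1 := by rw [← mem_pullback.1 z.1.2, k2, map_one]
    have k4 : z.1.1.2 ^ 4 = 1 := congrArg (fun a => a.1.1.2) k1
    have k5 : z.1.1.2 = 1 := orderOf_eq_one_iff.1 (Nat.Coprime.eq_one_of_dvd
      ((Nat.coprime_two_right.2 (ho _ k3)).pow_right 2) (orderOf_dvd_of_pow_eq_one k4))
    exact Subtype.ext (Subtype.ext (Prod.ext k2 k5))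
  let e := MulEquiv.ofBijective _ ⟨h3, h2.1⟩
  refine ⟨((pullbackSnd ρ π).comp (commutator _).subtype).comp e.symm.toMonoidHom, fun s => ?_⟩
  obtain ⟨s, rfl⟩ := e.surjective s
  simp only [MonoidHom.comp_apply, MulEquiv.coe_toMonoidHom, MulEquiv.symm_apply_apply]
  exact (pullback_comm ρ π _).symm

variable {A Γ : Type*} [Group A] [Group Γ] [Finite Γ]

theorem iso_of_oc (hP : commutator Γ = ⊤) (hm : multCard Γ ∣ 4) (h : OC A Γ)
    (hp : commutator A = ⊤) : Nonempty (A ≃* Γ) := by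
  obtain ⟨π, hs, hk⟩ := h
  obtain ⟨e, he⟩ := lift_odd hP hm (MonoidHom.id _) hs (fun a ha => (hk a ha).1)
    fun a ha => (hk a ha).2
  exact ⟨MulEquiv.ofBijective π ⟨inj_of_section π e he (fun a ha => (hk a ha).1) hp, hs⟩⟩

theorem iso_of_oc2 (hP : commutator Γ = ⊤) (hm : multCard Γ ∣ 4) (h : OC A (Γ × Γ))
    (hp : commutator A = ⊤) : Nonempty (A ≃* Γ × Γ) := by
  obtain ⟨π, hs, hk⟩ := h
  obtain ⟨e, he⟩ := lift_odd hP hm (MonoidHom.inl _ _) hs (fun a ha => (hk a ha).1)
    fun a ha => (hk a ha).2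
  obtain ⟨e', he'⟩ := lift_odd hP hm (MonoidHom.inr _ _) hs (fun a ha => (hk a ha).1)
    fun a ha => (hk a ha).2
  have hc : ∀ a b, Commute (e a) (e' b) := fun a b => by
    have h1 : ∀ a, e a * e' b * (e a)⁻¹ * (e' b)⁻¹ ∈ center A := fun a => (hk _ (by
      simp [he, he'])).1
    let f : Γ →* A := MonoidHom.mk' (fun a => e a * e' b * (e a)⁻¹ * (e' b)⁻¹) fun a c => by
      have := mem_center_iff.1 (h1 c) (e a)
      calc _ = e a * (e c * e' b * (e c)⁻¹ * (e' b)⁻¹) * e' b * (e a)⁻¹ * (e' b)⁻¹ := by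
            rw [map_mul]; group
        _ = (e c * e' b * (e c)⁻¹ * (e' b)⁻¹) * (e a * e' b * (e a)⁻¹ * (e' b)⁻¹) := by
            rw [this]; group
        _ = _ := (mem_center_iff.1 (h1 c) _).symm
    have h2 : (⊤ : Subgroup Γ) ≤ f.ker := by
      rw [← hP, commutator_def, commutator_le]
      intro a _ c _
      rw [MonoidHom.mem_ker, map_commutatorElement, commutatorElement_eq_one_iff_mul_comm]
      exact mem_center_iff.1 (h1 c) _
    have h3 : e a * e' b * (e a)⁻¹ * (e' b)⁻¹ = 1 := h2 (mem_top a)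
    rwa [mul_inv_eq_one, mul_inv_eq_iff_eq_mul] at h3
  exact ⟨MulEquiv.ofBijective π ⟨inj_of_section π (e.noncommCoprod e' hc) (fun g => by
    simp [he, he']) (fun a ha => (hk a ha).1) hp, hs⟩⟩

/-- An odd perfect central extension of `Γ / Z(Γ)`, where `Z(Γ)` has prime order. -/
theorem iso_or (hP : commutator Γ = ⊤) (hm : multCard Γ ∣ 4) (hc : (Nat.card (center Γ)).Prime)
    (h : OC A (Γ ⧸ center Γ)) (hp : commutator A = ⊤) :
    Nonempty (A ≃* Γ ⧸ center Γ) ∨ Nonempty (A ≃* Γ) := by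
  obtain ⟨π, hπ, hk⟩ := h
  have hz : π.ker ≤ center A := fun a ha => (hk a ha).1
  obtain ⟨φ, hφ⟩ := lift_odd hP hm (QuotientGroup.mk' (center Γ)) hπ hz fun a ha => (hk a ha).2
  have hs := surjective_of_lift_stem π ⟨hπ, hz, hp ▸ le_top⟩ φ fun d => by
    obtain ⟨g, hg⟩ := QuotientGroup.mk'_surjective (center Γ) (π d)
    exact ⟨g, (hφ g).trans hg⟩
  have h1 : φ.ker ≤ center Γ := fun x hx => by
    rw [← QuotientGroup.ker_mk' (center Γ), MonoidHom.mem_ker, ← hφ, MonoidHom.mem_ker.1 hx, map_one]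
  rcases (Nat.dvd_prime hc).1 (card_dvd_of_le h1) with h | h
  · exact Or.inr ⟨(MulEquiv.ofBijective φ ⟨(MonoidHom.ker_eq_bot_iff φ).1 (card_eq_one.1 h), hs⟩).symm⟩
  · have h2 := eq_of_le_of_card_ge h1 h.ge
    have h3 : π.ker = ⊥ := eq_bot_iff.2 fun x hx => by
      obtain ⟨g, rfl⟩ := hs x
      rw [MonoidHom.mem_ker, hφ, ← MonoidHom.mem_ker, QuotientGroup.ker_mk', ← h2] at hx
      exact hx
    exact Or.inl ⟨MulEquiv.ofBijective π ⟨(MonoidHom.ker_eq_bot_iff π).1 h3, hπ⟩⟩

theorem fact_ge (m : ℕ) (h : 22 ≤ m) : 2 * 8 ^ (m - 2) ≤ m.factorial := by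
  induction m, h using Nat.le_induction with
  | base => decide
  | succ k hk ih =>
    rw [show k + 1 - 2 = k - 2 + 1 by omega, pow_succ, Nat.factorial_succ, ← mul_assoc, mul_comm]
    exact Nat.mul_le_mul (by omega) ih

theorem small (m k c : ℕ) (hm : m < 22) (h9 : 9 ≤ k) (hc : 2 * c = m.factorial) (hd : 2 ^ k ∣ c) :
    2 ^ (3 * k) ≤ c := by
  have h1 : 2 ^ (k + 1) ∣ m.factorial := by rw [← hc, pow_succ, mul_comm]; exact Nat.mul_dvd_mul_left 2 hd
  have h2 : k < 19 := by
    by_contra h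
    have h3 : 2 ^ 20 ∣ m.factorial := (pow_dvd_pow 2 (by omega)).trans h1
    interval_cases m <;> revert h3 <;> decide
  have h3 : 2 * 2 ^ (3 * k) ≤ m.factorial := by
    clear hc hd
    interval_cases m <;> interval_cases k <;> revert h1 <;> decide
  omega

/-- A group of Lie type in characteristic `2` with a `2`-subgroup of order at least `2⁹` is not
alternating. -/
theorem na (Y : Type) [Group Y] [Finite Y] (P : Subgroup Y) (hY : Cfsg.IsLieTypeChar 2 Y)
    (hP : IsPGroup 2 P) (h20 : 2 ^ 9 ≤ Nat.card P) (m : ℕ) :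
    IsEmpty (Y ≃* alternatingGroup (Fin m)) := by
  refine ⟨fun e => ?_⟩
  have : Fact (Nat.Prime 2) := ⟨Nat.prime_two⟩
  have h1 := (Cfsg.Agent.S2363.result 2 Nat.prime_two hY).1
  obtain ⟨j, hj⟩ := hP.exists_card_eq
  have c0 : Nat.card Y ≠ 0 := Nat.card_pos.ne'
  have hd : 2 ^ j ∣ Nat.card Y := hj ▸ card_subgroup_dvd_card P
  have hk : 9 ≤ (Nat.card Y).factorization 2 :=
    ((Nat.pow_le_pow_iff_right one_lt_two).1 (hj ▸ h20)).trans
      ((Nat.prime_two.pow_dvd_iff_le_factorization c0).1 hd)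
  have cY : Nat.card Y = Nat.card (alternatingGroup (Fin m)) := Nat.card_congr e.toEquiv
  have m2 : 2 ≤ m := by
    by_contra hlt
    have a : Nat.card Y ≤ m.factorial := by
      rw [cY]
      refine (card_le_card_group _).trans ?_
      rw [Nat.card_perm, Nat.card_fin]
    have b := Nat.le_of_dvd Nat.card_pos hd
    have : m.factorial ≤ 1 := by
      have : m ≤ 1 := by omega
      interval_cases m <;> simp
    omega
  have : Nontrivial (Fin m) := Fin.nontrivial_iff_two_le.2 m2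
  have c2 : 2 * Nat.card Y = m.factorial := by
    rw [cY, two_mul_nat_card_alternatingGroup, Nat.card_perm, Nat.card_fin]
  by_cases h22 : m < 22
  · have := small m _ _ h22 hk c2 (Nat.ordProj_dvd _ 2)
    omega
  have v := padicValNat_factorial_lt_of_ne_zero 2 (n := m) (by omega)
  rw [← Nat.factorization_def _ Nat.prime_two, ← c2, Nat.factorization_mul two_ne_zero c0,
    Finsupp.add_apply, Nat.prime_two.factorization_self] at v
  have f := fact_ge m (by omega)
  have : 2 ^ (3 * (Nat.card Y).factorization 2) ≤ 8 ^ (m - 2) := by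
    rw [pow_mul]
    exact Nat.pow_le_pow_right (by norm_num) (by omega)
  omega

end H78.S6
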