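import Cfsg.Agent.H78.S2W1
import Cfsg.Agent.H78.S2LV
import Cfsg.Agent.H78.S2CT
import Cfsg.Agent.H76.S2B1
import Cfsg.Agent.H1.SP2B2
import Cfsg.Agent.H96.SP2B3
import Cfsg.Agent.H70.S2B4
import Cfsg.Agent.H70.S2B5
import Cfsg.Agent.H17.SP2C1
import Cfsg.Agent.H18.S2C2
import Cfsg.Agent.H35.S2SH
import Cfsg.Agent.H10.S2L1
import Cfsg.Agent.H69.SP2L2
import Cfsg.Agent.H35.S2QX
import Cfsg.Agent.H30.S2UZ
import Cfsg.Agent.H35.S2UM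
import Cfsg.Agent.H69.SP2RU

/-! STD-SP (row S3129), chapter II: the assembly. -/

set_option autoImplicit false

namespace H78.S2

universe u

theorem jobII : H67.SP.JobII.{u} := fun n F _ _ _ _ _ _ G _ _ e t =>
  jobII' H59.S2FX.jobFX H62.SP2FY.jobFY H54.S2.jobA0 w1 H76.S2B1.jobB1 H1.SP2B2.jobB2 H96.SP2.jobB3
    H70.S2B4.jobB4 H70.S2B5.jobB5 H17.SP2C1.jobC1 H18.S2C2.jobC2 H35.S2SH.jobC3 H35.S2SH.jobSH
    H10.S2L.jobL1 H69.SP2.jobL2 H35.S2QX.jobQX H30.S2UZ.jobUZ H35.S2UM.jobUM jobLV jobCT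
    H69.SP2.jobRU n F G e t (base n F) (fc n F)

end H78.S2
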