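import Cfsg.Agent.H20.DGSpec
import Cfsg.Agent.S3620

/-! The alternating case of tower DG. -/

set_option autoImplicit false

namespace H78.DGAL

open Subgroup MulAction Cfsg H98 H20.DG

universe u v

theorem jobAL : JobAL.{u, v} := by
  intro G Ω _ _ _ _ p q Γ h hqp h1 h2 hJ
  classical
  letI := Fintype.ofFinite Ω
  haveI : FaithfulSMul G Ω := ⟨fun {a b} hab => by
    have := h.faith (b⁻¹ * a) fun ω => by rw [mul_smul, hab, inv_smul_smul]
    rw [inv_mul_eq_one] at this
    exact this.symm⟩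
  haveI : Fact p.Prime := ⟨h.pp⟩
  have hq := h.symm.three
  have hp := h.three
  have hall := Cfsg.Agent.S3620.result (G := G) (Ω := Ω)
    (fun N hN hN1 => ⟨fun a b => by
      obtain ⟨g, hg, e⟩ := hqp N hN hN1 a b
      exact ⟨⟨g, hg⟩, e⟩⟩) Γ h1
    (by rw [← Nat.card_eq_fintype_card, h.card]; nlinarith)
    ((H89.transOff_iff _).1 fun a ha b hb => by
      obtain ⟨g, hg, e⟩ := hJ a (not_not.1 ha) b (not_not.1 hb)
      exact ⟨g, hg, e⟩)
  obtain ⟨e⟩ : Nonempty (Ω ≃ Fin (2 * q) × ZMod p) := by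
    apply Finite.card_eq.1
    rw [h.card, Nat.card_prod, Nat.card_zmod, Nat.card_eq_fintype_card, Fintype.card_fin]
    ring
  let τ : Equiv.Perm (Fin (2 * q) × ZMod p) := Equiv.prodCongr (Equiv.refl _) (Equiv.addRight 1)
  have hτ : ∀ (k : ℕ) (x : Fin (2 * q) × ZMod p), (τ ^ k) x = (x.1, x.2 + k) := by
    intro k
    induction k with
    | zero => intro x; simp
    | succ k ih =>
      intro x
      rw [pow_succ', Equiv.Perm.mul_apply, ih]
      simp [τ, add_assoc]
  let σ : Equiv.Perm Ω := e.symm.permCongr τ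
  have hσk : ∀ (k : ℕ) (ω : Ω), (σ ^ k) ω = e.symm ((τ ^ k) (e ω)) := by
    intro k
    induction k with
    | zero => intro ω; simp
    | succ k ih =>
      intro ω
      rw [pow_succ', pow_succ', Equiv.Perm.mul_apply, Equiv.Perm.mul_apply, ih]
      simp [σ]
  have hσp : σ ^ p = 1 := by
    ext ω
    rw [hσk, hτ]
    simp
  have hσm : ∀ ω, σ ω ≠ ω := fun ω hω => by
    have h3 := hσk 1 ω
    rw [pow_one, hω, hτ, Equiv.eq_symm_apply] at h3
    have h4 := congrArg Prod.snd h3
    simp at h4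
  have hs : Equiv.Perm.sign σ = 1 := by
    have h3 := congrArg Equiv.Perm.sign hσp
    rw [map_pow, map_one] at h3
    rcases Int.units_eq_one_or (Equiv.Perm.sign σ) with h4 | h4
    · exact h4
    · rw [h4, (h.pp.odd_of_ne_two h.p2).neg_one_pow] at h3
      exact absurd h3 (by decide)
  obtain ⟨x, hx⟩ := hall σ hs
  have hx1 : ∀ ω, x • ω = σ ω := fun ω => by rw [← hx]; rfl
  obtain ⟨ω0⟩ := h.nonempty
  have hxp : x ^ p = 1 := h.faith _ fun ω => by
    have h3 : MulAction.toPermHom G Ω (x ^ p) = 1 := by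
      rw [map_pow, MulAction.toPermHom_apply, hx, hσp]
    exact congrArg (fun f : Equiv.Perm Ω => f ω) h3
  refine h.nd ⟨x, ?_, fun ω => by rw [hx1]; exact hσm ω⟩
  rw [orderOf_eq_prime hxp fun e1 => hσm ω0 (by rw [← hx1, e1, one_smul])]
  exact h.pp

end H78.DGAL
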