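import Cfsg.Agent.H40.E8FKit

/-! Tower E8F, slots Jac and Val. -/

set_option autoImplicit false

namespace H78.E8F

open Cfsg.Lie H63 H64 H65 H40.E8F Matrix
open MvPolynomial (C idealOfVars aeval monomial)

section Jac

variable {R : Type*} [CommRing R] (m : Ideal R)

/-- `a` and `b` have order at least `e` and the same leading form. -/
def Ld (e : ℕ) (a b : R) : Prop := a ∈ m ^ e ∧ b ∈ m ^ e ∧ a - b ∈ m ^ (e + 1)

variable {m}

theorem Ld.mul {e e' : ℕ} {a b a' b' : R} (h : Ld m e a b) (h' : Ld m e' a' b') :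
    Ld m (e + e') (a * a') (b * b') := by
  refine ⟨pow_add m e e' ▸ Ideal.mul_mem_mul h.1 h'.1, pow_add m e e' ▸ Ideal.mul_mem_mul h.2.1 h'.2.1, ?_⟩
  rw [show a * a' - b * b' = (a - b) * a' + b * (a' - b') by ring]
  refine add_mem ?_ ?_
  · rw [add_right_comm, pow_add]; exact Ideal.mul_mem_mul h.2.2 h'.1
  · rw [add_assoc, pow_add]; exact Ideal.mul_mem_mul h.2.1 h'.2.2

theorem ld_zero (a : R) : Ld m 0 a a := by simp [Ld]

theorem Ld.pow {a b : R} (h : Ld m 1 a b) (n : ℕ) : Ld m n (a ^ n) (b ^ n) := by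
  induction n with
  | zero => simpa using ld_zero 1
  | succ n ih => rw [pow_succ, pow_succ]; exact ih.mul h

end Jac

theorem jobJac : JobJac := by
  intro k _ σ _ _ c y hc hy
  let m := idealOfVars σ k
  let z : σ → MvPolynomial σ k := fun j => C (c j) * MvPolynomial.X j
  have h1 : ∀ j, Ld m 1 (y j) (z j) := fun j => by
    have : z j ∈ m ^ 1 := by rw [pow_one]; exact m.mul_mem_left _ (Ideal.subset_span ⟨j, rfl⟩)
    exact ⟨by simpa [z] using add_mem (Ideal.pow_le_pow_right one_le_two (hy j)) this, this, hy j⟩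
  have h2 : ∀ (s : σ →₀ ℕ) (S : Finset σ), Ld m (∑ j ∈ S, s j) (∏ j ∈ S, y j ^ s j) (∏ j ∈ S, z j ^ s j) := by
    intro s S
    induction S using Finset.induction_on with
    | empty => simpa using ld_zero 1
    | insert a S ha ih =>
      rw [Finset.sum_insert ha, Finset.prod_insert ha, Finset.prod_insert ha]
      exact ((h1 a).pow _).mul ih
  have h3 : ∀ (s : σ →₀ ℕ) a, aeval z (monomial s a) = monomial s (a * s.prod fun j n => c j ^ n) :=
    fun s a => by
      rw [MvPolynomial.aeval_monomial, MvPolynomial.monomial_eq]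
      simp [z, Finsupp.prod, mul_pow, Finset.prod_mul_distrib, mul_assoc]
  refine (injective_iff_map_eq_zero _).2 fun f hf => ?_
  by_contra h0
  obtain ⟨s, s1, s2⟩ := f.support.exists_min_image Finsupp.degree (MvPolynomial.support_nonempty.2 h0)
  have h4 : aeval y f - aeval z f ∈ m ^ (Finsupp.degree s + 1) := by
    rw [f.as_sum, map_sum, map_sum, ← Finset.sum_sub_distrib]
    refine sum_mem fun t ht => Ideal.pow_le_pow_right (Nat.succ_le_succ (s2 t ht)) ?_
    rw [MvPolynomial.aeval_monomial, MvPolynomial.aeval_monomial, ← mul_sub]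
    exact Ideal.mul_mem_left _ _ (h2 t t.support).2.2
  rw [hf, zero_sub, neg_mem_iff, MvPolynomial.mem_pow_idealOfVars_iff'] at h4
  have h5 := h4 s (Nat.lt_succ_self _)
  rw [f.as_sum, map_sum, MvPolynomial.coeff_sum, Finset.sum_eq_single s (fun t _ e => by
    rw [h3, MvPolynomial.coeff_monomial, if_neg e]) (fun e => absurd s1 e), h3,
    MvPolynomial.coeff_monomial, if_pos rfl] at h5
  exact mul_ne_zero (MvPolynomial.mem_support_iff.1 s1)
    (Finset.prod_ne_zero_iff.2 fun j _ => pow_ne_zero _ (hc j)) h5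

variable {D : ChevalleyDatum} [RS D] [Tab D]

theorem exists_W {F : Type} [Field F] (w : List (ℕ × F)) :
    ∃ g ∈ D.group F, (g : Matrix D.Idx D.Idx F) = W D F w := by
  induction w with
  | nil => exact ⟨1, one_mem _, rfl⟩
  | cons p w ih =>
    obtain ⟨g, hg, e⟩ := ih
    exact ⟨xU D F p.1 p.2 * g, mul_mem (xU_mem_group _ _) hg, by rw [Units.val_mul, e, W_cons]; rfl⟩

theorem letter {R : Type} [CommRing R] {m : Ideal R} {h v : D.Idx → R} (hh : InH h)
    (hv : ∀ j, v j - h j ∈ m) (r : Rt D) {t : R} (ht : t ∈ m) (j : D.Idx) :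
    (X D R r t *ᵥ v) j - v j + (if j = Sum.inr r then t * rv h r else 0) ∈ m ^ 2 := by
  have h1 : ∀ i j, (X D R r t - 1) i j ∈ m := fun i j => Ideal.Quotient.eq.1 (by
    have := X_map (D := D) (Ideal.Quotient.mk m) r t
    rw [Ideal.Quotient.eq_zero_iff_mem.2 ht, X_zero] at this
    exact (congrFun (congrFun this i) j).trans (congrFun (congrFun
      (Matrix.map_one (Ideal.Quotient.mk m) (map_zero _) (map_one _)) i) j).symm)
  have h2 : ((X D R r t - 1) *ᵥ (v - h)) j ∈ m ^ 2 := by
    rw [mulVec, dotProduct, sq]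
    exact sum_mem fun i _ => Ideal.mul_mem_mul (h1 j i) (hv i)
  convert h2 using 1
  rw [sub_mulVec, mulVec_sub, X_inH hh, one_mulVec]
  simp [Pi.single_apply]
  ring

theorem jobVal : JobVal := by
  classical
  intro D _ _ k _ h hh hr x
  let R := MvPolynomial D.Idx k
  let m := idealOfVars D.Idx k
  have hX : ∀ j, MvPolynomial.X j ∈ m := fun j => Ideal.subset_span ⟨j, rfl⟩
  let ng : D.Idx → Prop := fun j => ∃ r : Rt D, j = Sum.inr r ∧ ¬ Pos r
  let b : D.Idx → R := fun j => if ng j then 0 else C (h j) + MvPolynomial.X j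
  let w : List (Rt D) → List (ℕ × R) := List.map fun r => (r, MvPolynomial.X (Sum.inr r))
  have h0 : ∀ j, ng j → h j = 0 := by rintro _ ⟨r, rfl, -⟩; exact hh r
  have h1 : ∀ L : List (Rt D), L.Nodup → ∀ j, (W D R (w L) *ᵥ b) j - b j +
      Sum.elim (fun _ => 0) (fun r => if r ∈ L then C (rv h r) else 0) j * MvPolynomial.X j ∈ m ^ 2 := by
    intro L hL
    induction L with
    | nil => rintro (i | r) <;> simp [w]
    | cons r L ih =>
      have h2 := ih hL.of_cons
      intro j
      have h3 := letter (m := m) (h := fun j => C (h j)) (v := W D R (w L) *ᵥ b)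
        (fun r => by simp [hh r]) (fun j => by
          have h4 : b j - C (h j) ∈ m := by
            by_cases e : ng j
            · simp [b, e, h0 j e]
            · simpa [b, e] using hX j
          have := sub_mem (add_mem (Ideal.pow_le_self two_ne_zero (h2 j)) h4)
            (m.mul_mem_left (Sum.elim (fun _ => 0) (fun r => if r ∈ L then C (rv h r) else 0) j) (hX j))
          convert this using 1
          ring) r (hX (Sum.inr r)) j
      have h5 : rv (fun j => (C (h j) : R)) r = C (rv h r) := by simp [rv]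
      convert add_mem h3 (h2 j) using 1
      rw [show w (r :: L) = ((r : ℕ), MvPolynomial.X (Sum.inr r)) :: w L from rfl, W_cons, ← mulVec_mulVec, h5]
      rcases j with i | s
      · simp [R]
      · by_cases e : s = r
        · subst e
          simp [(List.nodup_cons.1 hL).1, mul_comm]
          ring
        · simp [e]
          ring
  let L := (Finset.univ.filter fun r : Rt D => ¬ Pos r).toList
  let y := W D R (w L) *ᵥ b
  have h2 := jobJac k D.Idx (Sum.elim (fun _ => 1) fun r => if Pos r then 1 else - rv h r)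
    (fun j => y j - C (h j)) (by
      rintro (i | r)
      · simp
      · by_cases e : Pos r <;> simp [e, hr r]) fun j => by
      convert h1 L (Finset.nodup_toList _) j using 1
      rcases j with i | r
      · simp [b, ng, y]; ring
      · by_cases e : Pos r
        · simp [b, ng, y, L, e]; ring
        · simp [b, ng, y, L, e, hh r]
  let Ω := FractionRing R
  let ψ : R →+* Ω := (algebraMap R Ω).comp (aeval fun j => y j - C (h j)).toRingHom
  have h3 : Function.Injective ψ := (IsFractionRing.injective R Ω).comp h2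
  let e := RingEquiv.ofBijective ψ.rangeRestrict
    ⟨fun _ _ e => h3 (congrArg Subtype.val e), ψ.rangeRestrict_surjective⟩
  let ev : ψ.range →+* k := (aeval fun j => x j - h j).toRingHom.comp e.symm.toRingHom
  obtain ⟨O, o1, o2⟩ := Ideal.image_subset_nonunits_valuationSubring (RingHom.ker ev) (RingHom.ker_ne_top ev)
  have h4 : ∀ i, ψ (MvPolynomial.X i + C (h i)) = algebraMap R Ω (y i) := fun i => by simp [ψ, R]
  refine ⟨Ω, _, O, (ψ.comp C).codRestrict O.toSubring fun a => o1 ⟨_, rfl⟩,
    fun i => ⟨algebraMap R Ω (y i), o1 ⟨_, h4 i⟩⟩, ?_, fun i => ?_⟩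
  · obtain ⟨g, g1, g2⟩ := exists_W (D := D) ((w L).map fun p => (p.1, algebraMap R Ω p.2))
    refine ⟨g⁻¹, inv_mem g1, fun r hr => ?_⟩
    have : (fun i => algebraMap R Ω (y i)) = act g (algebraMap R Ω ∘ b) := by
      rw [act, g2, ← W_map, ← comp_mulVec]; rfl
    rw [this, act_inv_act]
    simp [b, ng, hr]
  · refine O.coe_mem_nonunits_iff.1 (o2 ⟨e (MvPolynomial.X i + C (h i) - C (x i)), ?_, ?_⟩)
    · show ev _ = 0
      simp [ev]
    · show ψ _ = algebraMap R Ω (y i) - ψ (C (x i))
      rw [map_sub, h4]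

end H78.E8F
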