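import Cfsg.Agent.H78.F22Kit

/-! Chapter F22 of `blueprints/PS3B.md`: the frame `c`, `r` seen from a conjugate of `z`. -/

set_option autoImplicit false
set_option linter.unusedSectionVars false
set_option maxRecDepth 100000
set_option synthInstance.maxSize 2048

open Cfsg Subgroup H98 H42.L3 H7.PS H39.F22
open H56.L3 (Ce Nz)
open H28.PS (SL3 Zt)
open H84.PS (V2)
open scoped Matrix

namespace H78.F22

theorem s3_a : ∀ σ ρ : Equiv.Perm (Fin 3), σ ^ 3 = 1 → σ ≠ 1 →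
    (ρ * ρ = 1 → ρ * σ = σ * ρ → ρ = 1) ∧ (∀ i j, i = j ∨ i = σ j ∨ i = σ (σ j)) ∧
    ∀ τ : Equiv.Perm (Fin 3), τ ^ 3 = 1 → ρ * σ * ρ⁻¹ = σ⁻¹ → ρ * τ = τ * ρ → τ = 1 := by
  decide +kernel

theorem f3 : ∀ j : Fin 3, j = 0 ∨ j = 1 ∨ j = 2 := by decide

theorem z3 : ∀ n : ZMod 3, n = 0 ∨ n = 1 ∨ n = -1 := by decide

theorem fixl : ∀ (A : SL3), A ^ 4 ≠ 1 → ∃ u : V2, ∀ v : V2, A.1 *ᵥ v = v → ∃ k : ZMod 3, v = k • u := by
  decide +kernel

theorem row (A : SL3) (v : Fin 3 → V2) (e : A ^ 4 ≠ 1) (f : ∀ i, A.1 *ᵥ v i = v i)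
    (n : ∀ a : Fin 3 → ZMod 3, (∀ i, a i ≠ 0) → a 0 • v 0 + a 1 • v 1 + a 2 • v 2 ≠ 0) (i j : Fin 3)
    (ni : v i ≠ 0) (nj : v j ≠ 0) : i = j := by
  obtain ⟨u, hu⟩ := fixl A e
  choose k hk using fun i => hu _ (f i)
  refine (by decide +kernel : ∀ k : Fin 3 → ZMod 3, (∀ a : Fin 3 → ZMod 3, (∀ i, a i ≠ 0) →
    a 0 * k 0 + a 1 * k 1 + a 2 * k 2 ≠ 0) → ∀ i j, k i ≠ 0 → k j ≠ 0 → i = j) k (fun a ha e => n a ha ?_)
    i j (fun e => ni (by rw [hk, e, zero_smul])) fun e => nj (by rw [hk, e, zero_smul])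
  rw [hk, hk 1, hk 2, smul_smul, smul_smul, smul_smul, ← add_smul, ← add_smul, e, zero_smul]

variable {G : Type*} [Group G] {D D' : D3 G} {a b g k p r s t u v x y : G} {i j : Fin 3}
  {c ρ : Fin 3 → G} {α β : Fin 3 → ZMod 3}

/-- the monomial in the `c i` -/
def cc (c : Fin 3 → G) (α : Fin 3 → ZMod 3) : G := zp (c 0) (α 0) * zp (c 1) (α 1) * zp (c 2) (α 2)

theorem zp_mem' {X : Subgroup G} (hx : x ∈ X) (n : ZMod 3) : zp x n ∈ X := pow_mem hx _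

theorem cc_mem {X : Subgroup G} (hc : ∀ i, c i ∈ X) : cc c α ∈ X :=
  mul_mem (mul_mem (zp_mem' (hc 0) _) (zp_mem' (hc 1) _)) (zp_mem' (hc 2) _)

theorem zp_add' (e : x ^ 3 = 1) (n l : ZMod 3) : zp x (n + l) = zp x n * zp x l := by
  rw [zp, ZMod.val_add, ← pow_eq_pow_mod _ e, pow_add]; rfl

theorem zp_cj (g x : G) (n : ZMod 3) : g * zp x n * g⁻¹ = zp (g * x * g⁻¹) n := conj_pow.symm

theorem cc_zero : cc c 0 = 1 := by simp [cc, zp_zero]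

theorem cc_single (i : Fin 3) : cc c (Pi.single i 1) = c i := by
  fin_cases i <;> simp [cc, zp_zero, zp_one]

theorem sq_mem {X : Subgroup G} (e : x ^ 3 = 1) (hx : x * x ∈ X) : x ∈ X := by
  have := mul_mem hx hx
  rwa [← mul_assoc, ← pow_three', e, one_mul] at this

theorem zp_of {X : Subgroup G} (e : x ^ 3 = 1) {n : ZMod 3} (hx : zp x n ∈ X) (m : x ∉ X) : n = 0 := by
  rcases (by decide : ∀ n : ZMod 3, n = 0 ∨ n = 1 ∨ n = 1 + 1) n with rfl | rfl | rfl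
  · rfl
  · exact (m (zp_one (z := x) ▸ hx)).elim
  · rw [zp_add' e, zp_one] at hx
    exact (m (sq_mem e hx)).elim

theorem zpow_inf (ho : orderOf y = 3) {X : Subgroup G} (m : y ∉ X) (ha : a ∈ zpowers y) (hx : a ∈ X) :
    a = 1 := by
  obtain ⟨n, rfl⟩ := exists_zp ho ha
  rw [zp_of (z_cube ho) hx m, zp_zero]

/-- the frame -/
structure Fr (D : D3 G) (c ρ : Fin 3 → G) : Prop where
  ty : ∀ i, Ty D i (ρ i)
  cQ : ∀ i, c i ∈ D.Q i
  cz : ∀ i, c i ∉ zpowers D.z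
  rcr : ∀ i, ρ i * c i * (ρ i)⁻¹ = (c i)⁻¹
  zt : ∀ α : Fin 3 → ZMod 3, (∀ i, α i ≠ 0) → Zt D.z (cc c α)

variable [Finite G]

section

variable (h : H3 D)
include h

theorem Zt_ne (e : Zt D.z y) : y ≠ 1 := by
  rintro rfl
  have : D.z = 1 := by obtain ⟨g, e | e⟩ := e <;> simpa using e
  simpa [this] using h.ord

theorem Zt_cube (e : Zt D.z y) : y ^ 3 = 1 := by
  obtain ⟨g, e | e⟩ := e
  · rw [← e, conj_pow, z_cube h.ord, mul_one, mul_inv_cancel]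
  · rw [← inv_eq_one, ← inv_pow, ← e, conj_pow, z_cube h.ord, mul_one, mul_inv_cancel]

theorem L_cc (hc : ∀ i, c i ∈ D.QQ) (j : Fin 3) :
    L D j (cc c α) = α 0 • L D j (c 0) + α 1 • L D j (c 1) + α 2 • L D j (c 2) := by
  rw [cc, L_mul h (mul_mem (zp_mem' (hc 0) _) (zp_mem' (hc 1) _)) (zp_mem' (hc 2) _),
    L_mul h (zp_mem' (hc 0) _) (zp_mem' (hc 1) _), L_zp h (hc 0), L_zp h (hc 1), L_zp h (hc 2)]

theorem L_cc' {τ : Equiv.Perm (Fin 3)} (hc : ∀ i, c i ∈ D.Q (τ i)) (hu : u ∈ zpowers D.z) (j : Fin 3) :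
    L D (τ j) (u * cc c α) = α j • D.l (τ j) (c j) := by
  have h1 : ∀ i, i ≠ j → L D (τ j) (c i) = 0 := fun i e => L_cn h (h.QQ _ _ (τ.injective.ne e) (hc i))
  have h2 := fun i => Qle _ (hc i)
  rw [L_mul h (zQ h hu) (cc_mem h2), L_cn h (z_cn h hu _), zero_add, L_cc h h2, ← L_Q h (hc j)]
  rcases f3 j with rfl | rfl | rfl
  · simp [h1 1 (by decide), h1 2 (by decide)]
  · simp [h1 0 (by decide), h1 2 (by decide)]
  · simp [h1 0 (by decide), h1 1 (by decide)]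

theorem cc_z {τ : Equiv.Perm (Fin 3)} (hc : ∀ i, c i ∈ D.Q (τ i)) (n : ∀ i, c i ∉ zpowers D.z)
    (hu : u ∈ zpowers D.z) (e : u * cc c α ∈ zpowers D.z) : α = 0 := funext fun j =>
  (smul_eq_zero.1 ((L_cc' h hc hu j).symm.trans (L_cn h (z_cn h e _)))).resolve_right
    (H84.PS.lne (co h _) (hc j) (n j))

theorem Z0 (w : HW D) {τ : Equiv.Perm (Fin 3)} (hc : ∀ i, c i ∈ D.Q (τ i))
    (n : ∀ i, c i ∉ zpowers D.z) (hu : u ∈ zpowers D.z) (e : Zt D.z (u * cc c α)) (e0 : α i = 0) :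
    α = 0 := by
  have hQ := mul_mem (zQ h hu) (cc_mem (α := α) fun i => Qle _ (hc i))
  refine (w.wt _ hQ e).elim (cc_z h hc n hu) fun e1 => (e1 (τ i) (L_zero h hQ ?_)).elim
  rw [L_cc' h hc hu, e0, zero_smul]

theorem sg3 (hv : v ∈ Ce D.z) (e : v ^ 3 = 1) : sg D v ^ 3 = 1 := by
  rw [← sg_pow h (CeN hv), e, sg_B h (one_mem _)]

theorem sg_comm (ha : a ∈ Ce D.z) (hb : b ∈ Ce D.z) (e : a ∈ Ce b) :
    sg D a * sg D b = sg D b * sg D a := by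
  rw [← sg_mul h (CeN ha) (CeN hb), mem_Ce.1 e, sg_mul h (CeN hb) (CeN ha)]

theorem cycB (hv : v ∈ Ce D.z) (v3 : v ^ 3 = 1) (n : v ∉ D.B) (hr : r ∈ Ce D.z) (e : r * r = 1)
    (e' : r ∈ Ce v) : r ∈ D.B :=
  B_of h hr ((s3_a _ _ (sg3 h hv v3) (mt (B_of h hv) n)).1
    (by rw [← sg_mul h (CeN hr) (CeN hr), e, sg_B h (one_mem _)]) (sg_comm h hr hv e'))

theorem cycL (hv : v ∈ Ce D.z) (v3 : v ^ 3 = 1) (n : v ∉ D.B) (ha : v ∈ Ce a) (e : a ∈ cn (D.Q j)) :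
    a ∈ zpowers D.z := cnQ h fun i => by
  have h1 : ∀ j, a ∈ cn (D.Q j) → a ∈ cn (D.Q (sg D v j)) := fun j e =>
    mem_Ce'.1 ha ▸ sg_cn h (CeN hv) e
  rcases (s3_a _ 1 (sg3 h hv v3) (mt (B_of h hv) n)).2.1 i j with rfl | rfl | rfl
  exacts [e, h1 _ e, h1 _ (h1 _ e)]

theorem realQ (hr : r ∈ D.B) (ha : a ∈ D.B) (a3 : a ^ 3 = 1) (e : r * a * r⁻¹ = a⁻¹) : a ∈ D.QQ :=
  h.ker a ha fun i => sl_real _ (D.m i r) (m3 h ha a3 i) (by rw [← m_conj h hr ha, e, m_inv h ha])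

theorem m_sq (hr : r ∈ D.B) (e : r * r = 1) (j : Fin 3) : D.m j r = 1 ∨ D.m j r = -1 :=
  sl_sq _ (by rw [← m_mul h hr hr, e, (co h j).m_one])

theorem sgn_neg (hr : r ∈ D.B) (e : r * r = 1) (ha : a ∈ D.QQ) (e' : r * a * r⁻¹ = a⁻¹)
    (n : a ∉ cn (D.Q j)) : D.m j r = -1 := (m_sq h hr e j).resolve_left fun e1 => n (L_zero h ha (v_neg _
  (by rw [← L_inv h ha, ← e', L_conj h hr ha, e1]; simp)))

theorem sgn_one (hr : r ∈ D.B) (e : r * r = 1) (ha : a ∈ D.QQ) (e' : r ∈ Ce a)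
    (n : a ∉ cn (D.Q j)) : D.m j r = 1 := (m_sq h hr e j).resolve_right fun e1 => n (L_zero h ha (v_neg _
  (by rw [← neg_vec, ← e1, ← L_conj h hr ha, mem_Ce'.1 e'])))

end

theorem Fr.rc (h : H3 D) (f : Fr D c ρ) (e : i ≠ j) : ρ i ∈ Ce (c j) :=
  mem_Ce.2 ((f.ty i).cn h e.symm _ (f.cQ j)).symm

theorem Fr.cc (h : H3 D) (f : Fr D c ρ) (i j : Fin 3) : c i ∈ Ce (c j) := by
  by_cases e : i = j
  exacts [mem_Ce.2 (by rw [e]), mem_Ce.2 (QQc h e (f.cQ i) (f.cQ j))]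

theorem Fr.c3 (h : H3 D) (f : Fr D c ρ) (i : Fin 3) : c i ^ 3 = 1 := (h.sd i).cube _ (f.cQ i)

/-- the frame seen from a conjugate `D'.z` of `z` outside `Q` -/
theorem key (h : H3 D) (h' : H3 D') (w' : HW D') (f : Fr D c ρ) (zt : ∀ y, Zt D.z y → Zt D'.z y)
    (n : D'.z ∉ D.QQ) (n' : D.z ∉ D'.QQ) (hz : D.z ∈ Ce D'.z) (hc : ∀ i, c i ∈ Ce D'.z)
    (hr : ∀ i, ρ i ∈ Ce D'.z) : D.z ∈ D'.B ∧ ∃ τ : Equiv.Perm (Fin 3),
      ∀ i, c i ∈ D'.Q (τ i) ∧ c i ∉ zpowers D'.z ∧ Ty D' (τ i) (ρ i) := by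
  have c3 := f.c3 h
  have cz : ∀ i, c i ∈ Ce D.z := fun i => (co h i).le_Ce (f.cQ i)
  have np : ∀ i, c i ∉ zpowers D'.z := fun i e =>
    f.cz i (zpow_inf h'.ord n e (Qle i (f.cQ i)) ▸ one_mem _)
  have X : ∀ v ∈ Ce D'.z, v ^ 3 = 1 → ∀ i j, i ≠ j → (∀ l, l = i ∨ l = j → ρ l ∈ Ce v ∧ v ∈ Ce (c l) ∧
      c l ∈ D'.B) → v ∈ D'.B := fun v hv v3 i j e H => by_contra fun nv => by
    have h1 := fun l e => cycB h' hv v3 nv (hr l) (f.ty l).sq (H l e).1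
    have h2 := fun l e => realQ h' (h1 l e) (H l e).2.2 (c3 l) (f.rcr l)
    have h3 : ∀ l, l = i ∨ l = j → c l ∉ cn (D'.Q 0) := fun l e e1 =>
      np l (cycL h' hv v3 nv (H l e).2.1 e1)
    exact neg_ne ((sgn_neg h' (h1 i (.inl rfl)) (f.ty i).sq (h2 i (.inl rfl)) (f.rcr i)
      (h3 i (.inl rfl))).symm.trans (sgn_one h' (h1 i (.inl rfl)) (f.ty i).sq (h2 j (.inr rfl))
      (f.rc h e) (h3 j (.inr rfl))))
  have cB : ∀ i, c i ∈ D'.B := fun i => by_contra fun nv => by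
    obtain ⟨j, l, e1, e2, e3⟩ := (by decide : ∀ i : Fin 3, ∃ j l, j ≠ i ∧ l ≠ i ∧ j ≠ l) i
    have H : ∀ l, l ≠ i → ρ l ∈ Ce (c i) ∧ c i ∈ Ce (c l) ∧ c l ∈ D'.B := fun l e =>
      ⟨f.rc h e, f.cc h i l, B_of h' (hc l) ((s3_a _ (sg D' (ρ i)) (sg3 h' (hc i) (c3 i))
        (mt (B_of h' (hc i)) nv)).2.2 _ (sg3 h' (hc l) (c3 l)) (by
          rw [← sg_inv h' (CeN (hr i)), ← sg_mul h' (CeN (hr i)) (CeN (hc i)), ← sg_mul h'
            (CeN (mul_mem (hr i) (hc i))) (CeN (inv_mem (hr i))), f.rcr, sg_inv h' (CeN (hc i))])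
        (sg_comm h' (hr i) (hc l) (f.rc h e.symm)))⟩
    exact nv (X _ (hc i) (c3 i) j l e3 (by rintro _ (rfl | rfl); exacts [H _ e1, H _ e2]))
  have zB : D.z ∈ D'.B := X _ hz (z_cube h.ord) 0 1 (by decide) fun l _ =>
    ⟨Bz (f.ty l).B, Ce_symm (cz l), cB l⟩
  obtain ⟨m4, bs⟩ := w'.bs _ zB fun e => n' (P_Q h' e (z_cube h.ord))
  have cQ : ∀ i, c i ∈ D'.QQ := fun i => by
    obtain ⟨l, e⟩ := bs _ (cB i)
    have h1 : Commute (c i) (D.z ^ l) := (show Commute _ _ from mem_Ce.1 (cz i)).pow_right l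
    have h2 := P_Q h' e (by rw [h1.mul_pow, c3, ← pow_mul, mul_comm, pow_mul, z_cube h.ord]; simp)
    have h3 := conj_mem_of_mem_normalizer (HQ h' (hr i)) h2
    rw [← conj_mul, f.rcr, ← conj_pow, mem_Ce'.1 (Bz (f.ty i).B)] at h3
    exact sq_mem (c3 i) (by simpa [mul_assoc] using mul_mem h2 (inv_mem h3))
  have col : ∀ i, ∃ j, c i ∉ cn (D'.Q j) := fun i => not_forall.1 (mt (cnQ h') (np i))
  choose τ hτ using col
  have rw : ∀ j i l, c i ∉ cn (D'.Q j) → c l ∉ cn (D'.Q j) → i = l := fun j i l e1 e2 =>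
    row (D'.m j D.z) (fun i => L D' j (c i)) (m4 j)
      (fun i => by rw [← L_conj h' zB (cQ i), mem_Ce'.1 (Ce_symm (cz i))])
      (fun α e e0 => by
        have h1 := f.zt α e
        refine (w'.wt _ (cc_mem cQ) (zt _ h1)).elim (fun e1 => Zt_ne h h1 (zpow_inf h'.ord n e1
          (cc_mem fun i => Qle i (f.cQ i)))) fun e1 => e1 j (L_zero h' (cc_mem cQ) ?_)
        rw [L_cc h' cQ, e0])
      i l (mt (L_zero h' (cQ i)) e1) (mt (L_zero h' (cQ l)) e2)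
  have inj : Function.Injective τ := fun i l e => rw _ i l (hτ i) (e ▸ hτ l)
  have sur := Finite.injective_iff_surjective.1 inj
  have ci : ∀ i, c i ∈ D'.Q (τ i) := fun i => memQi h' (cQ i) fun j e => by_contra fun e1 => by
    obtain ⟨l, rfl⟩ := sur j
    exact e (rw _ i l e1 (hτ l) ▸ rfl)
  have rB : ∀ i, ρ i ∈ D'.B := fun i => B_of h' (hr i) (Equiv.ext fun j => by
    obtain ⟨l, rfl⟩ := sur j
    refine sg_eq h' (CeN (hr i)) (ci l) (np l) ?_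
    by_cases e : i = l
    · rw [← e, f.rcr]; exact inv_mem (ci i)
    · rw [mem_Ce'.1 (f.rc h e)]; exact ci l)
  refine ⟨zB, Equiv.ofBijective τ ⟨inj, sur⟩, fun i => ⟨ci i, np i, rB i, (f.ty i).sq,
    sgn_neg h' (rB i) (f.ty i).sq (cQ i) (f.rcr i) (hτ i), fun j e => ?_⟩⟩
  obtain ⟨l, rfl⟩ := sur j
  exact sgn_one h' (rB i) (f.ty i).sq (cQ l) (f.rc h fun e1 => e (e1 ▸ rfl)) (hτ l)

/-- `key` for the conjugate data -/
theorem key' (h : H3 D) (v : HV D) (f : Fr D c ρ) (e : k * D.z * k⁻¹ = p) (n : p ∉ D.QQ)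
    (hz : D.z ∈ Ce p) (hc : ∀ i, c i ∈ Ce p) (hr : ∀ i, ρ i ∈ Ce p) :
    D.z ∉ (dc D k).QQ ∧ D.z ∈ (dc D k).B ∧ ∃ τ : Equiv.Perm (Fin 3),
      ∀ i, c i ∈ (dc D k).Q (τ i) ∧ c i ∉ zpowers p ∧ Ty (dc D k) (τ i) (ρ i) := by
  subst e
  have n' : D.z ∉ (dc D k).QQ := fun e => n (by
    rw [dc_QQ, mem_cj] at e
    simpa using v.sym k⁻¹ (by simpa using e))
  exact ⟨n', key h (H3.dc h k) ((hw_of h v).dc k) f (fun _ => dc_Zt.2) n n' hz hc hr⟩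

/-! ### Coordinates on `J` -/

omit [Finite G] in
/-- a `3`-element that commutes with the `c i` -/
structure Tf (D : D3 G) (t : G) (c : Fin 3 → G) : Prop where
  cQ : ∀ i, c i ∈ D.Q i
  tz : t ∈ Ce D.z
  t3 : t ^ 3 = 1
  tc : ∀ i, t * c i = c i * t

omit [Finite G] in
theorem el_eq (a b : ZMod 3) : el D.z t c a b α = zp t a * zp D.z b * cc c α := rfl

omit [Finite G] in
theorem el_mem {X : Subgroup G} (ht : t ∈ X) (hz : D.z ∈ X) (hc : ∀ i, c i ∈ X) (a b : ZMod 3) :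
    el D.z t c a b α ∈ X := mul_mem (mul_mem (zp_mem' ht _) (zp_mem' hz _)) (cc_mem hc)

omit [Finite G] in
theorem el_zero : el D.z t c 0 0 0 = 1 := by simp [el_eq, zp_zero, cc_zero]

section

variable (h : H3 D) (f : Tf D t c)
include h f

theorem cc_add : cc c (α + β) = cc c α * cc c β := by
  have h1 : ∀ i j n l, i ≠ j → Commute (zp (c i) n) (zp (c j) l) := fun i j n l e =>
    QQc h e (zp_mem' (f.cQ i) n) (zp_mem' (f.cQ j) l)
  have h2 := fun i => zp_add' ((h.sd i).cube _ (f.cQ i))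
  simp only [cc, Pi.add_apply, h2]
  rw [((h1 2 0 _ _ (by decide)).mul_right (h1 2 1 _ _ (by decide))).mul_mul_mul_comm,
    (h1 1 0 _ _ (by decide)).mul_mul_mul_comm]

theorem el_add (a b a' b' : ZMod 3) :
    el D.z t c (a + a') (b + b') (α + β) = el D.z t c a b α * el D.z t c a' b' β := by
  have h1 : Commute (cc c α) t := mem_Ce.1 (cc_mem fun i => mem_Ce.2 (f.tc i).symm)
  have h2 : Commute (cc c α) D.z := mem_Ce.1 (cc_mem fun i => (co h i).le_Ce (f.cQ i))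
  have h3 : Commute D.z t := (mem_Ce.1 f.tz).symm
  have h4 : Commute (cc c α) (zp t a' * zp D.z b') := (h1.pow_right _).mul_right (h2.pow_right _)
  have h5 : Commute (zp D.z b) (zp t a') := h3.pow_pow _ _
  rw [el_eq, el_eq, el_eq, h4.mul_mul_mul_comm, h5.mul_mul_mul_comm, cc_add h f, zp_add' f.t3,
    zp_add h.ord]

theorem el_neg (a b : ZMod 3) : el D.z t c (-a) (-b) (-α) = (el D.z t c a b α)⁻¹ := by
  rw [eq_inv_iff_mul_eq_one, ← el_add h f, neg_add_cancel, neg_add_cancel, neg_add_cancel, el_zero]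

theorem el_zp (a b n : ZMod 3) : zp (el D.z t c a b α) n = el D.z t c (n * a) (n * b) (n • α) := by
  rcases (by decide : ∀ n : ZMod 3, n = 0 ∨ n = 1 ∨ n = 1 + 1) n with rfl | rfl | rfl
  · simp [zp_zero, el_zero]
  · simp [zp_one]
  · rw [add_mul, add_mul, add_smul, el_add h f, one_mul, one_mul, one_smul]
    exact pow_two _

theorem xel {e : ZMod 3} (hx : x ∈ D.Q i) (xt : x * t * x⁻¹ = t * c i * zp D.z (-e))
    (xc : x * c i * x⁻¹ = c i * zp D.z e) (a b : ZMod 3) : x * el D.z t c a b α * x⁻¹ =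
      el D.z t c a (b - e * a + e * α i) (α + a • Pi.single i 1) := by
  have zc := fun j => zp_comm ((co h j).le_Ce (f.cQ j))
  have h1 : x * t * x⁻¹ = el D.z t c 1 (-e) (Pi.single i 1) := by
    rw [xt, el_eq, cc_single, zp_one, mul_assoc, zc, mul_assoc]
  have h2 : x * D.z * x⁻¹ = el D.z t c 0 1 0 := by
    rw [mem_Ce'.1 ((co h i).le_Ce hx), el_eq, cc_zero, zp_zero, zp_one, one_mul, mul_one]
  have h3 : ∀ j, x * c j * x⁻¹ = el D.z t c 0 (if j = i then e else 0) (Pi.single j 1) := fun j => by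
    rw [el_eq, cc_single, zp_zero, one_mul]
    split_ifs with e1
    · rw [e1, xc, zc]
    · rw [zp_zero, one_mul, ← QQc h e1 (f.cQ j) hx, mul_inv_cancel_right]
  calc _ = zp (x * t * x⁻¹) a * zp (x * D.z * x⁻¹) b * (zp (x * c 0 * x⁻¹) (α 0) *
        zp (x * c 1 * x⁻¹) (α 1) * zp (x * c 2 * x⁻¹) (α 2)) := by
        simp only [← zp_cj, el_eq, cc]; group
    _ = _ := by
        rw [h1, h2, h3, h3, h3]
        simp only [el_zp h f, ← el_add h f]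
        congr 1
        · ring
        · rcases f3 i with rfl | rfl | rfl <;> simp <;> ring
        · funext j
          rcases f3 j with rfl | rfl | rfl <;> simp [add_comm]

theorem orb {ε : ZMod 3} {x : Fin 3 → G} (hx : ∀ i, x i ∈ D.Q i)
    (xt : ∀ i, x i * t * (x i)⁻¹ = t * c i * zp D.z (-ε))
    (xc : ∀ i, x i * c i * (x i)⁻¹ = c i * zp D.z ε) {X : Subgroup G} {a : ZMod 3} (ha : a ≠ 0)
    (b : ZMod 3) (hX : ∀ i, α i ≠ 0 → x i ∈ X) : ∃ k ∈ X, k * el D.z t c a b α * k⁻¹ =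
      el D.z t c a (b + ε * a * (α 0 * α 0 + α 1 * α 1 + α 2 * α 2)) 0 := by
  have h1 : ∀ i b (α : Fin 3 → ZMod 3), (α i ≠ 0 → x i ∈ X) → ∃ k ∈ X, k * el D.z t c a b α * k⁻¹ =
      el D.z t c a (b + ε * a * (α i * α i)) (Function.update α i 0) := fun i b α hX => by
    have h2 := fun α => xel (α := α) h f (hx i) (xt i) (xc i) a
    have h3 : ∀ n : ZMod 3, α i + n = 0 → α + n • Pi.single i 1 = Function.update α i 0 := fun n e =>
      funext fun j => by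
        by_cases e1 : j = i
        · simp [e1, e]
        · simp [e1]
    rcases (by decide : ∀ a n : ZMod 3, a ≠ 0 → n = 0 ∨ n ≠ 0 ∧ (n + a = 0 ∧ (∀ b ε : ZMod 3,
      b - ε * a + ε * n = b + ε * a * (n * n)) ∨ n + (a + a) = 0 ∧ ∀ b ε : ZMod 3, b - ε * a + ε * n
      - ε * a + ε * (n + a) = b + ε * a * (n * n))) a (α i) ha with e | ⟨n, ⟨e, e'⟩ | ⟨e, e'⟩⟩
    · exact ⟨1, one_mem _, by simp [← h3 0 (by simpa using e), e]⟩
    · exact ⟨_, hX n, by rw [h2, h3 a e, e']⟩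
    · refine ⟨_, mul_mem (hX n) (hX n), ?_⟩
      rw [← h3 _ e, ← e', add_smul, ← add_assoc, mul_inv_rev, ← mul_assoc, mul_assoc (x i),
        mul_assoc (x i), h2, h2]
      simp
  obtain ⟨k0, h0, e0⟩ := h1 0 b α (hX 0)
  obtain ⟨k1, h1', e1⟩ := h1 1 (b + ε * a * (α 0 * α 0)) (Function.update α 0 0) (by simpa using hX 1)
  obtain ⟨k2, h2, e2⟩ := h1 2 (b + ε * a * (α 0 * α 0) + ε * a * (α 1 * α 1))
    (Function.update (Function.update α 0 0) 1 0) (by simpa using hX 2)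
  refine ⟨k2 * (k1 * k0), mul_mem h2 (mul_mem h1' h0), ?_⟩
  calc _ = k2 * (k1 * (k0 * el D.z t c a b α * k0⁻¹) * k1⁻¹) * k2⁻¹ := by group
    _ = _ := by
      rw [e0, e1, Function.update_of_ne (by decide), e2]
      congr 1
      · simp; ring
      · funext j
        rcases f3 j with rfl | rfl | rfl <;> simp

end

end H78.F22
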