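import Cfsg.Agent.H39.F22Spec
import Cfsg.Agent.H84.PSB0

/-! Chapter F22 of `blueprints/PS3B.md`: the basic kit for `H3`. -/

set_option autoImplicit false
set_option linter.unusedSectionVars false
set_option maxRecDepth 100000
set_option synthInstance.maxSize 2048

open Cfsg Subgroup H98 H42.L3 H7.PS H39.F22
open H56.L3 (Ce Nz)
open H28.PS (SL3 Zt)
open H84.PS (V2)
open scoped Matrix

namespace H78.F22

/-- the map `SL₂(3) → ℤ / 3` -/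
def chi (A : SL3) : ZMod 3 :=
  if A.1 1 0 = 0 then A.1 0 0 * A.1 0 1 else A.1 1 0 * (A.1 0 0 + A.1 1 1)

theorem chi_mul : ∀ A B : SL3, chi (A * B) = chi A + chi B := by decide +kernel

theorem chi_eq : ∀ A : SL3, chi A = 0 ↔ A ^ 4 = 1 := by decide +kernel

theorem chi_pow (A : SL3) (n : ℕ) : chi (A ^ n) = n * chi A := by
  induction n with
  | zero => simpa using (chi_eq 1).2 (one_pow 4)
  | succ n ih => rw [pow_succ, chi_mul, ih, Nat.cast_succ, add_one_mul]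

theorem chi_inv (A : SL3) : chi A⁻¹ = -chi A := by
  rw [eq_neg_iff_add_eq_zero, ← chi_mul, inv_mul_cancel, chi_eq, one_pow]

theorem sl_q8 : ∀ A : SL3, A ^ 4 = 1 → (A ^ 3 = 1 → A = 1) ∧ ∀ v : V2, v ≠ 0 → A.1 *ᵥ v = v → A = 1 := by
  decide +kernel

theorem sl_real : ∀ A R : SL3, A ^ 3 = 1 → R * A * R⁻¹ = A⁻¹ → A = 1 := by decide +kernel

theorem neg_ne : (-1 : SL3) ≠ 1 := by decide +kernel

theorem neg_vec (v : V2) : (-1 : SL3).1 *ᵥ v = -v := by simp [Matrix.neg_mulVec]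

theorem v_neg : ∀ v : V2, -v = v → v = 0 := by decide

theorem other : ∀ i j : Fin 3, i ≠ j → ∃ k, k ≠ i ∧ k ≠ j ∧ ∀ l, l = i ∨ l = j ∨ l = k := by decide

variable {G : Type*} [Group G] {D : D3 G} {a b c g k r r' s t u v x y : G} {i j : Fin 3}

theorem mem_B : g ∈ D.B ↔ g ∈ Ce D.z ∧ ∀ i, g ∈ nr (D.Q i) := by
  simp only [mem_inf, Fin.forall_fin_succ, and_assoc, IsEmpty.forall_iff, and_true]
  rfl

theorem BN (hg : g ∈ D.B) (i : Fin 3) : g ∈ Ce D.z ⊓ nr (D.Q i) := ⟨(mem_B.1 hg).1, (mem_B.1 hg).2 i⟩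

theorem Bz (hg : g ∈ D.B) : g ∈ Ce D.z := (mem_B.1 hg).1

theorem Qle (i : Fin 3) : D.Q i ≤ D.QQ := by
  fin_cases i
  exacts [le_sup_left.trans le_sup_left, le_sup_right.trans le_sup_left, le_sup_right]

theorem QQ_le {X : Subgroup G} : D.QQ ≤ X ↔ ∀ i, D.Q i ≤ X :=
  ⟨fun e i => (Qle i).trans e, fun e => sup_le (sup_le (e 0) (e 1)) (e 2)⟩

theorem conj_cn {X : Subgroup G} (hx : x ∈ cn X) (g : G) : g * x * g⁻¹ ∈ cn (cj g X) :=
  (cj_centralizer g X).le (conj_mem_cj hx)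

theorem conj_cn' {X : Subgroup G} (hg : g ∈ nr X) (hx : x ∈ cn X) : g * x * g⁻¹ ∈ cn X :=
  cj_eq_self hg ▸ conj_cn hx g

theorem Ce_symm (e : a ∈ Ce b) : b ∈ Ce a := mem_Ce.2 (mem_Ce.1 e).symm

/-- the conjugate data -/
def dc (D : D3 G) (k : G) : D3 G :=
  ⟨k * D.z * k⁻¹, fun i => cj k (D.Q i), fun i a => D.l i (k⁻¹ * a * k), fun i a => D.m i (k⁻¹ * a * k)⟩

theorem dc_z : (dc D k).z = k * D.z * k⁻¹ := rfl

theorem dc_Q (i : Fin 3) : (dc D k).Q i = cj k (D.Q i) := rfl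

theorem dc_QQ : (dc D k).QQ = cj k D.QQ := by rw [cj_sup, cj_sup]; rfl

theorem cj_Ce (k x : G) : cj k (Ce x) = Ce (k * x * k⁻¹) := by
  ext y
  rw [mem_cj]
  exact ⟨fun e => by simpa [mul_assoc] using conj_mem_Ce e k,
    fun e => by simpa [mul_assoc] using conj_mem_Ce e k⁻¹⟩

theorem cj_zp (k x : G) : cj k (zpowers x) = zpowers (k * x * k⁻¹) := MonoidHom.map_zpowers _ _

theorem dc_B : (dc D k).B = cj k D.B := by
  rw [cj_inf, cj_inf, cj_inf, cj_Ce, cj_normalizer, cj_normalizer, cj_normalizer]; rfl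

theorem dc_P : (dc D k).P g ↔ D.P (k⁻¹ * g * k) := and_congr_left' (by rw [dc_B, mem_cj])

theorem Zt_cj (e : Zt D.z y) (k : G) : Zt D.z (k * y * k⁻¹) := by
  obtain ⟨g, e | e⟩ := e
  · exact ⟨k * g, Or.inl (by rw [← e]; group)⟩
  · exact ⟨k * g, Or.inr (by rw [conj_inv, ← e]; group)⟩

theorem Zt_inv (e : Zt D.z y) : Zt D.z y⁻¹ := e.imp fun _ e => by rw [inv_inv]; exact e.symm

theorem Zt_conj (k : G) : Zt D.z (k * D.z * k⁻¹) := ⟨k, Or.inl rfl⟩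

theorem dc_Zt : Zt (dc D k).z y ↔ Zt D.z y :=
  ⟨fun ⟨g, e⟩ => ⟨g * k, by simpa [dc, mul_assoc] using e⟩,
    fun ⟨g, e⟩ => ⟨g * k⁻¹, by simpa [dc, mul_assoc] using e⟩⟩

theorem Sd.dc {z : G} {Q : Subgroup G} {l : G → V2} {m : G → SL3} (h : Sd z Q l m) (k : G) :
    Sd (k * z * k⁻¹) (cj k Q) (fun a => l (k⁻¹ * a * k)) fun a => m (k⁻¹ * a * k) := by
  have e : ∀ a b : G, k⁻¹ * (a * b) * k = k⁻¹ * a * k * (k⁻¹ * b * k) := fun a b => by group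
  have n : ∀ c ∈ Ce (k * z * k⁻¹) ⊓ nr (cj k Q), k⁻¹ * c * k ∈ Ce z ⊓ nr Q := fun c hc => by
    rwa [← cj_Ce, nr, ← cj_normalizer, ← cj_inf, mem_cj] at hc
  refine ⟨conj_mem_cj h.zmem, fun a ha => ?_, fun a ha b hb => ?_, fun a ha => ?_, fun v => ?_,
    fun a ha b hb => ?_, fun c hc a ha => ?_, fun c hc d hd => ?_⟩
  · have := h.cube _ (mem_cj.1 ha)
    calc a ^ 3 = k * (k⁻¹ * a * k) ^ 3 * k⁻¹ := by rw [← conj_pow]; group
      _ = 1 := by rw [this]; group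
  · rw [e, h.l_mul _ (mem_cj.1 ha) _ (mem_cj.1 hb)]
  · rw [h.l_ker _ (mem_cj.1 ha), ← cj_zp, mem_cj]
  · obtain ⟨a, ha, e⟩ := h.l_surj v
    exact ⟨_, conj_mem_cj ha, by simpa [mul_assoc] using e⟩
  · have := h.comm _ (mem_cj.1 ha) _ (mem_cj.1 hb)
    rw [conj_pow]
    calc a * b = k * (k⁻¹ * a * k * (k⁻¹ * b * k)) * k⁻¹ := by group
      _ = _ := by rw [this]; group
  · rw [← h.act _ (n c hc) _ (mem_cj.1 ha)]
    congr 1; group
  · rw [e, h.m_mul _ (n c hc) _ (n d hd)]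

variable [Finite G]

theorem CeN : Ce D.z ≤ Nz D.z := fun _ hg => mem_Nz.2 ((mem_Ce'.1 hg).symm ▸ mem_zpowers _)

theorem H3.dc (h : H3 D) (k : G) : H3 (dc D k) := by
  refine ⟨((MulAut.conj k).orderOf_eq _).trans h.ord, fun i => Sd.dc (h.sd i) k, fun i j e => ?_,
    fun c hc e => ?_, ?_, fun g hg => ?_, fun i => ?_, fun g hg e => ?_⟩
  · exact (cj_mono k (h.QQ i j e)).trans (cj_centralizer k _).le
  · rw [dc_B, mem_cj] at hc
    rw [dc_QQ, mem_cj]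
    exact h.ker _ hc e
  · rw [dc_QQ, dc_z, ← cj_zp, cn, ← cj_centralizer]
    exact cj_mono k h.cen
  · rw [dc_z, Nz, ← cj_zp, ← cj_normalizer, mem_cj] at hg
    obtain ⟨σ, e⟩ := h.perm _ hg
    exact ⟨σ, fun i => by rw [dc_Q, dc_Q, ← e, cj_cj, cj_cj]; congr 1; group⟩
  · obtain ⟨r, hr, e⟩ := h.neg i
    exact ⟨k * r * k⁻¹, dc_B.ge (conj_mem_cj hr), by simpa [F22.dc, mul_assoc] using e⟩
  · rw [dc_B, mem_cj] at hg
    refine dc_P.2 (h.faith _ hg fun p hp i => ?_)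
    simpa [F22.dc, mul_assoc] using e (k * p * k⁻¹) (dc_P.2 (by simpa [mul_assoc] using hp)) i

open Classical in
/-- the permutation of the three factors -/
noncomputable def sg (D : D3 G) (g : G) : Equiv.Perm (Fin 3) :=
  if h : ∃ σ : Equiv.Perm (Fin 3), ∀ i, cj g (D.Q i) = D.Q (σ i) then h.choose else 1

open Classical in
/-- the coordinates of the `i`-th component of an element of `Q` -/
noncomputable def L (D : D3 G) (i : Fin 3) (x : G) : V2 :=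
  if h : ∃ a ∈ D.Q i, a⁻¹ * x ∈ cn (D.Q i) then D.l i h.choose else 0

/-- an involution with signs `-1` at `i` and `1` elsewhere -/
structure Ty (D : D3 G) (i : Fin 3) (r : G) : Prop where
  B : r ∈ D.B
  sq : r * r = 1
  neg : D.m i r = -1
  one : ∀ j, j ≠ i → D.m j r = 1

variable (h : H3 D)
include h

theorem co (i : Fin 3) : Co D.z (D.Q i) (D.l i) (D.m i) :=
  ⟨h.ord, (h.sd i).zmem, (h.sd i).l_mul, (h.sd i).l_ker, (h.sd i).l_surj, (h.sd i).comm,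
    (h.sd i).act, (h.sd i).m_mul⟩

theorem m_mul (ha : a ∈ D.B) (hb : b ∈ D.B) (i : Fin 3) : D.m i (a * b) = D.m i a * D.m i b :=
  (co h i).m_mul _ (BN ha i) _ (BN hb i)

theorem m_inv (ha : a ∈ D.B) (i : Fin 3) : D.m i a⁻¹ = (D.m i a)⁻¹ := (co h i).m_inv (BN ha i)

theorem m_pow (ha : a ∈ D.B) (i : Fin 3) (n : ℕ) : D.m i (a ^ n) = D.m i a ^ n :=
  (co h i).m_pow (BN ha i) n

theorem m_conj (ha : a ∈ D.B) (hb : b ∈ D.B) (i : Fin 3) :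
    D.m i (a * b * a⁻¹) = D.m i a * D.m i b * (D.m i a)⁻¹ := by
  rw [m_mul h (mul_mem ha hb) (inv_mem ha), m_mul h ha hb, m_inv h ha]

theorem m3 (ha : a ∈ D.B) (e : a ^ 3 = 1) (i : Fin 3) : D.m i a ^ 3 = 1 := by
  rw [← m_pow h ha, e, (co h i).m_one]

theorem QQc (e : i ≠ j) (ha : a ∈ D.Q i) (hb : b ∈ D.Q j) : a * b = b * a := (h.QQ i j e ha b hb).symm

theorem infQ (e : i ≠ j) (ha : a ∈ D.Q i) (hb : a ∈ D.Q j) : a ∈ zpowers D.z :=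
  (co h i).center ha (h.QQ j i e.symm hb)

theorem QiB (i : Fin 3) : D.Q i ≤ D.B := fun _ ha => mem_B.2 ⟨(co h i).le_Ce ha, fun j => by
  by_cases e : i = j
  exacts [e ▸ le_normalizer ha, centralizer_le_normalizer _ (h.QQ i j e ha)]⟩

theorem QB : D.QQ ≤ D.B := QQ_le.2 (QiB h)

theorem zQ : zpowers D.z ≤ D.QQ := (co h 0).zle.trans (Qle 0)

theorem z_cn (hx : x ∈ zpowers D.z) (i : Fin 3) : x ∈ cn (D.Q i) := fun _ ha =>
  comm_of_mem ((co h i).le_Ce ha) hx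

theorem memQ : x ∈ D.QQ ↔ ∃ q : Fin 3 → G, (∀ i, q i ∈ D.Q i) ∧ x = q 0 * q 1 * q 2 := by
  refine ⟨fun hx => ?_, fun ⟨q, hq, e⟩ => e ▸ mul_mem (mul_mem (Qle 0 (hq 0)) (Qle 1 (hq 1))) (Qle 2 (hq 2))⟩
  obtain ⟨y, hy, c, hc, rfl⟩ := (mem_sup_left_norm (sup_le
    ((h.QQ 0 2 (by decide)).trans (centralizer_le_normalizer _))
    ((h.QQ 1 2 (by decide)).trans (centralizer_le_normalizer _)))).1 hx
  obtain ⟨a, ha, b, hb, rfl⟩ := (mem_sup_left_norm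
    ((h.QQ 0 1 (by decide)).trans (centralizer_le_normalizer _))).1 hy
  exact ⟨![a, b, c], fun i => by fin_cases i <;> assumption, rfl⟩

theorem comp' {q : Fin 3 → G} (hq : ∀ i, q i ∈ D.Q i) (i : Fin 3) {X : Subgroup G}
    (n : ∀ j, j ≠ i → q j ∈ X) : (q i)⁻¹ * (q 0 * q 1 * q 2) ∈ X := by
  fin_cases i
  · simpa [mul_assoc] using mul_mem (n 1 (by decide)) (n 2 (by decide))
  · rw [QQc h (by decide) (hq 0) (hq 1)]
    simpa [mul_assoc] using mul_mem (n 0 (by decide)) (n 2 (by decide))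
  · rw [mul_assoc (q 0), QQc h (by decide) (hq 1) (hq 2), ← mul_assoc (q 0),
      QQc h (by decide) (hq 0) (hq 2)]
    simpa [mul_assoc] using mul_mem (n 0 (by decide)) (n 1 (by decide))

theorem comp {q : Fin 3 → G} (hq : ∀ i, q i ∈ D.Q i) (i : Fin 3) :
    (q i)⁻¹ * (q 0 * q 1 * q 2) ∈ cn (D.Q i) := comp' h hq i fun j e => h.QQ j i e (hq j)

theorem exC (hx : x ∈ D.QQ) (i : Fin 3) : ∃ a ∈ D.Q i, a⁻¹ * x ∈ cn (D.Q i) :=
  let ⟨q, hq, e⟩ := (memQ h).1 hx; ⟨q i, hq i, e ▸ comp h hq i⟩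

theorem cubeQ (hx : x ∈ D.QQ) : x ^ 3 = 1 := by
  obtain ⟨q, hq, rfl⟩ := (memQ h).1 hx
  have c : ∀ i j, i ≠ j → Commute (q i) (q j) := fun i j e => QQc h e (hq i) (hq j)
  rw [((c 0 2 (by decide)).mul_left (c 1 2 (by decide))).mul_pow, (c 0 1 (by decide)).mul_pow,
    (h.sd 0).cube _ (hq 0), (h.sd 1).cube _ (hq 1), (h.sd 2).cube _ (hq 2), one_mul, one_mul]

theorem mQ (hx : x ∈ D.QQ) (i : Fin 3) : D.m i x = 1 := by
  obtain ⟨a, ha, e⟩ := exC h hx i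
  rw [← mul_inv_cancel_left a x, (co h i).m_mul _ ((co h i).le_CN ha) _ ((co h i).cn_le e),
    (co h i).m_mem ha, (co h i).m_cn e, one_mul]

theorem cnQ (e : ∀ i, x ∈ cn (D.Q i)) : x ∈ zpowers D.z :=
  h.cen (le_centralizer_iff.1 (QQ_le.2 fun i => le_centralizer_iff.1 (zpowers_le.2 (e i)))
    (mem_zpowers x))

theorem uniq (ha : a ∈ D.Q i) (hb : b ∈ D.Q i) (e : a⁻¹ * x ∈ cn (D.Q i)) (e' : b⁻¹ * x ∈ cn (D.Q i)) :
    a⁻¹ * b ∈ zpowers D.z :=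
  (co h i).center (mul_mem (inv_mem ha) hb) (by simpa [mul_assoc] using mul_mem e (inv_mem e'))

theorem memQi (hx : x ∈ D.QQ) (e : ∀ j, j ≠ i → x ∈ cn (D.Q j)) : x ∈ D.Q i := by
  obtain ⟨a, ha, e'⟩ := exC h hx i
  refine (mul_mem_cancel_left (inv_mem ha)).1 ((co h i).zle (cnQ h fun j => ?_))
  by_cases e1 : j = i
  exacts [e1 ▸ e', mul_mem (inv_mem (h.QQ i j (Ne.symm e1) ha)) (e j e1)]

theorem comQ (hx : x ∈ D.QQ) (hy : y ∈ D.QQ) : x * y * x⁻¹ * y⁻¹ ∈ zpowers D.z := cnQ h fun i => by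
  obtain ⟨a, ha, e⟩ := exC h hx i
  obtain ⟨b, hb, e'⟩ := exC h hy i
  have n := fun {g} (hg : g ∈ D.QQ) => (BN (QB h hg) i).2
  have h1 : a * b * a⁻¹ * b⁻¹ ∈ cn (D.Q i) := by
    rw [(co h i).conj_eq ha hb, mul_inv_cancel_right]; exact z_cn h (zp_mem _) i
  have h2 : x * y * x⁻¹ * y⁻¹ = a * (a⁻¹ * x) * a⁻¹ * (a * b * (b⁻¹ * y) * (a * b)⁻¹) *
      (a * b * (a⁻¹ * x)⁻¹ * (a * b)⁻¹) * (a * b * a⁻¹ * b⁻¹) * (b * (b⁻¹ * y)⁻¹ * b⁻¹) := by group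
  have ab := n (Qle i (mul_mem ha hb))
  exact h2 ▸ mul_mem (mul_mem (mul_mem (mul_mem (conj_cn' (n (Qle i ha)) e) (conj_cn' ab e'))
    (conj_cn' ab (inv_mem e))) h1) (conj_cn' (n (Qle i hb)) (inv_mem e'))

/-! ### The permutation -/

theorem sg_spec (hg : g ∈ Nz D.z) (i : Fin 3) : cj g (D.Q i) = D.Q (sg D g i) := by
  rw [sg, dif_pos (h.perm g hg)]; exact (h.perm g hg).choose_spec i

theorem sg_eq (hg : g ∈ Nz D.z) (ha : a ∈ D.Q i) (n : a ∉ zpowers D.z) (e : g * a * g⁻¹ ∈ D.Q j) :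
    sg D g i = j := by_contra fun ne => n (by
  have := infQ h ne (sg_spec h hg i ▸ conj_mem_cj ha) e
  rwa [← cj_eq_self hg, conj_mem_cj_iff] at this)

theorem exq (i : Fin 3) : ∃ a ∈ D.Q i, a ∉ zpowers D.z :=
  let ⟨a, ha, n, _⟩ := H84.PS.fixv (co h i) (one_pow 3); ⟨a, ha, n⟩

theorem sg_of (hg : g ∈ Nz D.z) (e : cj g (D.Q i) = D.Q j) : sg D g i = j :=
  let ⟨_, ha, n⟩ := exq h i; sg_eq h hg ha n (e ▸ conj_mem_cj ha)

theorem sg_mul (ha : a ∈ Nz D.z) (hb : b ∈ Nz D.z) : sg D (a * b) = sg D a * sg D b :=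
  Equiv.ext fun i => sg_of h (mul_mem ha hb) (by rw [← cj_cj, sg_spec h hb, sg_spec h ha]; rfl)

theorem sg_B (hg : g ∈ D.B) : sg D g = 1 :=
  Equiv.ext fun i => sg_of h (CeN (Bz hg)) (cj_eq_self (BN hg i).2)

theorem B_of (hg : g ∈ Ce D.z) (e : sg D g = 1) : g ∈ D.B :=
  mem_B.2 ⟨hg, fun i => cj_eq_self_iff.1 (by rw [sg_spec h (CeN hg), e]; rfl)⟩

theorem sg_pow (ha : a ∈ Nz D.z) (n : ℕ) : sg D (a ^ n) = sg D a ^ n := by
  induction n with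
  | zero => rw [pow_zero, pow_zero, sg_B h (one_mem _)]
  | succ n ih => rw [pow_succ, sg_mul h (pow_mem ha n) ha, ih, pow_succ]

theorem sg_inv (ha : a ∈ Nz D.z) : sg D a⁻¹ = (sg D a)⁻¹ := by
  rw [eq_inv_iff_mul_eq_one, ← sg_mul h (inv_mem ha) ha, inv_mul_cancel, sg_B h (one_mem _)]

theorem sg_cn (hg : g ∈ Nz D.z) (hx : x ∈ cn (D.Q i)) : g * x * g⁻¹ ∈ cn (D.Q (sg D g i)) :=
  sg_spec h hg i ▸ conj_cn hx g

theorem NQ : Nz D.z ≤ nr D.QQ := fun g hg => mem_normalizer_of_cj_le (cj_le_iff.2 (QQ_le.2 fun i =>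
  cj_le_iff.1 (sg_spec h hg i ▸ Qle _)))

theorem HQ : Ce D.z ≤ nr D.QQ := CeN.trans (NQ h)

theorem conj_B (hg : g ∈ Ce D.z) (hb : b ∈ D.B) : g * b * g⁻¹ ∈ D.B :=
  B_of h (mul_mem (mul_mem hg (Bz hb)) (inv_mem hg)) (by
    rw [sg_mul h (CeN (mul_mem hg (Bz hb))) (CeN (inv_mem hg)), sg_mul h (CeN hg) (CeN (Bz hb)),
      sg_B h hb, sg_inv h (CeN hg), mul_one, mul_inv_cancel])

/-! ### Coordinates -/

theorem L_eq (ha : a ∈ D.Q i) (e : a⁻¹ * x ∈ cn (D.Q i)) : L D i x = D.l i a := by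
  have h1 : ∃ a ∈ D.Q i, a⁻¹ * x ∈ cn (D.Q i) := ⟨a, ha, e⟩
  have h2 := ((co h i).l_ker _ (mul_mem (inv_mem ha) h1.choose_spec.1)).2
    (uniq h ha h1.choose_spec.1 e h1.choose_spec.2)
  rw [(co h i).l_mul _ (inv_mem ha) _ h1.choose_spec.1, (co h i).l_inv ha, neg_add_eq_zero] at h2
  rw [L, dif_pos h1, h2]

theorem L_Q (ha : a ∈ D.Q i) : L D i a = D.l i a := L_eq h ha (by simp)

theorem L_cn (e : x ∈ cn (D.Q i)) : L D i x = 0 :=
  (L_eq h (one_mem _) (by simpa using e)).trans (co h i).l_one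

theorem L_zero (hx : x ∈ D.QQ) (e : L D i x = 0) : x ∈ cn (D.Q i) := by
  obtain ⟨a, ha, e'⟩ := exC h hx i
  rw [L_eq h ha e', (co h i).l_ker _ ha] at e
  exact (mul_mem_cancel_left (inv_mem (z_cn h e i))).1 e'

theorem L_mul (hx : x ∈ D.QQ) (hy : y ∈ D.QQ) (i : Fin 3) : L D i (x * y) = L D i x + L D i y := by
  obtain ⟨a, ha, e⟩ := exC h hx i
  obtain ⟨b, hb, e'⟩ := exC h hy i
  rw [L_eq h ha e, L_eq h hb e', ← (co h i).l_mul _ ha _ hb]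
  refine L_eq h (mul_mem ha hb) ?_
  simpa [mul_assoc] using mul_mem (conj_cn' (le_normalizer (inv_mem hb)) e) e'

theorem L_pow (hx : x ∈ D.QQ) (i : Fin 3) (n : ℕ) : L D i (x ^ n) = (n : ZMod 3) • L D i x := by
  induction n with
  | zero => simpa using L_cn h (one_mem _)
  | succ n ih => rw [pow_succ, L_mul h (pow_mem hx n) hx, ih, Nat.cast_succ, add_smul, one_smul]

theorem L_zp (hx : x ∈ D.QQ) (i : Fin 3) (n : ZMod 3) : L D i (zp x n) = n • L D i x := by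
  rw [zp, L_pow h hx, ZMod.natCast_zmod_val]

theorem L_inv (hx : x ∈ D.QQ) (i : Fin 3) : L D i x⁻¹ = -L D i x := by
  rw [eq_neg_iff_add_eq_zero, ← L_mul h (inv_mem hx) hx, inv_mul_cancel, L_cn h (one_mem _)]

theorem L_conj (hg : g ∈ D.B) (hx : x ∈ D.QQ) (i : Fin 3) :
    L D i (g * x * g⁻¹) = (D.m i g).1 *ᵥ L D i x := by
  obtain ⟨a, ha, e⟩ := exC h hx i
  rw [L_eq h ha e, ← (co h i).act g (BN hg i) a ha]
  exact L_eq h ((co h i).conj_mem (BN hg i) ha) (by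
    simpa [mul_assoc] using conj_cn' (BN hg i).2 e)

theorem W3_cn (e : D.W3 y) (i : Fin 3) : y ∉ cn (D.Q i) := fun h1 => by
  obtain ⟨q, hq, rfl⟩ := e
  exact (hq i).2 ((co h i).center (hq i).1 (inv_mem_iff.1
    ((mul_mem_cancel_right h1).1 (comp h (fun i => (hq i).1) i))))

/-! ### The subgroup `P` -/

theorem P_Q (hp : D.P x) (e : x ^ 3 = 1) : x ∈ D.QQ :=
  h.ker x hp.1 fun i => (sl_q8 _ (hp.2 i)).1 (m3 h hp.1 e i)

theorem P_iff (hx : x ∈ D.B) : D.P x ↔ ∀ i, chi (D.m i x) = 0 := by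
  simp only [D3.P, hx, true_and, chi_eq]

theorem P_mul (ha : D.P a) (hb : D.P b) : D.P (a * b) :=
  (P_iff h (mul_mem ha.1 hb.1)).2 fun i => by
    rw [m_mul h ha.1 hb.1, chi_mul, (P_iff h ha.1).1 ha, (P_iff h hb.1).1 hb, add_zero]

theorem P_inv (ha : D.P a) : D.P a⁻¹ := (P_iff h (inv_mem ha.1)).2 fun i => by
  rw [m_inv h ha.1, chi_inv, (P_iff h ha.1).1 ha, neg_zero]

theorem P_conj (hg : g ∈ D.B) (ha : D.P a) : D.P (g * a * g⁻¹) :=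
  (P_iff h (mul_mem (mul_mem hg ha.1) (inv_mem hg))).2 fun i => by
    rw [m_conj h hg ha.1, chi_mul, chi_mul, chi_inv, (P_iff h ha.1).1 ha, add_zero, add_neg_cancel]

theorem Q_P (hx : x ∈ D.QQ) : D.P x := ⟨QB h hx, fun i => by rw [mQ h hx, one_pow]⟩

/-! ### Involutions -/

theorem Ty.cn (hr : Ty D i r) (e : j ≠ i) : r ∈ cn (D.Q j) :=
  (co h j).cn_of_four (BN hr.B j) (hr.one j e) (by rw [pow_succ, pow_succ, pow_two, hr.sq, one_mul, hr.sq])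

theorem Ty.inv (hr : Ty D i r) (ha : a ∈ D.Q i) : ∃ k, r * a * r⁻¹ = zp D.z k * a⁻¹ :=
  (co h i).eq_zp ((co h i).conj_mem (BN hr.B i) ha) (inv_mem ha) (by
    rw [(co h i).act r (BN hr.B i) a ha, hr.neg, neg_vec, (co h i).l_inv ha])

theorem Ty.adj (hr : Ty D i r) (ha : a ∈ D.Q i) :
    ∃ k, r * (a * zp D.z k) * r⁻¹ = (a * zp D.z k)⁻¹ := by
  obtain ⟨k, e⟩ := hr.inv h ha
  refine ⟨k, ?_⟩
  rw [← conj_mul, e, zp_conj (Bz hr.B), mul_inv_rev, ← zp_neg h.ord, mul_assoc,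
    zp_comm ((co h i).le_Ce (inv_mem ha)), ← mul_assoc, ← zp_add h.ord,
    (by decide : ∀ k : ZMod 3, k + k = -k)]

theorem Ty.fix (hr : Ty D i r) (hx : x ∈ D.QQ) (e : x ∈ Ce r) : x ∈ H42.L3.cn (D.Q i) :=
  L_zero h hx (v_neg _ (by rw [← neg_vec, ← hr.neg, ← L_conj h hr.B hx, mem_Ce'.1 (Ce_symm e)]))

theorem ex_ty (i : Fin 3) : ∃ r, Ty D i r := by
  obtain ⟨r, hr, e, e'⟩ := h.neg i
  have h1 := cubeQ h (h.ker (r ^ 2) (pow_mem hr 2) fun j => by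
    rw [m_pow h hr]
    by_cases e1 : j = i
    · rw [e1, e, neg_one_sq]
    · rw [e' j e1, one_pow])
  refine ⟨r ^ 3, pow_mem hr 3, by rw [← pow_add, ← h1, ← pow_mul], ?_, fun j e1 => ?_⟩
  · rw [m_pow h hr, e, Odd.neg_one_pow (by decide)]
  · rw [m_pow h hr, e' j e1, one_pow]

theorem Ty.m (hr : Ty D i r) (j : Fin 3) : D.m j r = 1 ∨ D.m j r = -1 := by
  by_cases e : j = i
  exacts [Or.inr (e ▸ hr.neg), Or.inl (hr.one j e)]

theorem Ty.comQ (hr : Ty D i r) (hg : g ∈ D.B) : r * g * r⁻¹ * g⁻¹ ∈ D.Q i := by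
  refine memQi h (h.ker _ (mul_mem (mul_mem (mul_mem hr.B hg) (inv_mem hr.B)) (inv_mem hg)) fun j => ?_)
    fun j e => ?_
  · rw [m_mul h (mul_mem (mul_mem hr.B hg) (inv_mem hr.B)) (inv_mem hg), m_conj h hr.B hg, m_inv h hg]
    rcases hr.m h j with e | e <;> simp [e]
  · simpa [mul_assoc] using mul_mem (hr.cn h e) (conj_cn' (BN hg j).2 (inv_mem (hr.cn h e)))

theorem Ty.comm (hr : Ty D i r) (hr' : Ty D j r') (e : i ≠ j) : r * r' = r' * r := by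
  have h1 := infQ h e (hr.comQ h hr'.B) (by simpa [mul_assoc] using inv_mem (hr'.comQ h hr.B))
  obtain ⟨k, hk⟩ := exists_zp h.ord h1
  rw [mul_inv_eq_iff_eq_mul] at hk
  have h2 : r * r' * r⁻¹ * (r * r' * r⁻¹) = 1 := by rw [conj_mul, hr'.sq, mul_one, mul_inv_cancel]
  rw [hk, mul_assoc, ← mul_assoc r', zp_comm (Bz hr'.B), mul_assoc, hr'.sq, mul_one,
    ← zp_add h.ord] at h2
  rw [(by decide : ∀ k : ZMod 3, k + k = 0 → k = 0) k (zp_eq_one h.ord h2), zp_zero, one_mul] at hk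
  exact mul_inv_eq_iff_eq_mul.1 hk

theorem Ty.conj (hr : Ty D i r) (hg : g ∈ Ce D.z) : Ty D (sg D g i) (g * r * g⁻¹) := by
  have hB := conj_B h hg hr.B
  refine ⟨hB, by rw [conj_mul, hr.sq, mul_one, mul_inv_cancel],
    (co h _).m_eq_of (BN hB _) fun a ha => ?_, fun j e => ?_⟩
  · have ha' := ha
    rw [← sg_spec h (CeN hg), mem_cj] at ha'
    obtain ⟨k, e⟩ := hr.inv h ha'
    have : g * r * g⁻¹ * a * (g * r * g⁻¹)⁻¹ = zp D.z k * a⁻¹ := by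
      calc _ = g * (r * (g⁻¹ * a * g) * r⁻¹) * g⁻¹ := by group
        _ = _ := by rw [e, ← mul_assoc, zp_comm hg]; group
    rw [this, (co h _).l_mul _ ((co h _).zp_mem k) _ (inv_mem ha), (co h _).l_zp, zero_add,
      (co h _).l_inv ha, neg_vec]
  · obtain ⟨j, rfl⟩ := (sg D g).surjective j
    exact (co h _).m_cn (sg_cn h (CeN hg) (hr.cn h fun e1 => e (e1 ▸ rfl)))

theorem Ty.rel (hr : Ty D i r) (hr' : Ty D i r') : ∃ u ∈ D.Q i, u * r * u⁻¹ = r' ∧ r * r' = u := by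
  have h1 : r * r' ∈ D.Q i := memQi h (h.ker _ (mul_mem hr.B hr'.B) fun j => by
    rw [m_mul h hr.B hr'.B]
    by_cases e : j = i
    · rw [e, hr.neg, hr'.neg, neg_mul_neg, one_mul]
    · rw [hr.one j e, hr'.one j e, one_mul]) fun j e => mul_mem (hr.cn h e) (hr'.cn h e)
  refine ⟨_, h1, ?_, rfl⟩
  have h2 := (h.sd i).cube _ h1
  calc r * r' * r * (r * r')⁻¹ = (r * r') ^ 3 * (r' * r')⁻¹ * r' * (r * r)⁻¹ * (r' * r')⁻¹ *
        (r' * (r * r)⁻¹ * r'⁻¹) * (r' * r * (r' * r')⁻¹ * (r' * r)⁻¹) * (r' * (r * r) * r'⁻¹) := by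
        simp only [hr.sq, hr'.sq, inv_one, mul_one, mul_inv_cancel]
        rw [mul_inv_rev, inv_eq_of_mul_eq_one_right hr.sq, inv_eq_of_mul_eq_one_right hr'.sq,
          pow_succ, pow_two, mul_assoc _ (r * r') r', mul_assoc r r' r', hr'.sq, mul_one]
        group
    _ = r' := by simp [h2, hr.sq, hr'.sq]

/-- an element of `B` can be moved by `Q` to commute with three involutions up to `sg` -/
theorem corr {ρ : Fin 3 → G} (hρ : ∀ i, Ty D i (ρ i)) (hg : g ∈ Ce D.z) :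
    ∃ u ∈ D.QQ, ∀ i, u * g * ρ i * (u * g)⁻¹ = ρ (sg D g i) := by
  have h1 : ∀ j, ∃ u ∈ D.Q j, u * (g * ρ ((sg D g).symm j) * g⁻¹) * u⁻¹ = ρ j := fun j => by
    have := (hρ ((sg D g).symm j)).conj h hg
    rw [Equiv.apply_symm_apply] at this
    exact (this.rel h (hρ j)).imp fun u e => ⟨e.1, e.2.1⟩
  choose q hq e using h1
  refine ⟨_, (memQ h).2 ⟨q, hq, rfl⟩, fun i => ?_⟩
  have h2 := e (sg D g i)
  rw [Equiv.symm_apply_apply] at h2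
  have h3 : (q (sg D g i))⁻¹ * (q 0 * q 1 * q 2) ∈ Ce (g * ρ i * g⁻¹) := comp' h hq _ fun j e =>
    mem_Ce.2 (((hρ i).conj h hg).cn h e _ (hq j))
  rw [← h2, ← mem_Ce'.1 h3]
  group

theorem par_Ce (ha : a ∈ D.Q i) (hc : c ∈ D.Q i) (n : c ∉ zpowers D.z) (e : a * c = c * a)
    (ht : t ∈ Ce D.z) (e' : c ∈ Ce t) : a ∈ Ce t := by
  obtain ⟨j, hj⟩ := H84.PS.par (co h i) ha hc n e
  exact (mul_mem_cancel_right (pow_mem e' j)).1 (zpowers_le.2 (Ce_symm ht) hj)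

/-- the frame at a place where the `3`-element `t` acts nontrivially -/
theorem frame (ht : t ∈ D.B) (t3 : t ^ 3 = 1) (hm : D.m i t ≠ 1) (hc : c ∈ D.Q i)
    (n : c ∉ zpowers D.z) (e : c ∈ Ce t) : ∃ r k x ε, Ty D i r ∧ t * r = r * t ∧
      r * (c * zp D.z k) * r⁻¹ = (c * zp D.z k)⁻¹ ∧ x ∈ D.Q i ∧ r * x * r⁻¹ = x⁻¹ ∧ ε ≠ 0 ∧
      x * t * x⁻¹ = t * (c * zp D.z k) * zp D.z (-ε) ∧
      x * (c * zp D.z k) * x⁻¹ = c * zp D.z k * zp D.z ε := by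
  have cv := fun a ha (f : a ∈ Ce t) => H84.PS.cov (co h i) (BN ht i) (m3 h ht t3 i) hm (a := a) ha
    (H84.PS.fix_of_comm (co h i) (BN ht i) ha (mem_Ce.1 f))
  obtain ⟨ρ, hρ⟩ := ex_ty h i
  have ha := hρ.comQ h ht
  have zc : ∀ k, zp D.z k ∈ Ce t := fun k => zpowers_le.2 (Ce_symm (Bz ht)) (zp_mem k)
  have h1 : ρ * t * ρ⁻¹ ∈ Ce c := by
    obtain ⟨k, hk⟩ := hρ.inv h hc
    have := conj_mem_Ce e ρ
    rw [hk] at this
    exact Ce_symm (inv_mem_iff.1 ((mul_mem_cancel_left (zpowers_le.2 (Ce_symm (Bz (conj_B h (Bz hρ.B)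
      ht))) (zp_mem k))).1 this))
  obtain ⟨q, hq, k, hk⟩ := cv _ (inv_mem ha) (inv_mem (par_Ce h ha hc n
    (mem_Ce.1 (mul_mem h1 (inv_mem (Ce_symm e)))) (Bz ht) e))
  have hr := hρ.conj h (Bz (QiB h i (inv_mem hq)))
  rw [sg_B h (QiB h i (inv_mem hq)), Equiv.Perm.one_apply] at hr
  have h2 : t * (q⁻¹ * ρ * q⁻¹⁻¹) = q⁻¹ * ρ * q⁻¹⁻¹ * t := by
    have h3 := (h.sd i).cube _ ha
    have h4 : ρ * (q * t * q⁻¹) * ρ⁻¹ = q * t * q⁻¹ := by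
      rw [hk, ← conj_mul, ← conj_mul, zp_conj (Bz hρ.B), mul_assoc, mul_assoc (zp _ _), mul_right_inj,
        ← mul_one (_⁻¹ * t), ← mul_left_inj t⁻¹, mul_assoc _ _ t⁻¹, mul_one, mul_inv_cancel_right,
        eq_inv_iff_mul_eq_one, ← h3, pow_succ', pow_two, mul_assoc, mul_left_inj]
      calc _ = ρ * t * ρ * t⁻¹ * (ρ * ρ)⁻¹ := by group
        _ = _ := by rw [hρ.sq, inv_eq_of_mul_eq_one_right hρ.sq]; group
    calc _ = q⁻¹ * (q * t * q⁻¹) * ρ * q := by group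
      _ = _ := by rw [← h4]; group
  generalize q⁻¹ * ρ * q⁻¹⁻¹ = r at hr h2
  obtain ⟨k, h3⟩ := hr.adj h hc
  have hc' := mul_mem hc ((co h i).zp_mem k)
  have e' := mul_mem e (zc k)
  have n' : c * zp D.z k ∉ zpowers D.z := fun e => n ((mul_mem_cancel_right (zp_mem k)).1 e)
  refine ⟨r, k, ?_⟩
  generalize c * zp D.z k = c at *
  obtain ⟨x₀, hx₀, l, hl⟩ := cv c hc' e'
  obtain ⟨j, h4⟩ := hr.adj h hx₀
  have h5 : x₀ * zp D.z j * t * (x₀ * zp D.z j)⁻¹ = zp D.z l * c * t := by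
    rw [← hl, mul_assoc x₀, mem_Ce.1 (zc j)]; group
  have hx := mul_mem hx₀ ((co h i).zp_mem j)
  generalize x₀ * zp D.z j = x at *
  have h6 := (co h i).conj_eq hx hc'
  generalize D.l i x 0 * D.l i c 1 - D.l i x 1 * D.l i c 0 = ε at h6
  have zq := fun k => zp_comm ((co h i).le_Ce hc') k
  have h7 : x⁻¹ * t * x = zp D.z l * c⁻¹ * t := by
    have := congrArg (fun y => r * y * r⁻¹) h5
    simp only [← conj_mul, ← conj_inv, h4, h3, zp_conj (Bz hr.B), ← h2, mul_inv_cancel_right,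
      inv_inv] at this
    exact this
  have h8 : l = -ε := by
    have h9 : t = zp D.z l * (zp D.z ε * c)⁻¹ * (zp D.z l * c * t) := by
      rw [← h5, ← h6, ← zp_conj ((co h i).le_Ce hx) l, conj_inv, conj_mul, conj_mul, ← h7]; group
    rw [← zq ε, ← zq l, mul_inv_rev, ← zp_neg h.ord, ← mul_assoc, ← mul_assoc, mul_assoc _ _ c,
      inv_mul_cancel_right, ← zp_add h.ord, ← zp_add h.ord, right_eq_mul] at h9
    exact (by decide : ∀ l ε : ZMod 3, l + -ε + l = 0 → l = -ε) _ _ (zp_eq_one h.ord h9)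
  refine ⟨x, ε, hr, h2, h3, hx, h4, fun e0 => n' ?_, ?_, h6.trans (zq ε).symm⟩
  · rw [e0, zp_zero, one_mul, mul_inv_eq_iff_eq_mul] at h6
    rw [mem_Ce'.1 (par_Ce h hx hc' n' h6 (Bz ht) e'), right_eq_mul] at h5
    exact (mul_mem_cancel_left (zp_mem l)).1 (h5 ▸ one_mem _)
  · rw [h5, h8, ← zq, mul_assoc, mem_Ce.1 (zc _), ← mul_assoc, mem_Ce.1 e']

omit h in
/-- the parts of `HV` that are used for conjugate data -/
structure HW (D : D3 G) : Prop where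
  wt : ∀ y ∈ D.QQ, Zt D.z y → y ∈ zpowers D.z ∨ ∀ i, y ∉ cn (D.Q i)
  bs : ∀ s ∈ D.B, ¬ D.P s → (∀ i, D.m i s ^ 4 ≠ 1) ∧ ∀ g ∈ D.B, ∃ n : ℕ, D.P (g * s ^ n)

theorem hw_of (v : HV D) : HW D := by
  refine ⟨fun y hy e => (v.wt y hy e).imp_right (W3_cn h), fun s hs n => ?_⟩
  obtain ⟨d, hd, h1, h2⟩ := v.base
  have h3 : ∀ g ∈ D.B, ∃ k : ZMod 3, ∀ i, chi (D.m i g) = k * chi (D.m i d) := fun g hg => by
    rcases h2 g hg with e | e | e
    · exact ⟨0, fun i => by rw [(P_iff h hg).1 e, zero_mul]⟩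
    · refine ⟨-1, fun i => ?_⟩
      have := (P_iff h e.1).1 e i
      rw [m_mul h hg hd, chi_mul] at this
      linear_combination this
    · refine ⟨1, fun i => ?_⟩
      have := (P_iff h e.1).1 e i
      rw [m_mul h hg (inv_mem hd), m_inv h hd, chi_mul, chi_inv] at this
      linear_combination this
  obtain ⟨k, hk⟩ := h3 s hs
  have k0 : k ≠ 0 := fun e => n ((P_iff h hs).2 fun i => by rw [hk, e, zero_mul])
  refine ⟨fun i e => h1 i ((chi_eq _).1 ((mul_eq_zero.1 ((hk i).symm.trans ((chi_eq _).2 e))).resolve_left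
    k0)), fun g hg => ?_⟩
  obtain ⟨l, hl⟩ := h3 g hg
  refine ⟨(-l * k).val, (P_iff h (mul_mem hg (pow_mem hs _))).2 fun i => ?_⟩
  rw [m_mul h hg (pow_mem hs _), m_pow h hs, chi_mul, chi_pow, ZMod.natCast_zmod_val, hl, hk,
    ← mul_assoc, (by decide : ∀ l k : ZMod 3, k ≠ 0 → l * k * k = l) _ k k0]
  ring

omit h in
theorem HW.dc (w : HW D) (k : G) : HW (dc D k) := by
  refine ⟨fun y hy e => ?_, fun s hs n => ?_⟩
  · rw [dc_QQ, mem_cj] at hy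
    have := Zt_cj (dc_Zt.1 e) k⁻¹
    rw [inv_inv] at this
    refine (w.wt _ hy this).imp (fun e => by rwa [dc_z, ← cj_zp, mem_cj]) fun e i e1 => e i ?_
    rwa [dc_Q, cn, ← cj_centralizer, mem_cj] at e1
  · rw [dc_B, mem_cj] at hs
    refine (w.bs _ hs (mt dc_P.2 n)).imp_right fun e g hg => ?_
    rw [dc_B, mem_cj] at hg
    refine (e _ hg).imp fun n e => dc_P.2 ?_
    have e1 := conj_pow (i := n) (a := k⁻¹) (b := s)
    rw [inv_inv] at e1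
    rwa [e1, show k⁻¹ * g * k * (k⁻¹ * s ^ n * k) = k⁻¹ * (g * s ^ n) * k by group] at e

end H78.F22
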