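import Cfsg.Agent.H78.S6Kit
import Cfsg.Agent.H55.Transport
import Cfsg.Agent.H81.ClassMult
import Cfsg.Agent.S2086
import Cfsg.Agent.S2089
import Cfsg.Agent.S2091
import Cfsg.Agent.S2092
import Cfsg.Agent.S2093
import Cfsg.Agent.S2098
import Cfsg.Agent.S2099

/-! Row S3133: reduction to the case where `F*(G)` is simple. -/

set_option autoImplicit false

namespace H78.S33

open Cfsg Subgroup H21 H78.S6
open H63.SR (OC reduce cyc_of_sylow)
open H64.SG (Cov Cfg Inv2)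

universe u

/-- The list of simple groups. -/
def Cl (F : Type*) [Field F] (H : Type u) [Group H] : Prop :=
  Nonempty (H ≃* Matrix.ProjectiveSpecialLinearGroup (Fin 6) F) ∨
    Nonempty (H ≃* Matrix.ProjectiveSpecialLinearGroup (Fin 7) F) ∨
    (∃ (K : Type) (_ : Field K) (_ : Fintype K), Fintype.card K = 4 ∧
      (Nonempty (H ≃* PSU 6 K 2) ∨ Nonempty (H ≃* PSU 7 K 2) ∨ Nonempty (H ≃* PSp 3 K))) ∨
    Nonempty (H ≃* POmega F (quadFormPlus 4 F)) ∨
    ∃ a b : F, (∀ z₁ z₂ : F, z₁ ^ 2 + a * z₁ * z₂ + b * z₂ ^ 2 = 0 → z₁ = 0 ∧ z₂ = 0) ∧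
      Nonempty (H ≃* POmega F (quadFormMinus 3 F a b))

theorem iso {A Γ M : Type*} [Group A] [Group Γ] [Finite Γ] [CommGroup M]
    (hm : HasSchurMultiplier Γ M) (h4 : Nat.card M ∣ 4) (h : OC A Γ) (hp : commutator A = ⊤) :
    Nonempty (A ≃* Γ) := by
  refine iso_of_oc ?_ (multCard_eq hm ▸ h4) h hp
  obtain ⟨π, hs, -⟩ := h
  rw [← map_commutator_of_surjective π hs, hp, ← MonoidHom.range_eq_map, MonoidHom.range_eq_top.2 hs]

theorem su6 {K : Type*} [Field K] [Fintype K] (hK : Fintype.card K = 4) :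
    Nat.card (center (SU 6 K 2)) = 3 ∧ commutator (SU 6 K 2) = ⊤ ∧ multCard (SU 6 K 2) ∣ 4 := by
  have h1 : Nat.card (center (SU 6 K 2)) = 3 := H59.card_center_SU (q := 2) hK (by omega)
  have h2 : commutator (SU 6 K 2) = ⊤ := H59.commutator_SU (q := 2) hK (by omega) (by omega)
  exact ⟨h1, h2, H81.cancel_center h2 (n := 12) (by rw [h1])
    ((multCard_eq (Cfsg.Agent.S2091.result hK)).trans (by simp))⟩

theorem Cl.congr {F E : Type*} [Field F] [Field E] (φ : F ≃+* E) {H : Type u} [Group H]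
    (h : Cl E H) : Cl F H := by
  refine h.imp (fun ⟨κ⟩ => ⟨κ.trans (H55.pslCongr φ).symm⟩)
    (Or.imp (fun ⟨κ⟩ => ⟨κ.trans (H55.pslCongr φ).symm⟩) (Or.imp id (Or.imp
      (fun ⟨κ⟩ => ⟨κ.trans (H55.pOmegaCongr φ (H55.quadFormPlus_comp φ _)).symm⟩)
      fun ⟨a, b, k1, ⟨κ⟩⟩ => ⟨φ.symm a, φ.symm b, fun z₁ z₂ h => ?_,
        ⟨κ.trans (H55.pOmegaCongr φ.symm (H55.quadFormMinus_comp φ.symm _ a b))⟩⟩)))
  simpa using k1 (φ z₁) (φ z₂) (by simpa using congrArg φ h)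

theorem main {X : Type} [Group X] {G : Type u} [Group G] [Finite G] (L : Subgroup G)
    (hL : IsStandardSubgroup L) {F : Type*} [Field F] [Fintype F] (hF : Fintype.card F = 2)
    (ε : L ≃* PSp 3 F) (ι : X ≃* PSp 3 F) (hZ : center X = ⊥)
    (core : ∀ (H : Type u) [Group H] [Finite H] (F₀ L' : Subgroup H) (t : H), Cov X L' → Cfg F₀ L' t →
      (∃ z ∈ L', Inv2 z ∧ IsConj t (t * z)) ∧ Cl F F₀)
    (hR : ∀ R : Sylow 2 ↥(centralizer (L : Set G)),
      IsCyclic ↥(R : Subgroup ↥(centralizer (L : Set G)))) (hn : ¬ (L ⊔ oddCore G).Normal) :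
    Nonempty (↥(normalClosure (L : Set G)) ≃* POmega F (quadFormPlus 4 F)) ∨
      (∃ a b : F, (∀ z₁ z₂ : F, z₁ ^ 2 + a * z₁ * z₂ + b * z₂ ^ 2 = 0 → z₁ = 0 ∧ z₂ = 0) ∧
        Nonempty (↥(normalClosure (L : Set G)) ≃* POmega F (quadFormMinus 3 F a b))) ∨
      (∃ (K : Type) (_ : Field K) (_ : Fintype K), Fintype.card K = 4 ∧
        (Nonempty (↥(normalClosure (L : Set G)) ≃* PSU 6 K 2) ∨
          Nonempty (↥(normalClosure (L : Set G)) ≃* ↥(SU 6 K 2)) ∨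
          Nonempty (↥(normalClosure (L : Set G)) ≃* PSU 7 K 2) ∨
          Nonempty (↥(normalClosure (L : Set G)) ≃* PSp 3 K))) ∨
      Nonempty (↥(normalClosure (L : Set G)) ≃* Matrix.ProjectiveSpecialLinearGroup (Fin 6) F) ∨
      Nonempty (↥(normalClosure (L : Set G)) ≃* Matrix.ProjectiveSpecialLinearGroup (Fin 7) F) ∨
      Nonempty (↥(normalClosure (L : Set G)) ≃* ↥L × ↥L) := by
  have hp : commutator (layer G) = ⊤ := H64.commutator_eq_top_of_le H14.layer_perfect.ge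
  obtain ⟨h1, h2⟩ := (reduce hL (cyc_of_sylow hR) (ε.trans ι.symm) (by
    rw [← H59.map_center_mulEquiv (ε.trans ι.symm).symm, hZ, Subgroup.map_bot]) (fun Y _ => Cl F Y)
    core).resolve_left hn
  rw [h1]
  rcases h2 with ⟨Y, _, k, h⟩ | h
  · rcases k with ⟨⟨k⟩⟩ | ⟨⟨k⟩⟩ | ⟨K, _, _, hK, ⟨⟨k⟩⟩ | ⟨⟨k⟩⟩ | ⟨⟨k⟩⟩⟩ | ⟨⟨k⟩⟩ | ⟨a, b, ab, ⟨k⟩⟩
    · exact .inr (.inr (.inr (.inl (iso (Cfsg.Agent.S2086.result hF 6 (by omega) (by omega)
        (by simp)) (by simp) (h.trans k) hp))))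
    · exact .inr (.inr (.inr (.inr (.inl (iso (Cfsg.Agent.S2086.result hF 7 (by omega) (by omega)
        (by simp)) (by simp) (h.trans k) hp)))))
    · obtain ⟨s1, s2, s3⟩ := su6 hK
      exact .inr (.inr (.inl ⟨K, _, _, hK, (iso_or s2 s3 (s1 ▸ Nat.prime_three) (h.trans k) hp).imp_right
        .inl⟩))
    · exact .inr (.inr (.inl ⟨K, _, _, hK, .inr (.inr (.inl (iso (Cfsg.Agent.S2089.result 7 2 hK
        (by omega) (by omega) (by simp)) (by simp) (h.trans k) hp)))⟩))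
    · exact .inr (.inr (.inl ⟨K, _, _, hK, .inr (.inr (.inr (iso (Cfsg.Agent.S2092.result hK 3
        (by omega) (by omega) (by omega)) (by simp) (h.trans k) hp)))⟩))
    · exact .inl (iso (Cfsg.Agent.S2098.result hF) (by simp) (h.trans k) hp)
    · exact .inr (.inl ⟨a, b, ab, iso (Cfsg.Agent.S2099.result hF 4 le_rfl a b ab) (by simp)
        (h.trans k) hp⟩)
  · have : Finite X := Finite.of_equiv _ (ε.trans ι.symm).toEquiv
    have hm : multCard X = 2 := by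
      simpa using multCard_eq (multiplier_congr_left (Cfsg.Agent.S2093.result hF) ι.symm)
    obtain ⟨k⟩ := iso_of_oc2 (by
      rw [← map_commutator_of_surjective (ε.trans ι.symm).toMonoidHom (ε.trans ι.symm).surjective,
        hL.1.1.commutator_eq_top, ← MonoidHom.range_eq_map,
        MonoidHom.range_eq_top.2 (ε.trans ι.symm).surjective]) (by rw [hm]; norm_num) h hp
    exact .inr (.inr (.inr (.inr (.inr ⟨k.trans
      ((ε.trans ι.symm).symm.prodCongr (ε.trans ι.symm).symm)⟩))))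

end H78.S33
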