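import Cfsg.Agent.H70.R3Spec
import Cfsg.Agent.S0899
import Cfsg.Agent.S4503

/-! Row S4881, slot Big: large primes have normal Sylow subgroups. -/

set_option autoImplicit false

namespace H78.R3Big

open Cfsg H28 Subgroup

universe u

theorem jobBig : H70.R3.JobBig.{u} := by
  intro X _ _ d r hr ⟨χ, ⟨n, ρ, hρ⟩, hk, hd⟩ h P
  subst hρ
  have hn : charDegree ρ.character = n := by
    simp [charDegree, Representation.char_one]
  have hi : Function.Injective ρ := (injective_iff_map_eq_one ρ).2 fun g hg =>
    mem_bot.1 (hk ▸ (mem_charKer_rep ρ).2 hg)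
  rcases Nat.eq_zero_or_pos n with rfl | h0
  · have : Subsingleton X := ⟨fun a b => hi (Subsingleton.elim _ _)⟩
    exact ⟨fun a ha g => by rwa [Subsingleton.elim (g * a * g⁻¹) a]⟩
  refine Cfsg.Agent.S0899.result n ρ hi r (Or.inr ⟨by omega, fun K hK Q => ?_⟩) P
  by_cases h1 : r ∣ Nat.card K
  · by_contra h2
    have hf : (Nat.card K).factorization r = 1 := by
      have h3 := (hr.out.dvd_iff_one_le_factorization Nat.card_pos.ne').1 h1
      have h4 : ¬ 2 ≤ (Nat.card K).factorization r := fun h =>
        hK ((hr.out.pow_dvd_iff_le_factorization Nat.card_pos.ne').2 h)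
      omega
    have := Cfsg.Agent.S4503.result (G := K) r hr.out h1 hK (fun H hH e => h2 ?_)
      (fun x => ρ.character (K.subtype x)) (H28.Cfsg.IsCharacter.comp ⟨n, ρ, rfl⟩ K.subtype) fun g hg =>
        Subtype.ext (hi ((H29.char_eq_iff ρ g).1 (hg.trans (by simp [Representation.char_one])) |>.trans
          ρ.map_one.symm))
    · have h5 : charDegree (fun x : K => ρ.character (K.subtype x)) = n := hn
      omega
    · let S : Sylow r K := Sylow.ofCard H (by rw [e, hf, pow_one])
      have : (S : Subgroup K).Normal := hH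
      have := Sylow.unique_of_normal S this
      rwa [Subsingleton.elim Q S]
  · have : (Q : Subgroup K) = ⊥ := by
      rw [← card_eq_one, Q.card_eq_multiplicity, Nat.factorization_eq_zero_of_not_dvd h1, pow_zero]
    exact this ▸ inferInstance

end H78.R3Big
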