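import Cfsg.Agent.H67.SPSpec
import Cfsg.Agent.H86.SPIKit
import Cfsg.Agent.H54.SPFW
import Cfsg.Agent.H57.HyperInst

/-! STD-SP (row S3129), chapter II: `t ∼ t a₂`, `t ≁ t b₁` gives `L_(2k)(q)` or `U_(2k)(q)`.
`ℓ = ⟨e₀, e₁⟩`; `y u x` stands for `EE u (η • x) 0`, `η + η̄ = 1`, `η η̄ = δ`.
Notes: `blueprints/STDSP_II.md`. -/

set_option autoImplicit false
set_option linter.unusedSectionVars false

namespace H78.S2

open H64.SG (Cz Cs Ns)
open H67.UA hiding Par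
open H67.SP
open H67.SA (SLn la)
open Matrix Subgroup
open scoped MatrixGroups

universe u

section Facts

variable {n : ℕ} {F : Type} [Field F] [StarRing F] [TrivialStar F] [CharP F 2] [Finite F]

/-- `y ⊥ ℓ` -/
def Pl (y : Vn n F) : Prop := hf y (ev 0) = 0 ∧ hf y (ev 1) = 0
/-- `y ∈ ℓ^⊥ ∖ ℓ` -/
def Og (y : Vn n F) : Prop := Pl y ∧ ¬ Wk 2 y
/-- the complement `W₀` of `ℓ` in `ℓ^⊥` -/
def W0 (y : Vn n F) : Prop := Pl y ∧ y 0 = 0 ∧ y 1 = 0
/-- the general element of the short root subgroup of `ℓ` -/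
noncomputable abbrev zs (c : F) : XU n F := qq (c • ev 1) (ev 0)
/-- the upper half of the indices -/
def up {m : ℕ} (hm : n + 1 = 2 * (m + 2)) (i : Fin (m + 2)) : Fin (n + 1) := ⟨i, by omega⟩

variable (n F)

/-- the pointwise stabiliser of `ℓ` -/
abbrev P2 : Subgroup (XU n F) := Stab (ev 0) ⊓ Stab (ev 1)
/-- `C_X(a₂)` -/
noncomputable abbrev CC : Subgroup (XU n F) := Cz (xa n F)

/-- The stabiliser of `ℓ`. -/
structure FX : Prop where
  wk : ∀ y : Vn n F, Wk 2 y ↔ ∃ a b : F, y = a • ev 0 + b • ev 1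
  dec : ∀ y : Vn n F, Og y → ∃ y₀ m, W0 y₀ ∧ y₀ ≠ 0 ∧ Wk 2 m ∧ y = y₀ + m
  memC : ∀ p, p ∈ CC n F ↔ ∃ a b c d : F, ac p (ev 0) = a • ev 0 + b • ev 1 ∧
    ac p (ev 1) = c • ev 0 + d • ev 1 ∧ a * d + b * c = 1
  memM : ∀ g, g ∈ Mk n F 2 ↔ ∃ m c, Wk 2 m ∧ g = TT m * zs c
  nf : ∀ g, g ∈ Qk n F 2 ↔ ∃ v v', Pl v ∧ Pl v' ∧ ∃ m ∈ Mk n F 2,
    g = qq v (ev 0) * qq v' (ev 1) * m
  lev : ∀ a b c d : F, a * d + b * c ≠ 0 → ∃ r : XU n F, ac r (ev 0) = a • ev 0 + b • ev 1 ∧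
    ac r (ev 1) = c • ev 0 + d • ev 1 ∧ ∀ y, W0 y → ac r y = y
  tr : ∀ y y' : Vn n F, Og y → Og y' → ∃ p ∈ P2 n F, ac p y = y'
  nrm : ∀ p : XU n F, Wk 2 (ac p (ev 0)) → Wk 2 (ac p (ev 1)) → p ∈ Ns (Qk n F 2) ∧
    p ∈ Ns (Mk n F 2) ∧ p ∈ Ns (CC n F) ∧ (∀ y, Og y → Og (ac p y)) ∧
      ∃ l : F, l ≠ 0 ∧ ∀ c, p * zs c * p⁻¹ = zs (l * c)
  cM : Cs (Mk n F 2) = P2 n F
  uq : ∀ y y' : Vn n F, Og y → Og y' → ∀ m ∈ Mk n F 2, TT y = TT y' * m → y = y'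
  /-- prescribed images of the basis of `W₀` -/
  bas : ∀ f : Fin (n + 1) → Vn n F, (∀ i, W0 (ev i : Vn n F) → Pl (f i)) →
    (∀ i j, W0 (ev i : Vn n F) → W0 (ev j : Vn n F) → hf (f i) (f j) = hf (ev i) (ev j)) →
    ∃ p ∈ P2 n F, ∀ i, W0 (ev i : Vn n F) → ac p (ev i) = f i
  /-- induction over `W₀` -/
  ind : ∀ S : Vn n F → Prop, S 0 → (∀ y y', S y → S y' → S (y + y')) →
    (∀ (c : F) i, W0 (ev i : Vn n F) → S (c • ev i)) → ∀ y, W0 y → S y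
  sp3 : ∀ a b c v : Vn n F, Li3 a b c →
    (∀ s, hf s a = 0 → hf s b = 0 → hf s c = 0 → hf s v = 0) → ∃ r s w : F, v = r • a + s • b + w • c

/-- Generation. -/
structure FY : Prop where
  perf : 4 ≤ Nat.card F → CC n F ≤ ⁅CC n F, CC n F⁆
  gen : ∀ A : Subgroup (XU n F), (∀ y, Og y → TT y ∈ A) → P2 n F ≤ A
  genL : ∀ m (hm : n + 1 = 2 * (m + 2)) (A : Subgroup (XU n F)),
    (∀ i j c, i ≠ j → ss (up hm i) (up hm j) c ∈ A) → (∀ c, Tc c (ev (up hm (Fin.last _))) ∈ A) →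
    (∀ c, Tc c (ev (up hm (Fin.last _)).rev) ∈ A) → A = ⊤

end Facts

section Amb

variable {n : ℕ} {F : Type} [Field F] [StarRing F] [TrivialStar F] [CharP F 2] [Finite F]
  {G : Type u} [Group G] (e : XU n F →* G) (t : G)

/-- `g ∈ {e p, t e p}` -/
def Te (g : G) (p : XU n F) : Prop := g = e p ∨ g = t * e p

/-- What is used about `C(t)` and the class of `t`. -/
structure BV : Prop where
  inj : Function.Injective e
  tt : t * t = 1
  cen : ∀ g, t * e g = e g * t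
  ne : ∀ g, t ≠ e g
  nr : ∀ g, g = 1 ∨ Rt g → ¬ IsConj t (e g)
  sr : ∀ g, Sr g → Fu e t g
  lr : ∀ g u, g * t = t * g → Lr u → ∃ u', Lr u' ∧ g * e u * g⁻¹ = e u'
  v2 : ∀ g (x x' : Vn n F), g * t = t * g → hf x x' = 0 → Li x x' →
    (∀ p, ac p x = x → ac p x' = x' → g * e p = e p * g) → ∃ a b c : F,
      Te e t g (TT (a • x + b • x') * qq (c • x') x)
  vq : ∀ g (u : Vn n F), g * t = t * g → u ≠ 0 →
    (∀ v c, hf v u = 0 → g * e (EE u v c) = e (EE u v c) * g) →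
      ∃ v c, hf v u = 0 ∧ Te e t g (EE u v c)

/-- The group `N*`. -/
structure Nz (g : G) : Prop where
  tz : ∃ c : F, g * t * g⁻¹ = t * e (zs c)
  c1 : g ∈ Ns (zpowers t ⊔ (CC n F).map e)
  q2 : g ∈ Ns ((Qk n F 2).map e)

/-- The properties of `N*`. -/
structure NK : Prop where
  mul : ∀ g g', Nz e t g → Nz e t g' → Nz e t (g * g')
  inv : ∀ g, Nz e t g → Nz e t g⁻¹
  ofX : ∀ p : XU n F, Wk 2 (ac p (ev 0)) → Wk 2 (ac p (ev 1)) → Nz e t (e p)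
  cc : ∀ g, Nz e t g → ∀ p ∈ CC n F, ∃ p' ∈ CC n F, Te e t (g * e p * g⁻¹) p'
  pp : ∀ g, Nz e t g → ∀ p ∈ P2 n F, ∃ p' ∈ P2 n F, Te e t (g * e p * g⁻¹) p'
  qq : ∀ g, Nz e t g → ∀ p ∈ Qk n F 2, ∃ p' ∈ Qk n F 2, g * e p * g⁻¹ = e p'
  mm : ∀ g, Nz e t g → ∀ p ∈ Mk n F 2, ∃ p' ∈ Mk n F 2, g * e p * g⁻¹ = e p'
  zz : ∀ g, Nz e t g → ∀ c, ∃ c', g * e (zs c) * g⁻¹ = e (zs c')

/-- `g ∈ N*` moves `t` and fixes the transvections modulo `⟨t⟩ Q₂`. -/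
structure Kq (g : G) : Prop where
  nz : Nz e t g
  mv : g * t * g⁻¹ ≠ t
  tt : ∀ y, Og y → ∃ a ∈ Qk n F 2, Te e t (g * e (TT y) * g⁻¹) (TT y * a)

/-- `g ∈ N*` moves `t` and permutes the transvections modulo `⟨t⟩ M₂`. -/
structure Kf (g : G) (f : Vn n F → Vn n F) : Prop where
  nz : Nz e t g
  mv : g * t * g⁻¹ ≠ t
  tt : ∀ y, Og y → Wk 2 (f y + y) ∧ ∃ m ∈ Mk n F 2, Te e t (g * e (TT y) * g⁻¹) (TT (f y) * m)

/-- `w` moves `t` and multiplies the transvections by a constant. -/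
structure Km (w μ : G) : Prop where
  mv : ∃ c : F, c ≠ 0 ∧ w * t * w⁻¹ = t * e (zs c)
  mu : ∃ c : F, Te e t μ (zs c)
  tt : ∀ y, Og y → w * e (TT y) * w⁻¹ = e (TT y) * μ

/-- The result of part (a). -/
def W1 : Prop := ∃ w, (∀ p ∈ P2 n F, w * e p = e p * w) ∧ w * t * w⁻¹ = t * e (xa n F)

/-- `w` acts on `⟨t⟩ Q_u` as the translation by `x`. -/
structure Rw (u x : Vn n F) (w : G) : Prop where
  tr : w * t * w⁻¹ = t * e (qq x u)
  act : ∀ v c, hf v u = 0 → w * e (EE u v c) * w⁻¹ = e (EE u v (c + hf v x))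

/-- The normalised element. -/
def W2 : Prop := ∃ w, (∀ p ∈ P2 n F, w * e p = e p * w) ∧ Rw e t (ev 0) (ev 1) w ∧
  Rw e t (ev 1) (ev 0) w

/-- The family, first form. -/
structure Fam0 (y : Vn n F → Vn n F → G) : Prop where
  eqv : ∀ g u x, hf x u = 0 → e g * y u x * (e g)⁻¹ = y (ac g u) (ac g x)
  dep : ∀ u (c : F), y u (c • u) = e (Tc c u)
  zero : ∀ x, y 0 x = 1
  rl : ∀ u x, hf x u = 0 → Rw e t u x (y u x)
  rr : ∀ u x, hf x u = 0 → Rw e t x u (y u x)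
  sq : ∀ u x, hf x u = 0 → y u x * y u x = 1

/-- Additivity modulo `Z_u`. -/
def Add0 (y : Vn n F → Vn n F → G) : Prop := ∀ u x x', hf x u = 0 → hf x' u = 0 →
  ∃ c : F, y u x * y u x' = y u (x + x') * e (Tc c u)

/-- The symmetries. -/
structure Sym (y : Vn n F → Vn n F → G) : Prop where
  sw : ∀ u x, hf x u = 0 → y x u = y u x * e (qq x u)
  sm : ∀ (c : F) u x, hf x u = 0 → y (c • u) x = y u (c • x)

/-- Additivity. -/
def Ad (δ : F) (y : Vn n F → Vn n F → G) : Prop := ∀ u x x', hf x u = 0 → hf x' u = 0 →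
  y u x * y u x' = y u (x + x') * e (Tc (δ * hf x' x) u)

/-- The relations that do not involve `t`, first part. -/
structure Fam (δ : F) (y : Vn n F → Vn n F → G) : Prop extends Sym e y where
  eqv : ∀ g u x, hf x u = 0 → e g * y u x * (e g)⁻¹ = y (ac g u) (ac g x)
  dep : ∀ u (c : F), y u (c • u) = e (Tc c u)
  add : Ad e δ y

omit e t in
/-- Elements of one totally isotropic subspace commute. -/
def Com (y : Vn n F → Vn n F → G) : Prop := ∀ u x u' x', hf x u = 0 → hf x' u' = 0 → hf u' u = 0 →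
  hf u' x = 0 → hf x' u = 0 → hf x' x = 0 → Commute (y u x) (y u' x')

omit e t in
/-- The configuration of two short roots at 120 degrees. -/
structure Tq (u x u' f : Vn n F) : Prop where
  xu : hf x u = 0
  uu : hf u' u = 0
  ux : hf u' x = 0
  li : Li3 u x u'
  fu' : hf f u' = 0
  fx : hf f x = 0
  fu : hf f u = 1

/-- The relation of type `A₂`. -/
def Tri (ν : F) (y : Vn n F → Vn n F → G) : Prop := ∀ u x u' f, Tq u x u' f →
  y u x * y u' f * y u x = y u' f * y u' x * e (qq (ν • x) u')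

/-- All the relations that do not involve `t`. -/
structure Rel (δ : F) (y : Vn n F → Vn n F → G) : Prop extends Fam e δ y where
  com : Com y
  tri : Tri e δ y

omit e in
/-- The action of `t`. -/
def Tw (y : Vn n F → Vn n F → G) : Prop := ∀ u x, hf x u = 0 → t * y u x * t⁻¹ = y x u

omit t in
/-- The root elements of `SL`. -/
def xL (y : Vn n F → Vn n F → G) (i j : Fin (n + 1)) (a : F) : G := y (ev j.rev) (a • ev i)

variable {K : Type} [Field K] [StarRing K] [CharP K 2]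

omit t in
/-- `Z u x α` stands for `EE u (α • x) 0`. -/
structure UF (φ : F →+* K) (Z : Vn n F → Vn n F → K → G) : Prop where
  eqv : ∀ g u x α, hf x u = 0 → e g * Z u x α * (e g)⁻¹ = Z (ac g u) (ac g x) α
  rat : ∀ u x (a : F), hf x u = 0 → Z u x (φ a) = e (qq (a • x) u)
  add : ∀ u x α β, hf x u = 0 → Z u x α * Z u x β = Z u x (α + β)
  sw : ∀ u x α, hf x u = 0 → Z x u α = Z u x (star α)
  sm : ∀ (c : F) u x α, hf x u = 0 → Z u (c • x) α = Z u x (φ c * α)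
  dep : ∀ u α (c : F), φ c = tr α → Z u u α = e (Tc c u)
  ad2 : ∀ u x x' α (c : F), hf x u = 0 → hf x' u = 0 → φ c = nm α →
    Z u x α * Z u x' α = Z u (x + x') α * e (Tc (c * hf x' x) u)
  cm : ∀ u x x' α β (c : F), hf x u = 0 → hf x' u = 0 → φ c = tr (α * star β) →
    Z u x α * Z u x' β = Z u x' β * Z u x α * e (Tc (c * hf x' x) u)
  com : ∀ u x u' x' α β, hf x u = 0 → hf x' u' = 0 → hf u' u = 0 → hf u' x = 0 → hf x' u = 0 →
    hf x' x = 0 → Commute (Z u x α) (Z u' x' β)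
  tri : ∀ u x u' f α β, Tq u x u' f → Z u x α * Z u' f β * Z u x α = Z u' f β * Z u' x (α * β)

omit e in
/-- The action of `t`. -/
def TwU (Z : Vn n F → Vn n F → K → G) : Prop :=
  ∀ u x α, hf x u = 0 → t * Z u x α * t⁻¹ = Z u x (star α)

omit e t in
/-- The model. -/
noncomputable def zM (φ : F →+* K) (u x : Vn n F) (α : K) : XU n K :=
  EE (fun i => φ (u i)) (α • fun i => φ (x i)) 0

omit t in
/-- The subgroup generated by the family. -/
def Gn (Z : Vn n F → Vn n F → K → G) : Subgroup G :=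
  e.range ⊔ closure {g | ∃ u x α, hf x u = 0 ∧ g = Z u x α}

end Amb

/-- A fact that may use `Base` and `FC`. -/
def AllC (P : ∀ (_ : ℕ) (F : Type) [Field F] [StarRing F] [TrivialStar F] [CharP F 2] [Finite F],
    Prop) : Prop :=
  All fun n F _ _ _ _ _ => Base n F → FC n F → P n F

/-- An ambient statement that may use all the facts. -/
def AllX (P : ∀ (n : ℕ) (F : Type) [Field F] [StarRing F] [TrivialStar F] [CharP F 2] [Finite F]
    (G : Type u) [Group G], (XU n F →* G) → G → Prop) : Prop :=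
  AllA.{u} fun n F _ _ _ _ _ G _ e t => FX n F → FY n F → P n F G e t

/-- A statement for all quadratic extensions. -/
def AllK (F : Type) [Field F] [StarRing F] (P : ∀ (K : Type) [Field K] [StarRing K] [CharP K 2]
    [Finite K] (x : Qx F K), (∀ a : K, star a = x.σ a) → Prop) : Prop :=
  ∀ (K : Type) [Field K] [StarRing K] [CharP K 2] [Finite K] (x : Qx F K)
    (h : ∀ a : K, star a = x.σ a), P K x h

def JobFX : Prop := AllC fun n F _ _ _ _ _ => FX n F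
def JobFY : Prop := AllC fun n F _ _ _ _ _ => FX n F → FY n F

def JobA0 : Prop := AllA.{u} fun n F _ _ _ _ _ _ _ e t => CH e t → Mv e t (xa n F) → BV e t
def JobNK : Prop := AllX.{u} fun _ _ _ _ _ _ _ _ _ e t => BV e t → NK e t
def JobP1 : Prop := AllX.{u} fun n F _ _ _ _ _ _ _ e t => CH e t → Mv e t (xa n F) →
  ∃ g, Nz e t g ∧ g * t * g⁻¹ ≠ t
def JobP2a : Prop := AllX.{u} fun _ F _ _ _ _ _ _ _ e t => BV e t → NK e t → 4 ≤ Nat.card F →
  ∀ g, Nz e t g → g * t * g⁻¹ ≠ t → ∃ g', Kq e t g'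
def JobP2b : Prop := AllX.{u} fun _ F _ _ _ _ _ _ _ e t => BV e t → NK e t → Nat.card F = 2 →
  ∀ g, Nz e t g → g * t * g⁻¹ ≠ t → ∃ g', Kq e t g'
def JobP3a : Prop := AllX.{u} fun _ _ _ _ _ _ _ _ _ e t => BV e t → NK e t →
  ∀ g, Kq e t g → ∃ f, Kf e t g f
def JobP3b : Prop := AllX.{u} fun _ _ _ _ _ _ _ _ _ e t => BV e t → NK e t →
  ∀ g f, Kf e t g f → ∃ w μ, Km e t w μ
def JobP4 : Prop := AllX.{u} fun _ _ _ _ _ _ _ _ _ e t => BV e t → ∀ w μ, Km e t w μ → W1 e t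

def JobB1 : Prop := AllX.{u} fun _ _ _ _ _ _ _ _ _ e t => BV e t → (∀ g, Lr g → ¬ Fu e t g) →
  W1 e t → W2 e t
def JobB2 : Prop := AllX.{u} fun _ _ _ _ _ _ _ _ _ e t => BV e t → W2 e t → ∃ y, Fam0 e t y
def JobB3 : Prop := AllX.{u} fun _ _ _ _ _ _ _ _ _ e t => BV e t → ∀ y, Fam0 e t y → Add0 e y
def JobB4 : Prop := AllX.{u} fun _ _ _ _ _ _ _ _ _ e t => BV e t → ∀ y, Fam0 e t y → Sym e y
def JobB5 : Prop := AllX.{u} fun _ _ _ _ _ _ _ _ _ e t => BV e t → ∀ y, Fam0 e t y → Add0 e y →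
  Sym e y → ∃ δ, Ad e δ y
def JobC1 : Prop := AllX.{u} fun _ _ _ _ _ _ _ _ _ e t => BV e t → ∀ δ y, Fam0 e t y → Fam e δ y →
  Com y
def JobC2 : Prop := AllX.{u} fun _ _ _ _ _ _ _ _ _ e t => BV e t → ∀ δ y, Fam0 e t y → Fam e δ y →
  ∃ ν, Tri e ν y
def JobC3 : Prop := AllX.{u} fun _ _ _ _ _ _ _ _ _ e _ => Function.Injective e → ∀ δ ν y,
  Fam e δ y → Tri e ν y → ν = δ
def JobSH : Prop := AllX.{u} fun _ _ _ _ _ _ _ _ _ e _ => ∀ δ y c, Rel e δ y →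
  Rel e (δ + c + c ^ 2) fun u x => y u x * e (qq (c • x) u)

def JobL1 : Prop := AllX.{u} fun _ _ _ _ _ _ _ _ _ e _ => ∀ y, Rel e 0 y → H57.StA (xL y)
def JobL2 : Prop := AllX.{u} fun _ _ _ _ _ _ _ _ _ e t => BV e t → ∀ y, Rel e 0 y → Tw t y →
  H57.StA (xL y) → RL0 e t

def JobQX : Prop := ∀ (F : Type) [Field F] [CharP F 2] [Finite F] (δ : F), (∀ c, δ + c + c ^ 2 ≠ 0) →
  ∃ (K : Type) (_ : Field K) (_ : StarRing K) (_ : CharP K 2) (_ : Finite K) (x : Qx F K),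
    (∀ a : K, star a = x.σ a) ∧ ∃ η : K, tr η = 1 ∧ nm η = x.φ δ
def JobUZ : Prop := AllX.{u} fun _ F _ _ _ _ _ _ _ e t => BV e t → ∀ δ y, Rel e δ y → Tw t y →
  AllK F fun K _ _ _ _ x _ => ∀ η : K, tr η = 1 → nm η = x.φ δ → ∃ Z, UF e x.φ Z ∧ TwU t Z
def JobUM : Prop := All fun n F _ _ _ _ _ => AllK F fun _ _ _ _ _ x h =>
  UF (bc (m := n) x.φ (x.st (Or.inr h))) x.φ (zM x.φ) ∧
    ∀ u v α, hf v u = 0 → fa x.σ (x.sf (Or.inr h)) (zM (n := n) x.φ u v α) = zM x.φ u v (star α)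

/-- The Levi data of the model. -/
def LVF (n : ℕ) (F K : Type) [Field F] [Finite F] [Field K] [StarRing K] [CharP K 2] [Finite K]
    (φ : F →+* K) : Prop := ∀ m (hm : n + 1 = 2 * (m + 2)),
  ∃ (D : H54.CD K (Fin (n + 1)) (Fin (m + 2)) (XU n K)) (V : H57.LV D) (L : H57.LG V F)
    (μ : SL(2, F) →* XU n K), H57.IsMu L (Fin.last (m + 1)) μ ∧ V.lev.range ⊔ μ.range = ⊤ ∧
      (∀ i j (h : i ≠ j) a, V.lev (SpecialLinearGroup.transvection h a) = ss (up hm i) (up hm j) a) ∧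
      (∀ c, μ (H65.sl2U c) = Tc (φ c) (ev (up hm (Fin.last _)))) ∧
      ∀ c, μ (H65.sl2L c) = Tc (φ c) (ev (up hm (Fin.last _)).rev)

def JobLV : Prop := All fun n F _ _ _ _ _ => AllK F fun K _ _ _ _ x _ => LVF n F K x.φ

/-- Curtis–Tits: the relations `UF` define the model. -/
def CT (n : ℕ) (F K : Type) [Field F] [StarRing F] [TrivialStar F] [CharP F 2] [Finite F] [Field K]
    [StarRing K] [CharP K 2] (x : Qx F K) (h : ∀ a : K, star a = x.σ a) : Prop :=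
  Gn (bc (m := n) x.φ (x.st (Or.inr h))) (zM x.φ) = ⊤ ∧
    ∀ (J : Type u) [Group J] (f : J →* XU n K) (e : XU n F →* J) (Z : Vn n F → Vn n F → K → J),
      UF e x.φ Z → (∀ g, f (e g) = bc x.φ (x.st (Or.inr h)) g) →
      (∀ u v α, hf v u = 0 → f (Z u v α) = zM x.φ u v α) → ∀ g ∈ Gn e Z, f g = 1 → g = 1

def JobCT : Prop := AllC fun n F _ _ _ _ _ => FX n F → FY n F → AllK F fun K _ _ _ _ x h =>
  LVF n F K x.φ → CT.{u} n F K x h
def JobRU : Prop := JobUM → AllX.{u} fun n F _ _ _ _ _ _ _ e t => BV e t →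
  AllK F fun K _ _ _ _ x h => CT.{u} n F K x h → ∀ Z, UF e x.φ Z → TwU t Z →
    ∃ Φ, Hm (bc x.φ (x.st (Or.inr h))) (fa x.σ (x.sf (Or.inr h))) e t Φ

/-- Part (a): it uses only `Mv e t a₂`. -/
def JobW1 : Prop := AllA.{u} fun n F _ _ _ _ _ _ _ e t => CH e t → Mv e t (xa n F) → W1 e t

theorem card_cases (F : Type) [Field F] [CharP F 2] [Finite F] :
    Nat.card F = 2 ∨ 4 ≤ Nat.card F := by
  have := Fintype.ofFinite F
  obtain ⟨k, -, h⟩ := FiniteField.card F 2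
  rw [Nat.card_eq_fintype_card, h]
  obtain ⟨_ | _ | k, hk⟩ := k
  · simp at hk
  · exact Or.inl rfl
  · exact Or.inr (show 2 ^ 2 ≤ 2 ^ (k + 2) from Nat.pow_le_pow_right (by decide) (by omega))

theorem jobW1 (fx : JobFX) (fy : JobFY) (a0 : JobA0.{u}) (nk : JobNK.{u}) (p1 : JobP1.{u})
    (p2a : JobP2a.{u}) (p2b : JobP2b.{u}) (p3a : JobP3a.{u}) (p3b : JobP3b.{u}) (p4 : JobP4.{u}) :
    JobW1.{u} := by
  intro n F _ _ _ _ _ _ G _ _ e t b c h m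
  have x := fx n F b c
  have y := fy n F b c x
  have v := a0 n F G e t b c h m
  have k := nk n F G e t b c x y v
  obtain ⟨g, g1, g2⟩ := p1 n F G e t b c x y h m
  obtain ⟨g, hg⟩ := (card_cases F).elim (fun q => p2b n F G e t b c x y v k q g g1 g2)
    fun q => p2a n F G e t b c x y v k q g g1 g2
  obtain ⟨f, hf⟩ := p3a n F G e t b c x y v k g hg
  obtain ⟨w, μ, hw⟩ := p3b n F G e t b c x y v k g f hf
  exact p4 n F G e t b c x y v w μ hw

/-- Chapter II with the facts as hypotheses. -/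
def JobII' : Prop := AllA.{u} fun _ _ _ _ _ _ _ _ _ e t => CH e t → CA e t → RL0 e t ∨ RU0 e t

theorem jobII' (fx : JobFX) (fy : JobFY) (a0 : JobA0.{u}) (w1 : JobW1.{u}) (b1 : JobB1.{u})
    (b2 : JobB2.{u}) (b3 : JobB3.{u}) (b4 : JobB4.{u}) (b5 : JobB5.{u}) (c1 : JobC1.{u})
    (c2 : JobC2.{u}) (c3 : JobC3.{u}) (sh : JobSH.{u}) (l1 : JobL1.{u}) (l2 : JobL2.{u})
    (qx : JobQX) (uz : JobUZ.{u}) (um : JobUM) (lv : JobLV) (ct : JobCT.{u}) (ru : JobRU.{u}) :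
    JobII'.{u} := by
  intro n F _ _ _ _ _ _ G _ _ e t b c h m
  have x := fx n F b c
  have z := fy n F b c x
  have v := a0 n F G e t b c h m.1
  have nb : ∀ g, Lr g → ¬ Fu e t g := fun g hg k => m.2 (by
    obtain ⟨a, rfl⟩ := isConj_iff.1 ((FR.lr g).1 hg)
    refine k.trans (isConj_iff.2 ⟨(e a)⁻¹, ?_⟩)
    rw [map_mul, map_mul, map_inv, ← mul_assoc t, ← mul_assoc t, v.cen a]
    group)
  obtain ⟨y, f0⟩ := b2 n F G e t b c x z v (b1 n F G e t b c x z v nb (w1 n F G e t b c h m.1))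
  have s := b4 n F G e t b c x z v y f0
  obtain ⟨δ, ad⟩ := b5 n F G e t b c x z v y f0 (b3 n F G e t b c x z v y f0) s
  have f : Fam e δ y := ⟨s, f0.eqv, f0.dep, ad⟩
  obtain ⟨ν, tr⟩ := c2 n F G e t b c x z v δ y f0 f
  obtain rfl := c3 n F G e t b c x z v.inj δ ν y f tr
  have r : Rel e ν y := ⟨f, c1 n F G e t b c x z v ν y f0 f, tr⟩
  have cq : ∀ (a : F) u x, hf x u = 0 → e (qq (a • x) u) * y u x = y u x * e (qq (a • x) u) :=
    fun a u x h0 => by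
      have h1 := H86.SPI.ac_qq_comb (hf_symm h0) a 1 0
      have h2 := H86.SPI.ac_qq_comb (hf_symm h0) a 0 1
      simp only [one_smul, zero_smul, add_zero, zero_add] at h1 h2
      rw [← mul_inv_eq_iff_eq_mul, f0.eqv _ u x h0, h1, h2]
  have tw : Tw t y := fun u x h0 => by
    have h1 := mul_inv_eq_iff_eq_mul.1 (f0.rl u x h0).tr
    have h2 := cq 1 u x h0
    rw [one_smul] at h2
    rw [s.sw u x h0, ← h2, inv_eq_of_mul_eq_one_right v.tt, mul_assoc, h1, ← mul_assoc, ← mul_assoc,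
      v.tt, one_mul]
  by_cases hc : ∃ a, ν + a + a ^ 2 = 0
  · obtain ⟨a, ha⟩ := hc
    have r' := sh n F G e t b c x z ν y a r
    rw [ha] at r'
    refine Or.inl (l2 n F G e t b c x z v _ r' (fun u x h0 => ?_) (l1 n F G e t b c x z _ r'))
    rw [← tw u x h0, qq_comm (a • u) x, ← star_trivial a, ← qq_smul, star_trivial a, ← mul_assoc,
      mul_assoc _ (e _), mul_assoc _ t⁻¹, inv_eq_of_mul_eq_one_right v.tt, v.cen (qq _ _)]
  · obtain ⟨K, _, _, _, _, q, hq, η, e1, e2⟩ := qx F ν fun a ha => hc ⟨a, ha⟩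
    obtain ⟨Z, z1, z2⟩ := uz n F G e t b c x z v ν y r tw K q hq η e1 e2
    exact Or.inr ⟨K, _, _, _, inferInstance, q, hq,
      ru um n F G e t b c x z v K q hq (ct n F b c x z K q hq (lv n F K q hq)) Z z1 z2⟩

end H78.S2
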