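import Cfsg.Agent.H59.SPFV
import Cfsg.Agent.H54.SPFA
import Cfsg.Agent.H72.SPFR
import Cfsg.Agent.H37.SPPC
import Cfsg.Agent.H62.SPFC
import Cfsg.Agent.H59.S2FX
import Cfsg.Agent.H62.SP2FY

/-! STD-SP (row S3129): the facts on `X`, without hypotheses. -/

set_option autoImplicit false

namespace H78.S2

open H67.SP

variable (n : ℕ) (F : Type) [Field F] [StarRing F] [TrivialStar F] [CharP F 2] [Finite F] [Par n F]

theorem base : Base n F :=
  have v := H59.SPV.jobFV n F
  have w := H54.SPF.jobFW n F v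
  have a := H54.SPF.jobFA n F v w
  { v, w, a, H72.SPF.jobFR n F v w a with }

theorem fc : FC n F := H62.SPFC.jobFC n F (base n F) (H37.SP.jobPC n F (base n F))

theorem fX : FX n F := H59.S2FX.jobFX n F (base n F) (fc n F)

theorem fY : FY n F := H62.SP2FY.jobFY n F (base n F) (fc n F) (fX n F)

end H78.S2
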