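/- Groups acting on `2⁸` with elements of order three fixing a four-group (tower of S3253). -/
import Cfsg.Agent.H48.T3Lem

set_option autoImplicit false

namespace H78.T3
open Subgroup Cfsg H98 H96.CG H48.T3 MulAction

section
variable {K : Type*} (D : Type*) [Group K] [Group D] [MulDistribMulAction K D]

/-- the fixed points of `g` -/
def Fx (g : K) : Subgroup D where
  carrier := {d | g • d = d}
  one_mem' := smul_one g
  mul_mem' := fun {a b} ha hb => by
    show g • (a * b) = a * b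
    rw [smul_mul', ha, hb]
  inv_mem' := fun {a} ha => by
    show g • a⁻¹ = a⁻¹
    rw [smul_inv', ha]

variable {D}

theorem mem_Fx {g : K} {d : D} : d ∈ Fx D g ↔ g • d = d := Iff.rfl

theorem card_Fx_conj (c g : K) : Nat.card (Fx D (c * g * c⁻¹)) = Nat.card (Fx D g) :=
  Nat.card_congr
    { toFun := fun d => ⟨c⁻¹ • d.1, by
        have := mem_Fx.mp d.2
        rw [mem_Fx, ← mul_smul, show g * c⁻¹ = c⁻¹ * (c * g * c⁻¹) by group, mul_smul, this]⟩
      invFun := fun d => ⟨c • d.1, by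
        have := mem_Fx.mp d.2
        rw [mem_Fx, ← mul_smul, show c * g * c⁻¹ * c = c * g by group, mul_smul, this]⟩
      left_inv := fun d => Subtype.ext (smul_inv_smul c d.1)
      right_inv := fun d => Subtype.ext (inv_smul_smul c d.1) }

theorem Fx_le_of_mem {f g : K} (h : g ∈ zpowers f) : Fx D f ≤ Fx D g := fun d hd =>
  (zpowers_le.mpr (mem_stabilizer_iff.mpr hd) : zpowers f ≤ stabilizer K d) h

end

/-- the action of `N(D) / D` on `D` -/
structure Ac (K D : Type*) [Group K] [Group D] [MulDistribMulAction K D] : Prop where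
  card : Nat.card D = 256
  sq : ∀ d : D, d * d = 1
  fix4 : ∀ s : K, orderOf s = 3 → Nat.card (Fx D s) = 4
  stab : ∀ s : K, orderOf s = 3 → ∀ g : K, Fx D s ≤ Fx D g → g ∈ zpowers s
  tr : ∀ s : K, orderOf s = 3 → ∀ d ∈ Fx D s, ∀ v ∈ Fx D s, d ≠ 1 → v ≠ 1 →
    ∃ g : K, g ^ 3 = 1 ∧ g • d = v
  cs : ∀ s : K, orderOf s = 3 → ∀ g : K, g * s = s * g → ∀ d ∈ Fx D s, d ≠ 1 → g • d = d →
    g ∈ zpowers s
  c3 : ∀ s : K, orderOf s = 3 → ∀ g : K, g * s = s * g → g ^ 3 = 1

theorem mem_zpowers_coe {K : Type*} [Group K] {L : Subgroup K} {g s : L}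
    (h : (g : K) ∈ zpowers (s : K)) : g ∈ zpowers s := by
  obtain ⟨k, hk⟩ := h
  exact ⟨k, Subtype.ext (by simpa using hk)⟩

/-- a class of self-centralizing elements of order three -/
theorem cls {X : Type*} [Group X] [Finite X] {s : X} (hs : orderOf s = 3)
    (hc : ∀ g : X, g * s = s * g → g ∈ zpowers s) : ∃ (T : Set X) (c : ℕ),
      (∀ t ∈ T, orderOf t = 3) ∧ Nat.card X = 3 * c ∧
        (T.ncard = 2 * c ∨ (T.ncard = c ∧ c % 3 = 2)) := by
  classical
  have key : ∀ r : X, zpowers r = zpowers s →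
      Nat.card X = 3 * (orbit (ConjAct X) r).ncard := by
    intro r hr
    have h1 : Nat.card (stabilizer (ConjAct X) r) = 3 := by
      rw [← hs, ← Nat.card_zpowers]
      refine Nat.card_congr (ConjAct.toConjAct.toEquiv.subtypeEquiv fun g => ?_).symm
      show g ∈ zpowers s ↔ g * r * g⁻¹ = r
      rw [mul_inv_eq_iff_eq_mul]
      constructor
      · intro hg
        rw [← hr] at hg
        obtain ⟨k, rfl⟩ := hg
        exact (Commute.refl r).zpow_left k
      · intro hg
        obtain ⟨k, hk⟩ : s ∈ zpowers r := hr ▸ mem_zpowers s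
        exact hc g (hk ▸ (show Commute g r from hg).zpow_right k)
    rw [← index_stabilizer, ← h1, card_mul_index]
    exact Nat.card_congr ConjAct.toConjAct.toEquiv
  have ho : ∀ r : X, orderOf r = 3 → ∀ t ∈ orbit (ConjAct X) r, orderOf t = 3 := by
    rintro r hr _ ⟨g, rfl⟩
    exact (ord_cj _ r).trans hr
  have k1 := key s rfl
  have k2 := key s⁻¹ zpowers_inv
  by_cases hi : s⁻¹ ∈ orbit (ConjAct X) s
  · refine ⟨_, _, ho s hs, k1, Or.inr ⟨rfl, ?_⟩⟩
    have : Fact (Nat.Prime 3) := ⟨by norm_num⟩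
    have hp : IsPGroup 3 (zpowers (ConjAct.toConjAct s)) :=
      isPGroup_zpowers (k := 1) (by rw [pow_one, ← map_pow, pow3_of hs, map_one])
    have h := hp.card_modEq_card_fixedPoints (orbit (ConjAct X) s)
    have h2 : Nat.card (fixedPoints (zpowers (ConjAct.toConjAct s)) (orbit (ConjAct X) s)) = 2 := by
      rw [Nat.card_eq_two_iff]
      have hf : ∀ t : orbit (ConjAct X) s, (t : X) ∈ zpowers s →
          t ∈ fixedPoints (zpowers (ConjAct.toConjAct s)) (orbit (ConjAct X) s) := by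
        rintro t ⟨j, hj⟩ ⟨_, k, rfl⟩
        refine Subtype.ext ?_
        show s ^ k * t * (s ^ k)⁻¹ = t
        rw [← hj]; group
      refine ⟨⟨⟨s, mem_orbit_self s⟩, hf _ (mem_zpowers s)⟩,
        ⟨⟨s⁻¹, hi⟩, hf _ (inv_mem (mem_zpowers s))⟩, fun e => ne_inv_of hs ?_, ?_⟩
      · exact congrArg (fun z => (z.1 : X)) e
      · rw [Set.eq_univ_iff_forall]
        rintro ⟨⟨t, ht⟩, h⟩
        have e : s * t * s⁻¹ = t := congrArg Subtype.val (h ⟨_, mem_zpowers _⟩)
        rcases (mem_zp hs).mp (hc t (mul_inv_eq_iff_eq_mul.mp e).symm) with e | e | e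
        · exact absurd e (ne_one_of (ho s hs t ht))
        · exact Or.inl (Subtype.ext (Subtype.ext e))
        · exact Or.inr (Subtype.ext (Subtype.ext e))
    rw [h2, Nat.card_coe_set_eq] at h
    exact h
  · refine ⟨orbit (ConjAct X) s ∪ orbit (ConjAct X) s⁻¹, _, ?_, k1, Or.inl ?_⟩
    · rintro t (h | h)
      exacts [ho s hs t h, ho s⁻¹ (by rw [orderOf_inv, hs]) t h]
    · rw [Set.ncard_union_eq]
      · omega
      · rw [Set.disjoint_left]
        intro t h1 h2
        exact hi (by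
          rw [← orbit_eq_iff.mpr h1, orbit_eq_iff.mpr h2]; exact mem_orbit_self _)

namespace Ac
variable {K D : Type*} [Group K] [Group D] [MulDistribMulAction K D] (A : Ac K D)
include A

theorem fin : Finite D := Nat.finite_of_card_ne_zero (by rw [A.card]; norm_num)

theorem inv (d : D) : d⁻¹ = d := inv_eq_of_mul_eq_one_right (A.sq d)

theorem comm (a b : D) : a * b = b * a := by
  rw [← A.inv (a * b), mul_inv_rev, A.inv, A.inv]

theorem sub (L : Subgroup K) (hL : ∀ g : K, g ^ 3 = 1 → g ∈ L) : Ac L D where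
  card := A.card
  sq := A.sq
  fix4 s hs := A.fix4 s (by rw [orderOf_coe, hs])
  stab s hs g h := mem_zpowers_coe (A.stab s (by rw [orderOf_coe, hs]) g h)
  tr s hs d hd v hv h1 h2 := by
    obtain ⟨g, h3, h4⟩ := A.tr s (by rw [orderOf_coe, hs]) d hd v hv h1 h2
    exact ⟨⟨g, hL g h3⟩, Subtype.ext h3, h4⟩
  cs s hs g h d hd h1 h2 := mem_zpowers_coe
    (A.cs s (by rw [orderOf_coe, hs]) g (congrArg Subtype.val h) d hd h1 h2)
  c3 s hs g h := Subtype.ext (A.c3 s (by rw [orderOf_coe, hs]) g (congrArg Subtype.val h))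

theorem ge16 {a : K} (ha : a * a = 1) : 256 ≤ Nat.card (Fx D a) * Nat.card (Fx D a) := by
  have := A.fin
  let φ : D →* D := MonoidHom.mk' (fun d => d * a • d) fun d e => by
    rw [smul_mul', mul_assoc, mul_assoc, ← mul_assoc e, A.comm e (a • d), mul_assoc]
  have h1 : φ.ker ≤ Fx D a := fun d hd => by
    have : d * a • d = 1 := hd
    rw [mem_Fx, eq_inv_of_mul_eq_one_right this, A.inv]
  have h2 : φ.range ≤ Fx D a := by
    rintro _ ⟨d, rfl⟩
    show a • (d * a • d) = d * a • d
    rw [smul_mul', ← mul_smul, ha, one_smul, A.comm]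
  rw [← A.card, ← φ.ker.card_mul_index, index_ker]
  exact Nat.mul_le_mul (card_le_of_le h1) (card_le_of_le h2)

/-- an involution that inverts an element of odd order with few common fixed points -/
theorem free {a f : K} (ha : a * a = 1) (hf : a * f * a⁻¹ = f⁻¹) (ho : f ∈ zpowers (f * f))
    (h2 : Nat.card (Fx D f ⊓ Fx D a : Subgroup D) ≤ 2) : Nat.card (Fx D a) = 16 := by
  have := A.fin
  have h1 := A.ge16 ha
  have e : f * a * f⁻¹ = f * f * a := by
    calc _ = f * (a * f * a⁻¹)⁻¹ * a := by group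
      _ = _ := by rw [hf, inv_inv]
  have hle : Fx D a ⊓ Fx D (f * a * f⁻¹) ≤ Fx D f ⊓ Fx D a := fun d hd =>
    ⟨Fx_le_of_mem ho (by
      have h3 := mem_Fx.mp hd.2
      rwa [e, mul_smul, mem_Fx.mp hd.1] at h3), hd.1⟩
  have h3 := (card_le_of_le hle).trans h2
  have h4 := index_inf_le (H := Fx D a) (K := Fx D (f * a * f⁻¹))
  have h5 := card_mul_index (Fx D a ⊓ Fx D (f * a * f⁻¹))
  have h6 := card_mul_index (Fx D a)
  have h7 := card_mul_index (Fx D (f * a * f⁻¹))
  rw [card_Fx_conj] at h7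
  rw [A.card] at h5 h6 h7
  generalize Nat.card (Fx D a) = n at *
  generalize (Fx D a).index = i at *
  generalize (Fx D (f * a * f⁻¹)).index = j at *
  have hn : 0 < n := by nlinarith
  have hij : j = i := Nat.eq_of_mul_eq_mul_left hn (h7.trans h6.symm)
  subst hij
  have h8 : 128 ≤ j * j := by nlinarith
  have h9 : 16 ≤ n := by nlinarith
  have h10 : 12 ≤ j := by nlinarith
  have h11 : n ≤ 21 := by nlinarith
  interval_cases n <;> omega

theorem free3 {a f : K} (h1 : a ≠ 1) (ha : a * a = 1) (hf : a * f * a⁻¹ = f⁻¹)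
    (ho : orderOf f = 3) : Nat.card (Fx D a) = 16 := by
  have := A.fin
  refine A.free ha hf (by rw [cube_of ho, zpowers_inv]; exact mem_zpowers f) ?_
  have hd := card_dvd_of_le (inf_le_left : Fx D f ⊓ Fx D a ≤ Fx D f)
  rw [A.fix4 f ho] at hd
  have hne : Nat.card (Fx D f ⊓ Fx D a : Subgroup D) ≠ 4 := fun e => by
    have := eq_of_le_of_card_ge (inf_le_left : Fx D f ⊓ Fx D a ≤ Fx D f) (by rw [e, A.fix4 f ho])
    rcases (mem_zp ho).mp (A.stab f ho a (inf_eq_left.mp this)) with e | e | e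
    · exact h1 e
    · rw [e, cube_of ho] at ha; exact ne_one_of ho (inv_eq_one.mp ha)
    · rw [e, ← mul_inv_rev, cube_of ho, inv_inv] at ha; exact ne_one_of ho ha
  have := Nat.le_of_dvd (by norm_num) hd
  generalize Nat.card (Fx D f ⊓ Fx D a : Subgroup D) = n at *
  interval_cases n <;> omega

/-- stabilizers of order divisible by three -/
theorem three [Finite K] {d : D} (hd : d ≠ 1) (h3 : 3 ∣ Nat.card (stabilizer K d)) :
    ∃ c, Nat.card (stabilizer K d) = 3 * c ∧
      (2 * c < (stabilizer K d).index ∨ (c < (stabilizer K d).index ∧ c % 3 = 2)) := by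
  classical
  have := A.fin
  have : Fact (Nat.Prime 3) := ⟨by norm_num⟩
  obtain ⟨s, hs⟩ := exists_prime_orderOf_dvd_card' 3 h3
  obtain ⟨T, c, hT, hc, h⟩ := cls hs fun g hg => mem_zpowers_coe
    (A.cs s (by rw [orderOf_coe, hs]) g (congrArg Subtype.val hg) d s.2 hd g.2)
  refine ⟨c, hc, ?_⟩
  suffices T.ncard < (stabilizer K d).index by omega
  rw [index_stabilizer]
  have hO : (orbit K d \ {d}).ncard < (orbit K d).ncard :=
    Set.ncard_lt_ncard (Set.sdiff_singleton_ssubset.mpr (mem_orbit_self d))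
  refine lt_of_le_of_lt ?_ hO
  have := Finset.card_mul_le_card_mul (m := 2) (n := 2)
    (fun (t : stabilizer K d) (v : D) => (t : K) • v = v)
    (s := (Set.toFinite T).toFinset) (t := (Set.toFinite (orbit K d \ {d})).toFinset) ?_ ?_
  · rw [Set.ncard_eq_toFinset_card, Set.ncard_eq_toFinset_card]; omega
  · intro t ht
    have o3 : orderOf (t : K) = 3 := by rw [orderOf_coe, hT t (by simpa using ht)]
    have e2 : (((Fx D (t : K) : Set D) \ {1}) \ {d}).ncard = 2 := by
      rw [Set.ncard_sdiff_singleton_of_mem (show d ∈ (Fx D (t : K) : Set D) \ {1} from ⟨t.2, hd⟩),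
        Set.ncard_sdiff_singleton_of_mem (one_mem (Fx D (t : K))), ← Nat.card_coe_set_eq,
        show Nat.card (Fx D (t : K) : Set D) = 4 from A.fix4 _ o3]
    rw [← e2, ← Set.ncard_coe_finset]
    refine Set.ncard_le_ncard ?_
    rintro v ⟨⟨h1, h2⟩, h3⟩
    obtain ⟨g, -, hg⟩ := A.tr _ o3 d t.2 v h1 hd h2
    simp only [Finset.coe_bipartiteAbove, Set.Finite.mem_toFinset, Set.mem_ofPred_eq]
    exact ⟨⟨⟨g, hg⟩, h3⟩, h1⟩
  · intro v hv
    obtain ⟨⟨g, hg⟩, hvd⟩ : v ∈ orbit K d \ {d} := by simpa using hv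
    have hv1 : v ≠ 1 := by
      rintro rfl
      exact hd ((eq_inv_smul_iff.mpr hg).trans (smul_one _))
    rcases (Finset.bipartiteBelow (fun (t : stabilizer K d) (v : D) => (t : K) • v = v)
      (Set.toFinite T).toFinset v).eq_empty_or_nonempty with e | ⟨t, ht⟩
    · rw [e]; simp
    rw [Finset.mem_bipartiteBelow] at ht
    have o3 : orderOf t = 3 := hT t (by simpa using ht.1)
    have o3' : orderOf (t : K) = 3 := by rw [orderOf_coe, o3]
    refine le_trans (Finset.card_le_card (t := {t, t⁻¹}) fun r hr => ?_) Finset.card_le_two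
    rw [Finset.mem_bipartiteBelow] at hr
    have hle : Fx D (t : K) ⊓ Fx D (r : K) ≤ Fx D (t : K) := inf_le_left
    have hdv := card_dvd_of_le hle
    rw [A.fix4 _ o3'] at hdv
    have h3 : 3 ≤ Nat.card (Fx D (t : K) ⊓ Fx D (r : K) : Subgroup D) := by
      have : ({1, d, v} : Set D).ncard = 3 :=
        Set.ncard_eq_three.mpr ⟨1, d, v, hd.symm, hv1.symm, fun e => hvd e.symm, rfl⟩
      rw [← this]
      refine Set.ncard_le_ncard (t := ((Fx D (t : K) ⊓ Fx D (r : K) : Subgroup D) : Set D)) ?_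
      rintro z (rfl | rfl | rfl)
      exacts [one_mem _, ⟨t.2, r.2⟩, ⟨ht.2, hr.2⟩]
    have h4 := Nat.le_of_dvd (by norm_num) hdv
    have h5 : Nat.card (Fx D (t : K) ⊓ Fx D (r : K) : Subgroup D) = 4 := by
      generalize Nat.card (Fx D (t : K) ⊓ Fx D (r : K) : Subgroup D) = n at *
      interval_cases n <;> omega
    have := eq_of_le_of_card_ge hle (by rw [h5, A.fix4 _ o3'])
    rcases (mem_zp o3).mp (mem_zpowers_coe (A.stab _ o3' r (inf_eq_left.mp this))) with e | e | e
    · exact absurd e (ne_one_of (hT r (by simpa using hr.1)))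
    · simp [e]
    · simp [e]

end Ac

end H78.T3
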