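import Cfsg.Agent.H64.SGBasic
import Cfsg.Agent.H68.TwD4

/-! STD-2E6: the root lemmas of `H64.SG.ET` for the datum `D₄` (the long roots). -/

set_option autoImplicit false
set_option linter.unusedSectionVars false

namespace H78.TE

open Cfsg.Lie H63 H65 H64 H64.SG

/-- `D` is the datum `D₄`. -/
def E4 (D : ChevalleyDatum) : Prop := D = chevD4

variable {D : ChevalleyDatum} [RS D]

namespace E4

variable (hD : E4 D)
include hD

theorem len_eq (r s : Rt D) : len r = len s := by
  have h1 : ∀ i < D.rank, ∀ j < D.rank, D.cartan i (D.simple j) = D.cartan j (D.simple i) := by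
    subst hD; decide +kernel
  obtain ⟨i, hi⟩ := exists_len_eq_simple r
  obtain ⟨j, hj⟩ := exists_len_eq_simple s
  rw [hi, hj]
  refine eq_of_adj (fun i => len (simpleR i : Rt D)) (fun i j _ h => ?_) i j
  have := RS.cartan_symm (D := D) i j
  rw [← h1 i i.2 j j.2] at this
  exact mul_right_cancel₀ h this

/-- The coordinates of a root are computable. -/
theorem rt_eq (r : Rt D) (i : Fin D.rank) : rt r i = co D r i := by
  have := co_len r i
  rw [hD.len_eq (simpleR i) r] at this
  exact (mul_right_cancel₀ (len_pos r).ne' this).symm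

theorem pairing_comm (r s : Rt D) : D.pairing r s = D.pairing s r := by
  have := pairing_mul_len_comm r s
  rw [hD.len_eq s r] at this
  exact mul_left_cancel₀ (len_pos r).ne' this

theorem pairing_cases (r s : Rt D) : s = r ∨ s = negR r ∨ D.pairing r s = -1 ∨
    D.pairing r s = 0 ∨ D.pairing r s = 1 := by
  by_cases h1 : s = r
  · exact Or.inl h1
  by_cases h2 : s = negR r
  · exact Or.inr (Or.inl h2)
  have := pairing_mul_pairing_le h1 h2
  rw [← hD.pairing_comm r s] at this
  have h3 : D.pairing r s < 2 := by nlinarith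
  have h4 : -2 < D.pairing r s := by nlinarith
  omega

theorem eq_of_pairing {r s : Rt D} (h : 2 ≤ D.pairing r s) : s = r := by
  rcases hD.pairing_cases r s with h1 | rfl | h1 | h1 | h1
  · exact h1
  · rw [negR_val, pairing_negR_right, pairing_self] at h; omega
  all_goals omega

theorem eq_neg_of_pairing {r s : Rt D} (h : D.pairing r s ≤ -2) : s = negR r := by
  rcases hD.pairing_cases r s with rfl | h1 | h1 | h1 | h1
  · rw [pairing_self] at h; omega
  · exact h1
  all_goals omega

theorem pairing_le (r s : Rt D) : -2 ≤ D.pairing r s ∧ D.pairing r s ≤ 2 := by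
  rcases hD.pairing_cases r s with rfl | rfl | h1 | h1 | h1
  · rw [pairing_self]; omega
  · rw [negR_val, pairing_negR_right, pairing_self]; omega
  all_goals omega

theorem pairing_of_add {r s u : Rt D} (h : rt u = rt r + rt s) : D.pairing r s = -1 := by
  have h1 := pairing_add u h
  have h2 := pairing_add r h
  have h3 := pairing_add s h
  rw [pairing_self] at h1 h2 h3
  rw [hD.pairing_comm r u] at h2
  rw [hD.pairing_comm s u, hD.pairing_comm s r] at h3
  omega

theorem pairing_add_left {r s u : Rt D} (h : rt u = rt r + rt s) (p : Rt D) :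
    D.pairing u p = D.pairing r p + D.pairing s p := by
  rw [hD.pairing_comm u, hD.pairing_comm r, hD.pairing_comm s, pairing_add p h]

theorem hi_max (s : Rt D) (i : Fin D.rank) : rt s i ≤ rt (hi D) i := by
  have h1 : ∀ s < D.nroots, ∀ i < D.rank, co D s i ≤ co D (D.nroots - 1) i := by
    subst hD; decide +kernel
  rw [hD.rt_eq, hD.rt_eq]
  exact h1 s s.2 i i.2

theorem pos_hi : Pos (hi D) := by
  obtain ⟨i⟩ := H64.nonempty_rank (D := D)
  refine pos_of_coord_pos (i := i) (lt_of_lt_of_le ?_ (hD.hi_max (simpleR i) i))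
  simp

theorem eq_hi_of_ht {s : Rt D} (h : ht (hi D) ≤ ht s) : s = hi D := by
  apply rt_inj
  funext i
  exact (Finset.sum_eq_sum_iff_of_le fun i _ => hD.hi_max s i).1
    (le_antisymm (Finset.sum_le_sum fun i _ => hD.hi_max s i) h) i (Finset.mem_univ i)

theorem pairing_hi_nonneg {s : Rt D} (hs : Pos s) : 0 ≤ D.pairing (hi D) s := by
  rcases hD.pairing_cases (hi D) s with rfl | rfl | h | h | h
  · rw [pairing_self]; omega
  · exact absurd hD.pos_hi (pos_negR.1 hs)
  · obtain ⟨u, hu⟩ := exists_add h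
    have h1 := ht_of_add hu
    have h2 := pos_iff_ht.1 hs
    rw [hD.eq_hi_of_ht (s := u) (by omega)] at h1
    omega
  all_goals omega

theorem exists_W (r s : Rt D) : ∃ w : (H64.wdata D).W, w.1 r = s :=
  exists_W_apply_eq_of_len_eq (hD.len_eq r s)

set_option synthInstance.maxSize 1000 in
/-- `W` is transitive on the ordered pairs of roots with a given pairing. -/
theorem exists_W2 {r s r' s' : Rt D} (h : D.pairing r s = D.pairing r' s')
    (h0 : D.pairing r s ≠ 0) :
    ∃ w : (H64.wdata D).W, w.1 r = r' ∧ w.1 s = s' := by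
  have key : ∀ s < D.nroots, (∀ j < D.rank, D.cartan j (D.nroots - 1) = 0 → 0 ≤ D.cartan j s) →
      ∀ s' < D.nroots, (∀ j < D.rank, D.cartan j (D.nroots - 1) = 0 → 0 ≤ D.cartan j s') →
      D.pairing (D.nroots - 1) s = D.pairing (D.nroots - 1) s' →
      D.pairing (D.nroots - 1) s ≠ 0 → s = s' := by
    subst hD; decide +kernel
  obtain ⟨a, ha⟩ := hD.exists_W r (hi D)
  obtain ⟨a', ha'⟩ := hD.exists_W r' (hi D)
  obtain ⟨b, hb, hc⟩ := ET.exists_dom (hi D) (a.1 s)
  obtain ⟨b', hb', hc'⟩ := ET.exists_dom (hi D) (a'.1 s')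
  have e : b.1 (a.1 s) = b'.1 (a'.1 s') := Fin.ext (key _ (b.1 (a.1 s)).2
    (fun j hj => hc ⟨j, hj⟩) _ (b'.1 (a'.1 s')).2 (fun j hj => hc' ⟨j, hj⟩) (by
      show D.pairing (hi D) _ = D.pairing (hi D) _
      nth_rewrite 1 [← hb]
      nth_rewrite 2 [← hb']
      rw [W_pairing, W_pairing]
      nth_rewrite 1 [← ha]
      rw [← ha', W_pairing, W_pairing, h]) (by
      show D.pairing (hi D) _ ≠ 0
      rw [← hb, W_pairing, ← ha, W_pairing]; exact h0))
  refine ⟨(b' * a')⁻¹ * (b * a), ?_, ?_⟩
  · have : (b * a).1 r = (b' * a').1 r' := by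
      show b.1 (a.1 r) = b'.1 (a'.1 r')
      rw [ha, ha', hb, hb']
    rw [WData.mul_apply, this, WData.inv_apply_apply]
  · have : (b * a).1 s = (b' * a').1 s' := e
    rw [WData.mul_apply, this, WData.inv_apply_apply]

set_option synthInstance.maxSize 2000 in
set_option synthInstance.maxHeartbeats 200000 in
/-- Every positive definite configuration of three roots with `(a, b) ≠ (0, 0)` extends a pair. -/
theorem exists_third (r s : Rt D) {a b : ℤ} (hk : D.pairing r s ∈ [-1, 0, 1])
    (ha : a ∈ [-1, 0, 1]) (hb : b ∈ [-1, 0, 1]) (h : D.pairing r s * a * b ≠ -1)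
    (h1 : a ≠ 0 ∨ b ≠ 0)
    (h2 : D.pairing r s ≠ 0 ∨ a * b ≠ 0) :
    ∃ v : Rt D, D.pairing r v = a ∧ D.pairing s v = b := by
  have key : ∀ r < D.nroots, ∀ s < D.nroots, D.pairing r s ∈ [(-1 : ℤ), 0, 1] →
      ∀ a ∈ [(-1 : ℤ), 0, 1], ∀ b ∈ [(-1 : ℤ), 0, 1], D.pairing r s * a * b ≠ -1 →
      (a ≠ 0 ∨ b ≠ 0) → (D.pairing r s ≠ 0 ∨ a * b ≠ 0) →
        ∃ v < D.nroots, D.pairing r v = a ∧ D.pairing s v = b := by
    subst hD; decide +kernel
  obtain ⟨v, hv, e⟩ := key r r.2 s s.2 hk a ha b hb h h1 h2
  exact ⟨⟨v, hv⟩, e⟩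

theorem exists_pairing (r : Rt D) {a : ℤ} (ha : a ∈ [-1, 0, 1]) : ∃ v : Rt D, D.pairing r v = a := by
  have key : ∀ r < D.nroots, ∀ a ∈ [(-1 : ℤ), 0, 1], ∃ v < D.nroots, D.pairing r v = a := by
    subst hD; decide +kernel
  obtain ⟨v, hv, e⟩ := key r r.2 a ha
  exact ⟨⟨v, hv⟩, e⟩

/-- Every root is a sum of two roots. -/
theorem exists_sum (u : Rt D) : ∃ r s : Rt D, rt u = rt r + rt s := by
  obtain ⟨v, hv⟩ := hD.exists_pairing u (a := -1) (by simp)
  obtain ⟨r, hr⟩ := exists_add hv
  exact ⟨r, negR v, by rw [hr, rt_negR]; abel⟩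

section Grp

variable {F : Type*} [Field F] [CharP F 2] {G : Type*} [Group G] {x : ℕ → F → G}

omit [CharP F 2] in
theorem comm_of_nonneg (h : St D x) {r s : Rt D} (e : 0 ≤ D.pairing r s) (a b : F) :
    x r a * x s b = x s b * x r a :=
  (x_commute_of_not_add h (by
    rintro rfl
    rw [negR_val, pairing_negR_right, pairing_self] at e
    omega) (fun u hu => by have := hD.pairing_of_add (hu.trans (add_comm _ _)); omega) a b).symm

/-- The commutator formula. -/
theorem comm_add (h : St D x) {r s u : Rt D} (e : rt u = rt r + rt s) (a b : F) :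
    x r a * x s b = x s b * x r a * x u (a * b) := by
  have h1 := hD.pairing_of_add e
  have h2 := pairing_add r e
  have h3 := pairing_add s e
  rw [pairing_self] at h2 h3
  have h4 := hD.pairing_comm r s
  rw [comm_single h e (fun v hv => by have := hD.pairing_of_add hv; rw [hD.pairing_comm] at this; omega)
    (fun v hv => by have := hD.pairing_of_add hv; rw [hD.pairing_comm] at this; omega)]
  have h5 := chainM_eq_one_or (r := s) (s := r) (k := 1) le_rfl
    (le_length_chainEntry (ne_of_add e).1 (ne_of_add e).2 (by simpa using e)) (fun v hv => by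
      have := hD.pairing_of_add (r := r) (s := negR s) (u := v) (by rw [hv, rt_negR, sub_eq_add_neg])
      rw [negR_val, pairing_negR_right] at this
      omega)
  congr 2
  rcases h5 with h5 | h5 <;> rw [h5] <;> simp [CharTwo.neg_eq, mul_comm]

theorem conj_add (h : St D x) {r s u : Rt D} (e : rt u = rt r + rt s) (a b : F) :
    x r a * x s b * (x r a)⁻¹ = x s b * x u (a * b) := by
  have h2 := pairing_add r e
  rw [pairing_self, hD.pairing_of_add e] at h2
  rw [hD.comm_add h e, mul_assoc (x s b), hD.comm_of_nonneg h (r := r) (s := u) (by omega)]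
  group

theorem commutator_add (h : St D x) {r s u : Rt D} (e : rt u = rt r + rt s) (a b : F) :
    x r a * x s b * (x r a)⁻¹ * (x s b)⁻¹ = x u (a * b) := by
  have h3 := pairing_add s e
  rw [pairing_self, hD.pairing_comm s r, hD.pairing_of_add e] at h3
  rw [hD.conj_add h e, hD.comm_of_nonneg h (r := s) (s := u) (by omega), mul_inv_cancel_right]

end Grp

end E4

/-- Steinberg's relations in type `D₄`, characteristic `2`. -/
theorem E4.st_of (hD : E4 D) {F : Type*} [Field F] [CharP F 2] {G : Type*} [Group G]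
    {y : ℕ → F → G} (h1 : ∀ (r : Rt D) a b, y r a * y r b = y r (a + b))
    (h2 : ∀ r s : Rt D, 0 ≤ D.pairing r s → ∀ a b, y r a * y s b = y s b * y r a)
    (h3 : ∀ r s u : Rt D, rt u = rt r + rt s → ∀ a b,
      y r a * y s b * (y r a)⁻¹ * (y s b)⁻¹ = y u (a * b)) : St D y := by
  refine ⟨fun r hr => h1 ⟨r, hr⟩, fun r s hr hs n1 n2 a b => ?_⟩
  lift r to Rt D using hr
  lift s to Rt D using hs
  rcases hD.pairing_cases r s with rfl | rfl | h | h | h
  · exact absurd rfl n1
  · exact absurd rfl n2
  · obtain ⟨u, e⟩ := exists_add (hD.pairing_comm r s ▸ h)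
    have h4 := pairing_add r e
    have h5 := pairing_add s e
    rw [pairing_self] at h4 h5
    have h6 := hD.pairing_comm r s
    rw [ChevalleyDatum.commWord, commTerms_eq_single e
      (fun v hv => by have := hD.pairing_of_add hv; rw [hD.pairing_comm] at this; omega)
      (fun v hv => by have := hD.pairing_of_add hv; rw [hD.pairing_comm] at this; omega)]
    have h7 := chainM_eq_one_or (r := r) (s := s) (k := 1) le_rfl
      (le_length_chainEntry (ne_of_add e).1 (ne_of_add e).2 (by simpa using e)) (fun v hv => by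
        have := hD.pairing_of_add (r := s) (s := negR r) (u := v) (by rw [hv, rt_negR, sub_eq_add_neg])
        rw [negR_val, pairing_negR_right] at this
        omega)
    have h8 : y s b * y r a = y r a * y s b * y u (b * a) := by
      rw [mul_assoc, h2 s u (by omega), ← mul_assoc, h2 r u (by omega), ← h3 s r u e]
      group
    rw [h8]
    rcases h7 with h7 | h7 <;> simp [h7, CharTwo.neg_eq, mul_comm]
  all_goals
    rw [ChevalleyDatum.commWord, commTerms_eq_nil (fun u hu => by
      have := hD.pairing_of_add hu; rw [hD.pairing_comm] at this; omega), h2 r s (by omega)]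
    simp

end H78.TE
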