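import Cfsg.Agent.H46.TECT
import Cfsg.Agent.H30.SfA

/-! STD-2E6 (row S3327): the kit `KB`. -/

set_option autoImplicit false
set_option linter.unusedSectionVars false

namespace H78.TE

open Cfsg.Lie H63 H65 H64 H64.SG H68 H46.SF Subgroup H98
open H46.TE (Idl cm_x_mem x_eq_zero split hN_su hN_pos ip_ge)
open scoped commutatorElement

theorem ip_gm' (r s : Rt E6) : ip (gm r) s = ip r (gm s) := by rw [← ip_gm, gm_gm]
theorem ng_ng : ∀ r : Rt E6, ng (ng r) = r := by decide +kernel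
theorem ip_ng : ∀ r s : Rt E6, ip r (ng s) = -ip r s := by decide +kernel
theorem ip_cases : ∀ r s : Rt E6, s = ng r ∨ ip r s = -1 ∨ 0 ≤ ip r s := by decide +kernel
theorem rf_cf : ∀ (r s : Rt E6) (i : Fin E6.rank), cf i (rf r s) = cf i s - ip r s * cf i r := by
  decide +kernel
theorem rf_eq (r s : Rt E6) : refl r s = rf r s := rt_inj (funext fun i => by
  rw [rt_refl, ← cf_eq, rf_cf, cf_eq, cf_eq, ip_eq]; rfl)
theorem rg_gm : ∀ r s : Rt E6, rg r (gm s) = gm (rg r s) := by decide +kernel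
theorem ex_sep : ∀ r : Rt E6, gm r ≠ r → ∃ s, ip r s = -1 ∧ 0 ≤ ip (gm r) s := by decide +kernel

def W1 : List (List ℕ) := [[71], [46, 70], [47, 69], [66], [36, 55], [37, 66], [47, 66], [41, 71], [46, 66], [38, 71], [45, 49], [66], [38, 70], [41, 66], [38, 66], [38, 65], [45, 71], [38, 54], [47, 55], [41, 52], [46, 55], [37, 71], [36, 71], [71], [46, 54], [46, 71], [45, 66], [55], [37, 70], [37, 69], [36, 70], [70], [54], [36, 69], [69], [36, 66], [55], [37, 65], [37, 54], [52], [37, 63], [37, 52], [65], [63], [49], [49], [70], [69], [37, 60], [37, 45], [60], [65], [41], [63], [38], [36, 38], [37, 55], [54], [52], [36, 48], [48], [45], [36, 40], [53], [36, 37], [51], [37], [36], [], [47], [46], []]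
def W2 : List (List ℕ) := [[], [], [60], [44], [45], [41], [39], [41], [40], [39, 45], [45], [60], [], [36], [39, 45], [40], [41], [39], [38], [45], [44], [60], [], []]
def w1 (r : Rt E6) : List (Rt E6) := (W1.getD r.1 []).map R6
def w2 (r : Rt D4) : List (Rt E6) := (W2.getD r.1 []).map R6
def can (k : ℤ) : Rt E6 :=
  if k = 2 then R6 71 else if k = 1 then R6 70 else if k = 0 then R6 60 else if k = -1 then R6 1 else R6 0
theorem w1_spec : ∀ r : Rt E6, (w1 r).foldr rg r = R6 71 ∨ gm r ≠ r ∧ (w1 r).foldr rg r = R6 68 := by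
  decide +kernel
theorem w2_spec : ∀ s : Rt D4, (w2 s).foldr rg (R6 71) = R6 71 ∧
    (w2 s).foldr rg (lr s) = can (ip (R6 71) (lr s)) := by decide +kernel

theorem card_step {G I : Type*} [Group G] {A B : Subgroup G} (f : I → G) (h1 : ∀ i, f i ∈ A)
    (h2 : B ≤ A) (h3 : ∀ g ∈ A, ∃ i, (f i)⁻¹ * g ∈ B) (h4 : ∀ i j, (f i)⁻¹ * f j ∈ B → i = j) :
    Nat.card A = Nat.card I * Nat.card B := by
  rw [← Nat.card_prod]
  refine (Nat.card_congr (Equiv.ofBijective (fun p : I × B => (⟨f p.1 * p.2, mul_mem (h1 _) (h2 p.2.2)⟩ : A))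
    ⟨fun p p' e => ?_, fun g => ?_⟩)).symm
  · have e' : f p.1 * p.2 = f p'.1 * p'.2 := congrArg Subtype.val e
    have e1 : p.1 = p'.1 := h4 _ _ (by
      rw [show (f p.1)⁻¹ * f p'.1 = p.2 * (p'.2 : G)⁻¹ by
        rw [eq_mul_inv_iff_mul_eq, mul_assoc, ← e', inv_mul_cancel_left]]
      exact mul_mem p.2.2 (inv_mem p'.2.2))
    rw [e1, mul_right_inj] at e'
    exact Prod.ext e1 (Subtype.ext e')
  · obtain ⟨i, hi⟩ := h3 g g.2
    exact ⟨⟨i, ⟨_, hi⟩⟩, Subtype.ext (mul_inv_cancel_left _ _)⟩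

variable {F K : Type} [Field F] [Field K] [CharP K 2]

local notation "𝔵" => xG E6 K

theorem sY : St E6 𝔵 := (stY K).toStN.toSt

theorem cjY {r s : Rt E6} (h : ip r s = -1) (a b : K) :
    𝔵 r a * 𝔵 s b * (𝔵 r a)⁻¹ = 𝔵 s b * 𝔵 (su r s) (a * b) := e6.conj_add sY (su_add h) a b

theorem cjY0 {r s : Rt E6} (h : 0 ≤ ip r s) (a b : K) : 𝔵 r a * 𝔵 s b * (𝔵 r a)⁻¹ = 𝔵 s b := by
  rw [cY h, mul_inv_cancel_right]

theorem x_nrm {S : Set (Rt E6)} {r : Rt E6} (h : ∀ s ∈ S, s ≠ ng r ∧ (ip r s = -1 → su r s ∈ S)) (u : K)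
    {v : YY K} (hv : v ∈ gY K S) : 𝔵 r u * v * (𝔵 r u)⁻¹ ∈ gY K S :=
  conj_mem_of_gen (fun s hs y hy => by
    obtain ⟨a, rfl⟩ := sY.mem_XR.1 hy
    rcases ip_cases r s with e | e | e
    · exact absurd e (h s hs).1
    · rw [cjY e]; exact mul_mem (x_mem_gen hs a) (x_mem_gen ((h s hs).2 e) _)
    · rw [cjY0 e]; exact x_mem_gen hs a) hv

/-- removing an orbit of least height -/
theorem rm {S : Set (Rt E6)} (hS : Cl S) {r : Rt E6} (hr : r ∈ S) (hm : ∀ s ∈ S, hN r ≤ hN s) :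
    Cl (S \ {r, gm r}) ∧ (∀ g ∈ gY K S, ∃ a b, (gm r = r → b = 0) ∧
      (𝔵 r a * 𝔵 (gm r) b)⁻¹ * g ∈ gY K (S \ {r, gm r})) ∧
      ∀ a b, gm r ≠ r → 𝔵 r a * 𝔵 (gm r) b ∈ gY K (S \ {r, gm r}) → a = 0 ∧ b = 0 := by
  obtain ⟨c1, s1⟩ := split (K := K) hS.1 hr hm
  obtain ⟨c2, -⟩ := split (K := K) hS.1 (hS.2 r hr) (fun s hs => hN_gm r ▸ hm s hs)
  refine ⟨⟨⟨fun s hs => hS.1.1 s hs.1, fun s hs s' hs' e => ⟨hS.1.2 s hs.1 s' hs'.1 e, ?_⟩⟩,
    fun s hs => ⟨hS.2 s hs.1, ?_⟩⟩, fun g hg => ?_, fun a b h e => ⟨?_, ?_⟩⟩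
  · rintro (e' | e')
    · exact (c1.2 s ⟨hs.1, fun h => hs.2 (.inl h)⟩ s' ⟨hs'.1, fun h => hs'.2 (.inl h)⟩ e).2 e'
    · exact (c2.2 s ⟨hs.1, fun h => hs.2 (.inr h)⟩ s' ⟨hs'.1, fun h => hs'.2 (.inr h)⟩ e).2 e'
  · rintro (e | e)
    · exact hs.2 (.inr (by rw [← e, gm_gm]; rfl))
    · exact hs.2 (.inl (gm_inj e))
  · obtain ⟨a, ha⟩ := s1 g hg
    by_cases h : gm r = r
    · exact ⟨a, 0, fun _ => rfl, by simpa [h, xE_zero] using ha⟩
    obtain ⟨b, hb⟩ := (split (K := K) c1 (r := gm r) ⟨hS.2 r hr, h⟩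
      (fun s hs => hN_gm r ▸ hm s hs.1)).2 _ ha
    refine ⟨a, b, fun e => absurd e h, ?_⟩
    rw [mul_inv_rev, mul_assoc]
    exact gen_mono _ (fun s hs => by exact ⟨hs.1.1, fun e => e.elim hs.1.2 hs.2⟩) hb
  · refine x_eq_zero c1 (hS.1.1 r hr) (fun h => h.2 rfl) ((mul_mem_cancel_right
      (x_mem_gen (S := S \ {r}) ⟨hS.2 r hr, h⟩ b)).1 (gen_mono _ (fun s hs => ?_) e))
    exact ⟨hs.1, fun h => hs.2 (.inl h)⟩
  · refine x_eq_zero c2 (hS.1.1 _ (hS.2 r hr)) (fun h => h.2 rfl) ((mul_mem_cancel_left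
      (x_mem_gen (S := S \ {gm r}) ⟨hr, fun e => h e.symm⟩ a)).1 (gen_mono _ (fun s hs => ?_) e))
    exact ⟨hs.1, fun h => hs.2 (.inr h)⟩

theorem cl_ind {P : Set (Rt E6) → Prop} (h0 : P ∅) (h1 : ∀ S, Cl S → ∀ r ∈ S, (∀ s ∈ S, hN r ≤ hN s) →
    P (S \ {r, gm r}) → P S) (S : Set (Rt E6)) (hS : Cl S) : P S := by
  induction hn : S.ncard using Nat.strong_induction_on generalizing S with
  | _ n ih =>
    rcases S.eq_empty_or_nonempty with rfl | hne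
    · exact h0
    obtain ⟨r, hr, hm⟩ := Set.exists_min_image S hN (Set.toFinite S) hne
    refine h1 S hS r hr hm (ih _ (hn ▸ Set.ncard_lt_ncard ⟨Set.sdiff_subset, fun h => (h hr).2 (.inl rfl)⟩) _
      (rm (K := ZMod 2) hS hr hm).1 rfl)

namespace Qd

variable [Finite F] [CharP F 2] [Finite K] (T : Qd F K)

theorem half' : ∃ w, w + T.σ w = 1 := H30.Sf.exists_tr T.ss (by
  by_contra! h
  have h1 := Nat.card_le_card_of_surjective T.ι fun a => (T.fix a).1 (h a)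
  have h2 : 1 < Nat.card F := Finite.one_lt_card
  rw [T.card] at h1
  nlinarith) (map_one _)

theorem xs_long {r : Rt E6} (h : gm r = r) {a : K} (ha : T.σ a = a) : ∃ u, (T.xs r u : YY K) = 𝔵 r a := by
  obtain ⟨w, hw⟩ := T.half'
  exact ⟨a * w, by rw [xs_val, h, ← xE_add, map_mul, ha, ← mul_add, hw, mul_one]⟩

theorem x_eq_xs (r : Rt D4) (c : F) : ∃ u, T.x r c = T.xs (lr r) u := by
  obtain ⟨u, e⟩ := T.xs_long (gm_lr r) (T.fi c)
  exact ⟨u, Subtype.ext (by rw [e, x_val])⟩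

theorem ph_mem {S : Set (Rt E6)} (h : ∀ r ∈ S, gm r ∈ S) {g : YY K} (hg : g ∈ gY K S) :
    T.ph g ∈ gY K S :=
  (SG.gen_le_iff (K := (gY K S).comap T.ph.toMonoidHom)).2 (fun r hr a => by
    change T.ph _ ∈ gY K S
    rw [ph_x]; exact x_mem_gen (h r hr) _) hg

theorem xs_memY {S : Set (Rt E6)} (h : ∀ r ∈ S, gm r ∈ S) {r : Rt E6} (hr : r ∈ S) (u : K) :
    (T.xs r u : YY K) ∈ gY K S := mul_mem (x_mem_gen hr _) (x_mem_gen (h r hr) _)

theorem gt_leY {S : Set (Rt E6)} (h : ∀ r ∈ S, gm r ∈ S) {g : T.X} (hg : g ∈ T.gt S) :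
    (g : YY K) ∈ gY K S :=
  (T.gt_le (A := (gY K S).comap (fx T.ph).subtype)).2 (fun _ hr u => T.xs_memY h hr u) hg

/-- the leading coefficients of a (twisted) fixed element -/
theorem lead {S : Set (Rt E6)} (hS : Cl S) {r : Rt E6} (hr : r ∈ S) (hm : ∀ s ∈ S, hN r ≤ hN s)
    {a b : K} (h0 : gm r = r → b = 0)
    (h : (T.ph (𝔵 r a * 𝔵 (gm r) b))⁻¹ * (𝔵 r a * 𝔵 (gm r) b) ∈ gY K (S \ {r, gm r})) :
    (gm r = r → T.σ a = a) ∧ (gm r ≠ r → b = T.σ a) := by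
  have c := cY (K := K) (ip_gm_nonneg r)
  rw [map_mul, ph_x, ph_x, gm_gm, mul_inv_rev, x_inv sY, x_inv sY, mul_assoc, ← mul_assoc (𝔵 (gm r) _),
    ← c, mul_assoc, ← xE_add, ← mul_assoc, ← xE_add] at h
  refine ⟨fun e => ?_, fun e => ?_⟩
  · have c := (rm (K := K) hS hr hm).1.1
    rw [h0 e, map_zero, zero_add, add_zero] at h
    have n : r ∉ S \ {r, gm r} := fun h => h.2 (.inl rfl)
    generalize S \ {r, gm r} = S' at h c n
    rw [e, ← xE_add] at h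
    exact (CharTwo.add_eq_zero.1 (x_eq_zero c (hS.1.1 r hr) n h)).symm
  · exact (CharTwo.add_eq_zero.1 ((rm hS hr hm).2.2 _ _ e h).2).symm

theorem stepX {S : Set (Rt E6)} (hS : Cl S) {r : Rt E6} (hr : r ∈ S) (hm : ∀ s ∈ S, hN r ≤ hN s)
    {g : T.X} (hg : (g : YY K) ∈ gY K S) :
    ∃ u, (((T.xs r u)⁻¹ * g : T.X) : YY K) ∈ gY K (S \ {r, gm r}) := by
  obtain ⟨c, h1, -⟩ := rm (K := K) hS hr hm
  obtain ⟨a, b, h0, h⟩ := h1 _ hg
  obtain ⟨e1, e2⟩ := T.lead hS hr hm h0 (a := a) (by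
    have := mul_mem (T.ph_mem c.2 h) (inv_mem h)
    rwa [map_mul, map_inv, mem_fx.1 g.2, mul_inv_rev, inv_inv, mul_assoc, mul_inv_cancel_left] at this)
  by_cases e : gm r = r
  · obtain ⟨u, hu⟩ := T.xs_long e (e1 e)
    exact ⟨u, by rwa [coe_mul, coe_inv, hu, ← mul_one (𝔵 r a), ← xE_zero (K := K) (gm r), ← h0 e]⟩
  · exact ⟨a, by rwa [coe_mul, coe_inv, xs_val, ← e2 e]⟩

theorem gtY' (S : Set (Rt E6)) (hS : Cl S) : ∀ g : T.X, g ∈ T.gt S ↔ (g : YY K) ∈ gY K S := by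
  refine cl_ind (P := fun S => Cl S → ∀ g : T.X, g ∈ T.gt S ↔ (g : YY K) ∈ gY K S)
    (fun h g => ⟨T.gt_leY h.2, fun e => ?_⟩) (fun S hS r hr hm ih _ g => ⟨T.gt_leY hS.2, fun e => ?_⟩) S hS hS
  · rw [gY, gen_empty, mem_bot] at e
    rw [show g = 1 from Subtype.ext e]; exact one_mem _
  · obtain ⟨u, h⟩ := T.stepX hS hr hm e
    exact (mul_mem_cancel_left (inv_mem (T.xs_mem hr u))).1
      (T.gt_mono Set.sdiff_subset ((ih (rm (K := K) hS hr hm).1 _).2 h))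

theorem card' (S : Set (Rt E6)) (hS : Cl S) : Nat.card (T.gt S) = Nat.card F ^ S.ncard := by
  refine cl_ind (P := fun S => Nat.card (T.gt S) = Nat.card F ^ S.ncard) (by simp [gt])
    (fun S hS r hr hm ih => ?_) S hS
  obtain ⟨c, -, h2⟩ := rm (K := K) hS hr hm
  have h3 : ∀ g ∈ T.gt S, ∃ u, (T.xs r u)⁻¹ * g ∈ T.gt (S \ {r, gm r}) := fun g hg =>
    (T.stepX hS hr hm (T.gt_leY hS.2 hg)).imp fun u h => (T.gtY' _ c _).2 h
  have h4 := Set.ncard_sdiff_add_ncard_of_subset (s := {r, gm r}) (t := S)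
    (by rintro _ (rfl | rfl); exacts [hr, hS.2 _ hr])
  by_cases e : gm r = r
  · obtain ⟨r, rfl⟩ := exists_lr r e
    rw [card_step (T.x r) (fun c => by obtain ⟨u, e⟩ := T.x_eq_xs r c; exact e ▸ T.xs_mem hr u)
      (T.gt_mono Set.sdiff_subset) (fun g hg => by
        obtain ⟨u, h⟩ := h3 g hg
        obtain ⟨c, hc⟩ := T.exists_tr u
        exact ⟨c, T.xs_lr r hc ▸ h⟩) (fun i j h => by
        have := T.gt_leY c.2 h
        rw [coe_mul, coe_inv, x_val, x_val, x_inv sY, ← xE_add] at this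
        exact T.ι.injective (CharTwo.add_eq_zero.1
          (x_eq_zero c.1 (hS.1.1 _ hr) (fun h => h.2 (.inl rfl)) this))), ih, ← h4]
    simp [e, pow_succ, mul_comm]
  · rw [card_step (T.xs r) (T.xs_mem hr) (T.gt_mono Set.sdiff_subset) h3 (fun i j h => by
        have := T.gt_leY c.2 h
        rw [xs_inv, xs_add, xs_val] at this
        exact CharTwo.add_eq_zero.1 (h2 _ _ e this).1), ih, ← h4, T.card, Set.ncard_pair (Ne.symm e),
      pow_add, mul_comm]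

theorem cob' (S : Set (Rt E6)) (hS : Cl S) : Idl S → ∀ v ∈ gY K S, v * T.ph v = 1 →
    ∃ w ∈ gY K SU, v = w * (T.ph w)⁻¹ := by
  refine cl_ind (P := fun S => Idl S → ∀ v ∈ gY K S, v * T.ph v = 1 → ∃ w ∈ gY K SU, v = w * (T.ph w)⁻¹)
    (fun _ v hv _ => ⟨1, one_mem _, by simpa [gY, gen_empty] using hv⟩)
    (fun S hS r hr hm ih hI v hv e => ?_) S hS
  obtain ⟨c, h1, -⟩ := rm (K := K) hS hr hm
  have hI' : Idl (S \ {r, gm r}) := fun s hs => ⟨(hI s hs.1).1, fun s' h' e => ⟨(hI s hs.1).2 s' h' e, by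
    have := hN_su s s' e
    have := (hN_pos s').1 h'
    have := hm s hs.1
    have := hN_gm r
    rintro (e' | e') <;> have := congrArg hN e' <;> omega⟩⟩
  have N := H46.TE.nrm (K := K) hI'
  have p1 := hS.1.1 r hr
  have p2 := hS.1.1 _ (hS.2 r hr)
  have cm := cY (K := K) (ip_gm_nonneg r)
  obtain ⟨a, b, h0, h⟩ := h1 v hv
  generalize hv' : (𝔵 r a * 𝔵 (gm r) b)⁻¹ * v = v' at h
  obtain rfl : v = 𝔵 r a * 𝔵 (gm r) b * v' := by rw [← hv', mul_inv_cancel_left]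
  have zz : 𝔵 r a * 𝔵 (gm r) b * (𝔵 r a * 𝔵 (gm r) b) = 1 := by
    rw [mul_assoc, ← mul_assoc (𝔵 (gm r) b), ← cm, mul_assoc, x_sq sY, mul_one, x_sq sY]
  obtain ⟨e1, e2⟩ := T.lead hS hr hm h0 (a := a) (by
    have z1 : 𝔵 r a * 𝔵 (gm r) b ∈ gY K SU := mul_mem (x_mem_gen p1 _) (x_mem_gen p2 _)
    generalize 𝔵 r a * 𝔵 (gm r) b = z at *
    have := mul_mem (T.ph_mem c.2 h) (N _ z1 _ h)
    rwa [show T.ph v' = (T.ph z)⁻¹ * (z * v')⁻¹ by
      rw [← eq_inv_of_mul_eq_one_right e, map_mul, inv_mul_cancel_left],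
      show (T.ph z)⁻¹ * (z * v')⁻¹ * (z * v' * z⁻¹) = (T.ph z)⁻¹ * z⁻¹ by group,
      inv_eq_of_mul_eq_one_right zz] at this)
  obtain ⟨k, hk⟩ : ∃ k, 𝔵 r a * 𝔵 (gm r) b = 𝔵 r k * 𝔵 (gm r) (T.σ k) := by
    by_cases e : gm r = r
    · obtain ⟨u, hu⟩ := T.xs_long e (e1 e)
      exact ⟨u, by rw [h0 e, xE_zero, mul_one, ← hu, xs_val]⟩
    · exact ⟨a, by rw [e2 e]⟩
  rw [hk] at e ⊢
  obtain ⟨w, w1, w2⟩ := ih hI' ((𝔵 r k)⁻¹ * (𝔵 r k * 𝔵 (gm r) (T.σ k) * v') * T.ph (𝔵 r k)) (by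
    have := N _ (x_mem_gen p2 (T.σ k)) _ h
    rw [x_inv sY] at this
    rwa [mul_assoc (𝔵 r k), inv_mul_cancel_left, ph_x]) (by
    rw [map_mul, map_mul, map_inv, T.ph_ph]
    calc _ = (𝔵 r k)⁻¹ * (𝔵 r k * 𝔵 (gm r) (T.σ k) * v' * T.ph (𝔵 r k * 𝔵 (gm r) (T.σ k) * v')) *
        𝔵 r k := by group
      _ = 1 := by rw [e]; group)
  exact ⟨𝔵 r k * w, mul_mem (x_mem_gen p1 _) w1, by
    rw [map_mul, mul_inv_rev, ← mul_assoc, mul_assoc _ w, ← w2]; group⟩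

theorem prod' (S : Set (Rt E6)) (hS : Cl S) (L : List (Rt E6)) (h1 : L.Nodup) (h2 : ∀ r ∈ L, r ∈ S)
    (h3 : ∀ r ∈ S, r ∈ L ∨ gm r ∈ L) (g : T.X) (hg : g ∈ T.gt S) :
    ∃ u : Rt E6 → K, g = (L.map fun r => T.xs r (u r)).prod := by
  let X' : Rt E6 → Subgroup T.X := fun r => (MonoidHom.mk' (fun u : Multiplicative K => T.xs r u.toAdd)
    fun a b => (T.xs_add r _ _).symm).range
  have key : ∀ (P : Rt E6 → Prop), (∀ r, P r → P (gm r)) →
      T.gt {c | c ∈ S ∧ P c} ≤ gen X' {c | c ∈ {r | r ∈ L} ∧ P c} := fun P hP => T.gt_le.2 fun r hr u =>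
    (h3 r hr.1).elim (fun e => le_gen X' (And.intro e hr.2) ⟨u, rfl⟩) fun e =>
      le_gen X' (And.intro e (hP r hr.2)) ⟨T.σ u, by
        show T.xs (gm r) (T.σ u) = _
        rw [xs_gm, T.ss]⟩
  obtain ⟨y, hy, e⟩ := CommUp.exists_prod (X := X') (S := {r | r ∈ L}) (f := fun r => (hN r).toNat) (by
    rintro a ha b hb - _ ⟨u, rfl⟩ _ ⟨v, rfl⟩
    have a1 := h2 a ha
    have b1 := h2 b hb
    refine key (fun c => (hN a).toNat < (hN c).toNat ∧ (hN b).toNat < (hN c).toNat)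
      (fun r h => by rwa [hN_gm]) ((T.gtY' _ ⟨⟨fun r h => hS.1.1 r h.1, fun r h s h' e =>
        And.intro (hS.1.2 r h.1 s h'.1 e) (by
          have := hN_su r s e
          have := (hN_pos s).1 (hS.1.1 s h'.1)
          have := h.2
          omega)⟩, fun r h => And.intro (hS.2 r h.1) (by rw [hN_gm]; exact h.2)⟩ _).2 ?_)
    have k : ∀ p ∈ S, ∀ p' ∈ S, hN p = hN a → hN p' = hN b → ∀ i j, ⁅𝔵 p i, 𝔵 p' j⁆ ∈ gY K
        {c | c ∈ S ∧ (hN a).toNat < (hN c).toNat ∧ (hN b).toNat < (hN c).toNat} :=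
      fun p hp p' hp' e1 e2 i j => cm_x_mem (hS.1.1 p hp) (hS.1.1 p' hp') (fun e => And.intro (hS.1.2 p hp p' hp' e) (by
        have := hN_su p p' e
        have := (hN_pos p).1 (hS.1.1 p hp)
        have := (hN_pos p').1 (hS.1.1 p' hp')
        omega)) i j
    have N : ∀ p ∈ S, ∀ i, ∀ v ∈ gY K {c | c ∈ S ∧ (hN a).toNat < (hN c).toNat ∧ (hN b).toNat < (hN c).toNat},
        𝔵 p i * v * (𝔵 p i)⁻¹ ∈ gY K
          {c | c ∈ S ∧ (hN a).toNat < (hN c).toNat ∧ (hN b).toNat < (hN c).toNat} :=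
      fun p hp i v hv => H46.TE.x_conj (fun r h => hS.1.1 r h.1) (hS.1.1 p hp) (fun r h e =>
        And.intro (hS.1.2 r h.1 p hp e) (by
          have := hN_su r p e
          have := (hN_pos p).1 (hS.1.1 p hp)
          have := h.2
          omega)) i hv
    have a2 := hS.2 a a1
    have b2 := hS.2 b b1
    have := mul_mem (N a a1 u.toAdd _ (mul_mem (k _ a2 _ b1 (hN_gm a) rfl (T.σ u.toAdd) v.toAdd)
      (N b b1 v.toAdd _ (k _ a2 _ b2 (hN_gm a) (hN_gm b) (T.σ u.toAdd) (T.σ v.toAdd)))))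
      (mul_mem (k _ a1 _ b1 rfl rfl u.toAdd v.toAdd)
        (N b b1 v.toAdd _ (k _ a1 _ b2 rfl (hN_gm b) u.toAdd (T.σ v.toAdd))))
    convert this using 1
    show (T.xs a _ : YY K) * T.xs b _ * (T.xs a _ : YY K)⁻¹ * (T.xs b _ : YY K)⁻¹ = _
    simp only [xs_val, commutatorElement_def]
    group) L h1 (fun _ => Iff.rfl) (by simpa using key (fun _ => True) (fun _ h => h) (by simpa using hg))
  choose u hu using hy
  exact ⟨fun r => (u r).toAdd, e.trans (congrArg _ (List.map_congr_left fun r _ => (hu r).symm))⟩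

theorem Lf.mul {n n' : T.X} {w w' : W6} (h : T.Lf n w) (h' : T.Lf n' w') : T.Lf (n * n') (w * w') :=
  ⟨fun r => by rw [WData.mul_apply, WData.mul_apply, h'.1, h.1], fun s a => by
    rw [WData.mul_apply, ← h.2, ← h'.2, coe_mul]; group⟩

theorem Lf.inv {n : T.X} {w : W6} (h : T.Lf n w) : T.Lf n⁻¹ w⁻¹ :=
  ⟨fun r => by
    obtain ⟨r, rfl⟩ := w.1.surjective r
    rw [← h.1, WData.inv_apply_apply, WData.inv_apply_apply], fun s a => by
    obtain ⟨s, rfl⟩ := w.1.surjective s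
    rw [WData.inv_apply_apply, ← h.2, coe_inv]; group⟩

theorem nnY (r : Rt E6) (a : K) : nn E6 𝔵 r a = 𝔵 r a * 𝔵 (ng r) a⁻¹ * 𝔵 r a := by
  rw [H64.nn_eq, CharTwo.neg_eq, ng_eq, negR_val]

theorem nn_short {r : Rt E6} (h : gm r ≠ r) (a : K) :
    ((T.xs r a * T.xs (ng r) a⁻¹ * T.xs r a : T.X) : YY K) = nn E6 𝔵 r a * nn E6 𝔵 (gm r) (T.σ a) := by
  have h0 := (ip_gm_self r).resolve_left h
  have c1 := cY (K := K) h0.ge
  have c2 := cY (K := K) (r := ng r) (s := gm r) (by rw [ip_comm, ip_ng, ip_comm, h0]; rfl)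
  have c3 := cY (K := K) (r := r) (s := ng (gm r)) (by rw [ip_ng, h0]; rfl)
  rw [coe_mul, coe_mul, xs_val, xs_val, nnY, nnY, gm_ng, map_inv₀]
  calc _ = 𝔵 r a * (𝔵 (gm r) (T.σ a) * 𝔵 (ng r) a⁻¹) * (𝔵 (ng (gm r)) (T.σ a)⁻¹ * 𝔵 r a) *
        𝔵 (gm r) (T.σ a) := by group
    _ = 𝔵 r a * 𝔵 (ng r) a⁻¹ * (𝔵 (gm r) (T.σ a) * 𝔵 r a) * 𝔵 (ng (gm r)) (T.σ a)⁻¹ *
        𝔵 (gm r) (T.σ a) := by rw [← c2, ← c3]; group
    _ = _ := by rw [← c1]; group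

theorem lf1 (r : Rt E6) : ∃ n ∈ T.gt {r, ng r}, ∃ w, T.Lf n w ∧ ∀ s, w.1 s = rg r s := by
  have m : ∀ a b, T.xs r a * T.xs (ng r) b * T.xs r a ∈ T.gt {r, ng r} := fun a b =>
    mul_mem (mul_mem (T.xs_mem (.inl rfl) _) (T.xs_mem (.inr rfl) _)) (T.xs_mem (.inl rfl) _)
  obtain ⟨w, e1, e2⟩ := (stY K).toStN.sgn_nn_one r
  by_cases h : gm r = r
  · obtain ⟨a, ha⟩ := T.half'
    have e : ∀ s, w.1 s = rg r s := fun s => by rw [e1, rf_eq, rg, if_pos h]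
    refine ⟨_, m a a, w, ⟨fun s => by rw [e, e, rg_gm], fun s b => ?_⟩, e⟩
    rw [← Sgn.conj2 e2, nnY, coe_mul, coe_mul, xs_val, xs_val, gm_ng, h, ← xE_add, ← xE_add, ha, inv_one]
  · obtain ⟨w', e3, e4⟩ := (stY K).toStN.sgn_nn_one (gm r)
    have e : ∀ s, (w * w').1 s = rg r s := fun s => by
      rw [WData.mul_apply, e1, e3, rf_eq, rf_eq, rg, if_neg h]
    refine ⟨_, m 1 1⁻¹, w * w', ⟨fun s => by rw [e, e, rg_gm], fun s b => ?_⟩, e⟩
    rw [T.nn_short h, map_one, WData.mul_apply, ← Sgn.conj2 e2, ← Sgn.conj2 e4]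
    group

theorem lfw' (l : List (Rt E6)) :
    ∃ n ∈ T.gt {r | r ∈ l ∨ ng r ∈ l}, ∃ w, T.Lf n w ∧ ∀ s, w.1 s = l.foldr rg s := by
  induction l with
  | nil => exact ⟨1, one_mem _, 1, ⟨fun _ => rfl, fun s a => by simp⟩, fun _ => rfl⟩
  | cons r l ih =>
    obtain ⟨n, n1, w, n2, n3⟩ := ih
    obtain ⟨m, m1, v, m2, m3⟩ := T.lf1 r
    refine ⟨m * n, mul_mem (T.gt_mono ?_ m1) (T.gt_mono ?_ n1), v * w, m2.mul T n2, fun s => by
      rw [WData.mul_apply, n3, m3]; rfl⟩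
    · rintro _ (rfl | rfl)
      exacts [.inl (by simp), .inr (by simp [ng_ng])]
    · exact fun s hs => hs.imp (List.mem_cons_of_mem _) (List.mem_cons_of_mem _)

theorem tr2' (r s : Rt D4) : ∃ n w, T.Lf n w ∧ w.1 (lr r) = R6 71 ∧ w.1 (lr s) = can (D4.pairing r s) := by
  obtain ⟨n, -, w, h1, h2⟩ := T.lfw' (w1 (lr r))
  have h3 : w.1 (lr r) = R6 71 := (h2 _).trans ((w1_spec _).resolve_right fun h => h.1 (gm_lr r))
  obtain ⟨s', hs⟩ := exists_lr (w.1 (lr s)) (by rw [← h1.1, gm_lr])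
  obtain ⟨m, -, v, h4, h5⟩ := T.lfw' (w2 s')
  refine ⟨_, _, h4.mul T h1, by rw [WData.mul_apply, h3, h5, (w2_spec s').1], ?_⟩
  rw [WData.mul_apply, ← hs, h5, (w2_spec s').2, hs, ← h3, ip_eq, W_pairing, ← ip_eq, ip_lr]

theorem x_add (r : Rt D4) (a b : F) : T.x r a * T.x r b = T.x r (a + b) := Subtype.ext (by
  rw [coe_mul, x_val, x_val, x_val, map_add, xE_add])

theorem st' : St D4 T.x := e4.st_of T.x_add (fun r s h a b => Subtype.ext (by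
    rw [coe_mul, coe_mul, x_val, x_val, cY (ip_lr r s ▸ h)])) fun r s u h a b => Subtype.ext (by
  rw [coe_mul, coe_mul, coe_mul, coe_inv, coe_inv, x_val, x_val, x_val, map_mul,
    e6.commutator_add sY (lr_add.1 h)])

theorem hhv' (v : Rt D4) (k : F) : ((hh D4 T.x v k : T.X) : YY K) = hh E6 𝔵 (lr v) (T.ι k) := by
  have : ∀ k, ((nn D4 T.x v k : T.X) : YY K) = nn E6 𝔵 (lr v) (T.ι k) := fun k => by
    rw [H64.nn_eq, nnY, coe_mul, coe_mul, ← negR_val, x_val, x_val, lr_neg, CharTwo.neg_eq, map_inv₀]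
  rw [H64.hh_eq, H64.hh_eq, coe_mul, this, this, map_neg, map_one]

theorem hhY (r s : Rt E6) {c : K} (hc : c ≠ 0) (u : K) :
    hh E6 𝔵 r c * 𝔵 s u * (hh E6 𝔵 r c)⁻¹ = 𝔵 s (c ^ ip r s * u) := by
  rw [(stY K).toStN.hh_conj r s hc, ip_eq]

theorem kb : T.KB where
  st := T.st'
  inj r c h := T.ι.injective (by
    rw [map_zero]; exact (stY K).eq_zero_of_x_eq_one (lr r) (by rw [← x_val, h]; rfl))
  sinj r u h e := by
    obtain ⟨s, h1, h2⟩ := ex_sep r h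
    have e1 : 𝔵 r u = (𝔵 (gm r) (T.σ u))⁻¹ := eq_inv_of_mul_eq_one_left (congrArg Subtype.val e)
    have := cjY h1 u 1
    rw [e1, x_inv sY, x_inv sY, cY h2, mul_assoc, x_sq sY, mul_right_inj, mul_one] at this
    exact (stY K).eq_zero_of_x_eq_one _ this.symm
  half := T.half'
  x_mem r h c := by obtain ⟨u, e⟩ := T.x_eq_xs r c; exact e ▸ T.xs_mem h u
  gtZ := by
    have k : ∀ r : Rt E6, r ∈ SZ ↔ r = lr (hi D4) := by decide +kernel
    refine le_antisymm (T.gt_le.2 fun r hr u => ?_) fun g hg => ?_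
    · obtain ⟨c, hc⟩ := T.exists_tr u
      rw [(k r).1 hr, T.xs_lr _ hc]; exact x_mem_XR D4 T.x _ c
    · obtain ⟨c, rfl⟩ := T.st'.mem_XR.1 hg
      obtain ⟨u, e⟩ := T.x_eq_xs (hi D4) c
      exact e ▸ T.xs_mem ((k _).2 rfl) u
  c0 r s h1 h2 a b := Subtype.ext (by
    rw [coe_mul, coe_mul, xs_val, xs_val]
    exact Commute.mul_left (Commute.mul_right (cY h1 _ _) (cY h2 _ _))
      (Commute.mul_right (cY (ip_gm' r s ▸ h2) _ _) (cY (ip_gm r s ▸ h1) _ _)))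
  cx r s h c b := Subtype.ext (by
    rw [coe_mul, coe_mul, xs_val, x_val]
    exact Commute.mul_right (cY h _ _) (cY (by rwa [← ip_gm', gm_lr]) _ _))
  cs r s h1 h2 a b := Subtype.ext (by
    have h3 : ip (gm r) (gm s) = -1 := (ip_gm r s).trans h1
    have h4 : 0 ≤ ip r (su (gm r) (gm s)) := by
      have := ip_gm_nonneg r
      rw [ip_add r h3]; omega
    have h5 : 0 ≤ ip (su r s) (gm s) := by
      have := ip_gm_nonneg s
      rw [ip_comm, ip_add _ h1, ip_comm, ip_comm (gm s)]; omega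
    rw [coe_mul, coe_mul, coe_mul, coe_inv, xs_val, xs_val, xs_val, ← su_gm r s h1, map_mul]
    calc _ = 𝔵 r a * ((𝔵 (gm r) (T.σ a) * 𝔵 s b * (𝔵 (gm r) (T.σ a))⁻¹) *
          (𝔵 (gm r) (T.σ a) * 𝔵 (gm s) (T.σ b) * (𝔵 (gm r) (T.σ a))⁻¹)) * (𝔵 r a)⁻¹ := by group
      _ = (𝔵 r a * 𝔵 s b * (𝔵 r a)⁻¹) * (𝔵 r a * 𝔵 (gm s) (T.σ b) * (𝔵 r a)⁻¹) *
          (𝔵 r a * 𝔵 (su (gm r) (gm s)) (T.σ a * T.σ b) * (𝔵 r a)⁻¹) := by
        rw [cjY0 (ip_gm' r s ▸ h2), cjY h3]; group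
      _ = _ := by
        rw [cjY h1, cjY0 h2, cjY0 h4, mul_assoc (𝔵 s b), cY h5]; group)
  cj r v s h0 h1 hv u n c hn := Subtype.ext (by
    have h2 := (ip_gm_self s).resolve_left h0
    have h3 : ip s (lr r) = -1 := ip_comm _ _ ▸ h1
    have h4 : ip (gm s) (lr r) = -1 := by rw [ip_gm', gm_lr, h3]
    have h5 : ip s (su (gm s) (lr r)) = -1 := by rw [ip_add s h4, h2, h3]; rfl
    have h6 : ip (su (lr r) s) (gm s) = -1 := by
      rw [ip_comm, ip_add _ h1, h4, ip_comm, h2]; rfl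
    have h7 : su s (su (gm s) (lr r)) = lr v := by
      rw [hv]
      exact rt_inj (by rw [su_add h5, su_add h4, su_add h6, su_add h1]; abel)
    rw [coe_mul, coe_mul, coe_mul, coe_mul, coe_inv, xs_val, xs_val, x_val, x_val, ← su_gm _ _ h1, gm_lr,
      map_mul, map_mul, T.fi, hn, su_comm (lr r), su_comm (lr r)]
    calc _ = 𝔵 s u * (𝔵 (gm s) (T.σ u) * 𝔵 (lr r) (T.ι c) * (𝔵 (gm s) (T.σ u))⁻¹) * (𝔵 s u)⁻¹ := by group
      _ = (𝔵 s u * 𝔵 (lr r) (T.ι c) * (𝔵 s u)⁻¹) *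
          (𝔵 s u * 𝔵 (su (gm s) (lr r)) (T.σ u * T.ι c) * (𝔵 s u)⁻¹) := by rw [cjY h4]; group
      _ = _ := by
        rw [cjY h3, cjY h5, h7, mul_comm u (T.ι c), mul_comm (T.σ u), show u * (T.ι c * T.σ u) =
          T.ι c * (u * T.σ u) by ring]
        group)
  tor v k hk r u := Subtype.ext (by
    have := (map_ne_zero T.ι).2 hk
    rw [coe_mul, coe_mul, coe_inv, hhv', xs_val, xs_val, ← conj_mul, hhY _ _ this, hhY _ _ this,
      ← ip_gm', gm_lr, map_mul, map_zpow₀, T.fi])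
  hhv := T.hhv'
  hs r h a ha := by
    have m : ∀ a b, T.xs r a * T.xs (ng r) b * T.xs r a ∈ T.gt {r, ng r} := fun a b =>
      mul_mem (mul_mem (T.xs_mem (.inl rfl) _) (T.xs_mem (.inr rfl) _)) (T.xs_mem (.inl rfl) _)
    have h0 := (ip_gm_self r).resolve_left h
    have a1 := (map_ne_zero T.σ).2 ha
    have c : nn E6 𝔵 (gm r) (T.σ a) * nn E6 𝔵 r 1 = nn E6 𝔵 r 1 * nn E6 𝔵 (gm r) (T.σ a) := by
      have c1 : ∀ s : Rt E6, ip r s = 0 → ∀ b, Commute (𝔵 s b) (nn E6 𝔵 r 1) := fun s e b => by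
        have k1 : Commute (𝔵 s b) (𝔵 r 1) := (cY e.ge _ _).symm
        rw [nnY]
        exact (k1.mul_right (cY (by rw [ip_ng, ip_comm, e]; rfl) _ _)).mul_right k1
      rw [nnY (gm r)]
      exact ((c1 _ h0 _).mul_left (c1 _ (by rw [ip_ng, h0]; rfl) _)).mul_left (c1 _ h0 _)
    have e : ((T.xs r a * T.xs (ng r) a⁻¹ * T.xs r a * (T.xs r 1 * T.xs (ng r) 1⁻¹ * T.xs r 1) : T.X) : YY K) =
        hh E6 𝔵 r a * hh E6 𝔵 (gm r) (T.σ a) := by
      rw [coe_mul, T.nn_short h, T.nn_short h, map_one, H64.hh_eq, H64.hh_eq, CharTwo.neg_eq, mul_assoc,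
        ← mul_assoc (nn E6 𝔵 (gm r) _), c]
      group
    refine ⟨_, mul_mem (m a a⁻¹) (m 1 1⁻¹), e, fun _ => rfl, fun s =>
      ⟨mul_ne_zero (zpow_ne_zero _ ha) (zpow_ne_zero _ a1), fun b => ?_⟩⟩
    rw [e, mul_inv_rev, mul_assoc, mul_assoc, ← mul_assoc (𝔵 s b), ← mul_assoc (hh E6 𝔵 (gm r) _),
      ← mul_assoc (hh E6 𝔵 (gm r) _), hhY _ _ a1, ← mul_assoc, hhY _ _ ha, mul_assoc]
    rfl
  gtY := T.gtY'
  card S _ hS := by rw [T.card' S hS, ← Set.ncard_coe_finset]; simp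
  isP := ((syl_UU E6 K).isPGroup.comap_of_injective (fx T.ph).subtype (subtype_injective _)).to_le
    fun g hg => by
      have := T.gt_leY (by decide +kernel) hg
      rwa [gY_SU] at this
  prod := T.prod'
  nrm S hS r h u := mem_normalizer_of_cj_le (by
    rintro _ ⟨g, hg, rfl⟩
    refine (T.gtY' S hS _).2 ?_
    have := x_nrm h u (x_nrm (r := gm r) (fun s hs => ⟨fun e => (h _ (hS.2 s hs)).1 (by
      rw [e, gm_ng, gm_gm]), fun e => by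
        have e' : ip r (gm s) = -1 := ip_gm' r s ▸ e
        have := hS.2 _ ((h _ (hS.2 s hs)).2 e')
        rwa [← su_gm _ _ e', gm_gm] at this⟩) (T.σ u) (T.gt_leY hS.2 hg))
    convert this using 1
    show (T.xs r u : YY K) * g * (T.xs r u : YY K)⁻¹ = _
    rw [xs_val]; group)
  lf w hw := by
    obtain ⟨n, -, h⟩ := exists_mv (stY K).toStN w
    refine ⟨⟨n, mem_fx.2 ((ad E6 K).conj_injective (H30.Sf.aut_ext fun s a => ?_))⟩, hw, h⟩
    rw [MulAut.conj_apply, MulAut.conj_apply, h, ← gm_gm s, ← T.ss a, ← ph_x, ← map_inv, ← map_mul,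
      ← map_mul, h, ph_x, hw, hw, hw, gm_gm]
  lfw := T.lfw'
  tr1 r := by
    obtain ⟨n, -, w, h1, h2⟩ := T.lfw' (w1 r)
    exact ⟨n, w, h1, h2 r ▸ (w1_spec r).imp_right And.right⟩
  tr2 r s r' s' h := by
    obtain ⟨n, w, h1, h2, h3⟩ := T.tr2' r s
    obtain ⟨n', w', h4, h5, h6⟩ := T.tr2' r' s'
    exact ⟨_, _, (h4.inv T).mul T h1, by rw [WData.mul_apply, h2, ← h5, WData.inv_apply_apply],
      by rw [WData.mul_apply, h3, h, ← h6, WData.inv_apply_apply]⟩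
  cob v hv e := by
    rw [← gY_SU] at hv ⊢
    exact T.cob' SU (by decide +kernel) (by decide +kernel) v hv e

end Qd

theorem jobKB : JobKB := fun _ _ _ _ _ _ _ _ T => T.kb

end H78.TE
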