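/- A self-centralising TI 2-subgroup `Q = O₂(N(Q))` with a collinear conjugate is elementary. -/
import Cfsg.Agent.H66.TIB2

set_option autoImplicit false
set_option linter.unusedSectionVars false

open Cfsg H46 H66.WT Subgroup

universe u

namespace H78.TE

variable {G : Type u} [Group G] {S : Set (Subgroup G)} {A B P T : Subgroup G}
  {a a' b b' c d d' g t w w' x y : G}

theorem two_pow_out (K : Subgroup G) (h : Two g) (h0 : g ∉ K) :
    ∃ i : ℕ, g ^ 2 ^ i ∉ K ∧ g ^ 2 ^ i * g ^ 2 ^ i ∈ K := by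
  obtain ⟨j, e⟩ := h
  by_contra hc
  push Not at hc
  have : ∀ i : ℕ, g ^ 2 ^ i ∉ K := fun i => by
    induction i with
    | zero => simpa using h0
    | succ i ih => rw [pow_succ, pow_mul, pow_two]; exact hc i ih
  exact this j (e ▸ one_mem _)

/-- an element that centralises the involutions of an abelian 2-group acts as a 2-element -/
theorem pow_cent (hab : ∀ a ∈ A, ∀ b ∈ A, a * b = b * a) (hg : g ∈ Nrm A)
    (h : ∀ a ∈ A, a * a = 1 → g * a = a * g) (i : ℕ) :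
    ∀ a ∈ A, a ^ 2 ^ i = 1 → g ^ 2 ^ i * a = a * g ^ 2 ^ i := by
  induction i with
  | zero => intro a _ e; simp at e; simp [e]
  | succ i ih =>
    intro a ha e
    have hk := pow_mem hg (2 ^ i)
    have e1 := ih (a * a) (mul_mem ha ha) (by rw [← pow_two, ← pow_mul, ← pow_succ', e])
    generalize hk' : g ^ 2 ^ i = k at hk e1
    have hu := cm_mem_right ha hk
    have u2 : cm k a * cm k a = 1 := by
      have := cm_mul_right a a k
      rw [cm_eq_one.2 e1, hab a ha _ hu, mul_inv_cancel_right] at this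
      exact this.symm
    have e2 : k * cm k a = cm k a * k := by
      rw [← hk']; exact (Commute.pow_left (h _ (hk' ▸ hu) (hk' ▸ u2)) _).eq
    rw [pow_succ, pow_mul, hk', pow_two, ← cm_eq_one, cm_mul_left, e2, mul_inv_cancel_right, u2]

structure Geo2 (S : Set (Subgroup G)) : Prop where
  conj : ∀ P ∈ S, ∀ g : G, cj g P ∈ S
  pg : ∀ P ∈ S, IsPGroup 2 P
  cent : ∀ P ∈ S, Cent P = P
  ti : ∀ P ∈ S, ∀ Q ∈ S, ∀ a ∈ P, a ∈ Q → a ≠ 1 → P = Q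
  om : ∀ P ∈ S, ∀ g ∈ Nrm P, (∀ a ∈ P, a * a = 1 → g * a = a * g) → g ∈ P

structure Pq (S : Set (Subgroup G)) (A B : Subgroup G) : Prop where
  geo : Geo2 S
  l : A ∈ S
  r : B ∈ S
  ne : A ≠ B

namespace Pq
variable (h : Pq S A B)
include h

theorem symm : Pq S B A := ⟨h.geo, h.r, h.l, h.ne.symm⟩
theorem comm (ha : a ∈ A) (ha' : a' ∈ A) : a * a' = a' * a :=
  mem_cent.1 ((h.geo.cent A h.l).ge ha') a ha
theorem disj (ha : a ∈ A) (hb : a ∈ B) : a = 1 :=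
  by_contra fun e => h.ne (h.geo.ti A h.l B h.r a ha hb e)

theorem ax_comm (ha : a ∈ ax A B) (hb : b ∈ ax B A) : a * b = b * a :=
  cm_eq_one.1 (h.disj (cm_mem_left ha.1 hb.2) (cm_mem_right hb.1 ha.2))

theorem cA (ha : a ∈ A) (hb : b ∈ ax B A) (h1 : b ≠ 1) (e : a * b = b * a) : a ∈ ax A B :=
  ⟨ha, mem_nrm_iff_cj.2 (h.geo.ti _ (h.geo.conj B h.r a) B h.r b
    (mem_cj.2 (by rw [mul_assoc, ← e, inv_mul_cancel_left]; exact hb.1)) hb.1 h1)⟩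

theorem L_one (ha : a ∈ A) (h0 : a ∉ ax A B) (hb : b ∈ ax B A) (e : cm a b = 1) : b = 1 :=
  by_contra fun k => h0 (h.cA ha hb k (cm_eq_one.1 e))

theorem L_inj (ha : a ∈ A) (h0 : a ∉ ax A B) (hb : b ∈ ax B A) (hb' : b' ∈ ax B A)
    (e : cm a b = cm a b') : b = b' := by
  have := h.L_one ha h0 (mul_mem (inv_mem hb') hb) (by
    calc _ = a * b'⁻¹ * a⁻¹ * cm a b * b' := by unfold cm; group
      _ = 1 := by rw [e]; unfold cm; group)
  exact (inv_mul_eq_one.1 this).symm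

theorem exI (hd : d ∈ ax B A) (h1 : d ≠ 1) : ∃ a ∈ A, a * a = 1 ∧ a ∉ ax A B := by
  by_contra hc
  push Not at hc
  exact h1 (h.disj (h.geo.om A h.l d hd.2 fun a ha e => (h.ax_comm (hc a ha e) hd).symm) hd.1)

theorem nrmH : A ≤ Nrm (ax A B) := nrm_of_le_cent fun _ k _ k' => h.comm (ax_le k') k

variable [Finite G]

theorem card_le (ha : a ∈ A) (h0 : a ∉ ax A B) (k : ∀ b ∈ ax B A, cm a b ∈ ax A B) :
    Nat.card (ax B A) ≤ Nat.card (ax A B) :=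
  Nat.card_le_card_of_injective (fun b : ax B A => (⟨cm a b, k b b.2⟩ : ax A B)) fun b b' e =>
    Subtype.ext (h.L_inj ha h0 b.2 b'.2 (congrArg Subtype.val e))

theorem step1 (hd : d ∈ ax B A) (h1 : d ≠ 1) :
    (∀ b ∈ ax B A, b * b = 1) ∧ Nat.card (ax B A) ≤ Nat.card (ax A B) := by
  obtain ⟨a, ha, -, ha0⟩ := h.exI hd h1
  obtain ⟨x, hx, x0, x1⟩ := fixq (T := ax B A) ((h.geo.pg B h.r).to_le ax_le) (h.geo.pg A h.l)
    (lt_of_le_of_ne (ax_le : ax A B ≤ A) fun e => ha0 (e.symm ▸ ha)) ax_le_nrm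
    (nrm_of_le_cent fun _ k _ k' => h.ax_comm k' k) h.nrmH
  obtain ⟨i, y0, y1⟩ := two_pow_out _ (Two.of_mem (h.geo.pg A h.l) hx) x0
  have y2 : ∀ b ∈ ax B A, cm (x ^ 2 ^ i) b ∈ ax A B := fun b hb =>
    (pow_mem (show x ∈ cmS (ax A B) b from ⟨h.nrmH hx, by
      rw [← cm_inv]; exact inv_mem (x1 b hb)⟩) _).2
  have hy := pow_mem hx (2 ^ i)
  refine ⟨fun b hb => h.L_one hy y0 (mul_mem hb hb) ?_, h.card_le hy y0 y2⟩
  have := cm_mul_left (x ^ 2 ^ i) (x ^ 2 ^ i) b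
  rw [cm_eq_one.2 (h.ax_comm y1 hb), h.comm hy (y2 b hb).1, mul_inv_cancel_right] at this
  rw [cm_mul_right, ← h.ax_comm (y2 b hb) hb, mul_inv_cancel_right, ← this]

theorem exH (hd : d ∈ ax B A) (h1 : d ≠ 1) : ∃ x ∈ ax A B, x ≠ 1 := by
  have h0 : ax A B ≠ ⊥ := fun e => by
    have := (h.step1 hd h1).2
    rw [e, card_bot] at this
    exact h1 (mem_bot.1 ((card_le_one_iff_eq_bot _).1 this ▸ hd))
  obtain ⟨x, e⟩ := ne_bot_iff_exists_ne_one.1 h0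
  exact ⟨x, x.2, fun k => e (Subtype.ext k)⟩

theorem sqD (hb : b ∈ ax B A) : b * b = 1 := by
  by_cases h1 : b = 1
  · simp [h1]
  · exact (h.step1 hb h1).1 b hb

theorem invH (ha : a ∈ A) (hb : b ∈ ax B A) (h1 : b ≠ 1) : a * (b * a * b⁻¹) ∈ ax A B := by
  have k := conj_mem_of_mem_nrm hb.2 ha
  refine h.cA (mul_mem ha k) hb h1 ?_
  calc _ = a * b * a := by group
    _ = a * (b * a * b⁻¹) * (b * b) * b⁻¹ := by group
    _ = b * a * b⁻¹ * (b * b) * a * b⁻¹ := by rw [h.sqD hb, h.comm ha k]; simp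
    _ = _ := by group

theorem inv_sq (ha : a ∈ A) (hb : b ∈ ax B A) (h1 : b ≠ 1) (n : ℕ) :
    b * (a * a) ^ n * b⁻¹ = ((a * a) ^ n)⁻¹ := by
  have k := conj_mem_of_mem_nrm hb.2 ha
  have e := h.symm.sqD (h.invH ha hb h1)
  rw [← conj_pow, ← inv_pow]
  congr 1
  refine eq_inv_of_mul_eq_one_right ?_
  rw [← e, ← conj_mul]
  generalize b * a * b⁻¹ = u at k
  rw [mul_assoc, ← mul_assoc a u u, h.comm ha k, mul_assoc u, ← mul_assoc, h.comm ha k]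

theorem sqH (hd : d ∈ ax B A) (h1 : d ≠ 1) (he : x ∈ A) : x * x ∈ ax A B := by
  by_contra h0
  obtain ⟨i, c0, c1⟩ := two_pow_out _ (Two.of_mem (h.geo.pg A h.l) (mul_mem he he)) h0
  have hc := pow_mem (mul_mem he he) (2 ^ i)
  have inv := fun b hb h1 => h.inv_sq (b := b) he hb h1 (2 ^ i)
  generalize (x * x) ^ 2 ^ i = c at c0 c1 hc inv
  have c2 : c * c ≠ 1 := fun e => c0 (h.cA hc hd h1 (by
    have := inv d hd h1
    rw [inv_of_sq e] at this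
    exact (mul_inv_eq_iff_eq_mul.1 this).symm))
  obtain ⟨a, ha, a2, a0⟩ := h.exI hd h1
  have k : ∀ b ∈ ax B A, cm a b ∈ ax A B := fun b hb => by
    by_cases e : b = 1
    · simp [e, cm]
    · have := h.invH ha hb e
      rwa [cm, inv_of_sq a2, mul_assoc, mul_assoc, ← mul_assoc b]
  obtain ⟨y, hy, y1⟩ := h.exH hd h1
  obtain ⟨b, e⟩ := (Function.Injective.bijective_of_nat_card_le
    (f := fun b : ax B A => (⟨cm a b, k b b.2⟩ : ax A B)) (fun b b' e =>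
      Subtype.ext (h.L_inj ha a0 b.2 b'.2 (congrArg Subtype.val e))) (h.symm.step1 hy y1).2).2 ⟨_, c1⟩
  have e : cm a b = c * c := congrArg Subtype.val e
  obtain ⟨b, hb⟩ := b
  have b1 : b ≠ 1 := fun k => c2 (by rw [← e]; simp [k, cm])
  have m := h.symm.sqD (h.cA (mul_mem ha hc) hb b1 (by
    refine (mul_inv_eq_iff_eq_mul.1 ?_).symm
    calc _ = a⁻¹ * (a * b * a * b⁻¹) * (b * c * b⁻¹) := by group
      _ = a * c := by
        rw [inv b hb b1, show a * b * a * b⁻¹ = c * c by rw [← e, cm, inv_of_sq a2], inv_of_sq a2]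
        group))
  exact c2 (by rwa [mul_assoc, ← mul_assoc c, ← h.comm ha hc, mul_assoc, ← mul_assoc, a2, one_mul] at m)

theorem L_mem (ha : a ∈ A) (hb : b ∈ ax B A) : cm a b ∈ ax A B := by
  by_cases e : b = 1
  · simp [e, cm]
  rw [show cm a b = a * a * (a⁻¹ * (b * a⁻¹ * b⁻¹)) by unfold cm; group]
  exact mul_mem (h.sqH hb e ha) (h.invH (inv_mem ha) hb e)

theorem mem_wd : w ∈ wd A B ↔ ∃ h ∈ ax A B, ∃ b ∈ ax B A, w = h * b :=
  mem_sup_of_nrm (nrm_of_le_cent fun _ hb _ ha => h.ax_comm ha hb)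

theorem wd_ab (hw : w ∈ wd A B) (hw' : w' ∈ wd A B) : w * w' = w' * w := by
  obtain ⟨x, hx, y, hy, rfl⟩ := h.mem_wd.1 hw
  obtain ⟨x', hx', y', hy', rfl⟩ := h.mem_wd.1 hw'
  exact (Commute.mul_right (h.comm hx.1 hx'.1) (h.ax_comm hx hy')).mul_left
    (Commute.mul_right (h.ax_comm hx' hy).symm (h.symm.comm hy.1 hy'.1))

theorem wd_le_l : wd A B ≤ Nrm A := sup_le (ax_le.trans le_nrm_self) ax_le_nrm
theorem wd_le_r : wd A B ≤ Nrm B := sup_le ax_le_nrm (ax_le.trans le_nrm_self)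

theorem cW (ha : a ∈ A) (h0 : a ∉ ax A B) (hw : w ∈ wd A B) (e : a * w = w * a) : w ∈ A := by
  obtain ⟨x, hx, y, hy, rfl⟩ := h.mem_wd.1 hw
  rw [← mul_assoc, h.comm ha hx.1, mul_assoc, mul_assoc, mul_right_inj] at e
  rw [h.L_one ha h0 hy (cm_eq_one.2 e), mul_one]
  exact hx.1

theorem l_nrm : A ≤ Nrm (wd A B) := fun a ha => mem_nrm_of_cj_le (by
  rintro _ ⟨w, hw, rfl⟩
  obtain ⟨x, hx, y, hy, rfl⟩ := h.mem_wd.1 hw
  rw [show (MulAut.conj a).toMonoidHom (x * y) = a * x * a⁻¹ * (cm a y * y) by simp [cm, mul_assoc]]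
  exact mul_mem (ax_le_wd (conj_mem_of_mem_nrm (h.nrmH ha) hx))
    (mul_mem (ax_le_wd (h.L_mem ha hy)) (ax_le_wd' hy)))

theorem r_nrm : B ≤ Nrm (wd A B) := wd_comm B A ▸ h.symm.l_nrm

/-- a point that meets `W` and the coset `a W` is `A` -/
theorem coset (hT : T ∈ S) (ht : t ∈ T) (htw : t ∈ wd A B) (t1 : t ≠ 1) (hx : x ∈ T) (ha : a ∈ A)
    (h0 : a ∉ ax A B) (e : a⁻¹ * x ∈ wd A B) : T = A := by
  refine h.geo.ti T hT A h.l t ht (h.cW ha h0 htw ?_) t1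
  have e1 : Commute x t := mem_cent.1 ((h.geo.cent T hT).ge ht) x hx
  have e2 : Commute (a⁻¹ * x) t := h.wd_ab e htw
  simpa using (e1.mul_left e2.inv_left).eq

theorem coset_cj (hP : P ∈ S) (ht : t ∈ P) (htw : t ∈ wd A B) (t1 : t ≠ 1) (hx : x ∈ P) (ha : a ∈ A)
    (h0 : a ∉ ax A B) (hy : y ∈ Nrm (wd A B)) (e : a⁻¹ * (y * x * y⁻¹) ∈ wd A B) : cj y P = A :=
  h.coset (h.geo.conj P hP y) (conj_mem_cj.2 ht) (conj_mem_of_mem_nrm hy htw) (by simpa using t1)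
    (conj_mem_cj.2 hx) ha h0 e

theorem cW_cj (hx : x ∈ Nrm (wd A B)) (ha : a ∈ A) (h0 : a ∉ ax A B) (hw : w ∈ wd A B)
    (e : x * a * x⁻¹ * w = w * (x * a * x⁻¹)) : w ∈ cj x A :=
  mem_cj.2 (h.cW ha h0 (conj_mem_of_mem_nrm' hx hw) (by
    calc _ = x⁻¹ * (x * a * x⁻¹ * w) * x := by group
      _ = _ := by rw [e]; group))

theorem main (hd : d ∈ ax B A) (h1 : d ≠ 1) (hb : b ∈ B) : b * b = 1 := by
  by_cases b0 : b ∈ ax B A
  · exact h.sqD b0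
  obtain ⟨a, ha, a2, a0⟩ := h.exI hd h1
  obtain ⟨t, ht, t1⟩ := h.exH hd h1
  have na : a ∈ Nrm (wd A B) := h.l_nrm ha
  have nb : b ∈ Nrm (wd A B) := h.r_nrm hb
  have qa : qel (wd A B) a * qel (wd A B) a = 1 := by rw [← mel_mul _ na na, a2, mel_one]
  have qb : qel (wd A B) b * qel (wd A B) b = 1 := by
    rw [← mel_mul _ nb nb]; exact qel_of_mem (ax_le_wd' (h.symm.sqH ht t1 hb))
  rcases dih2 qa qb with ⟨k, e⟩ | ⟨z, z1, -, za, zb, alt⟩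
  · have hy := pow_mem (mul_mem na nb) (k + 1)
    have e1 : a⁻¹ * ((a * b) ^ (k + 1) * b * ((a * b) ^ (k + 1))⁻¹) ∈ wd A B := by
      have hy' : ((a * b) ^ (k + 1))⁻¹ ∈ Nrm (wd A B) := inv_mem hy
      rw [← qel_eq_iff na (mul_mem (mul_mem hy nb) hy'), qel, qel, mel_conj _ hy nb,
        mel_pow _ (mul_mem na nb), mel_mul _ na nb, mul_assoc, dih_c qa qb, ← mul_assoc, ← pow_add,
        show k + 1 + (k + 1) = 2 * k + 1 + 1 by ring, pow_succ, e, one_mul, mul_assoc, qb, mul_one]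
    have e2 := h.coset_cj h.r hd.1 (ax_le_wd' hd) h1 hb ha a0 hy e1
    generalize (a * b) ^ (k + 1) = y at e1 e2
    have e3 : y * b * y⁻¹ ∈ A := e2 ▸ conj_mem_cj.2 hb
    have e4 := h.symm.sqD (mem_ax.2 ⟨A.mul_mem (A.inv_mem ha) e3, h.wd_le_r e1⟩)
    rw [inv_of_sq a2, mul_assoc, ← mul_assoc (y * b * y⁻¹), ← h.comm ha e3, mul_assoc, ← mul_assoc,
      a2, one_mul, conj_mul] at e4
    simpa using e4
  exfalso
  obtain ⟨z, hz, rfl⟩ := qel_surjective z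
  have zA : cj z A = A := h.coset_cj h.l ht.1 (ax_le_wd ht) t1 ha ha a0 hz (by
    rw [← qel_eq_iff na (mul_mem (mul_mem hz na) (inv_mem hz)), qel, qel, mel_conj _ hz na, za,
      mul_inv_cancel_right])
  have zB : cj z B = B := h.symm.coset_cj h.r hd.1 (ax_le_wd hd) h1 hb hb b0 (wd_comm A B ▸ hz) (by
    rw [wd_comm, ← qel_eq_iff nb (mul_mem (mul_mem hz nb) (inv_mem hz)), qel, qel, mel_conj _ hz nb,
      zb, mul_inv_cancel_right])
  obtain ⟨T, hT, u, hu, nu, e, cw⟩ : ∃ T ∈ S, ∃ u ∈ T, u ∈ Nrm (wd A B) ∧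
      qel (wd A B) u = qel (wd A B) z * qel (wd A B) a ∧ ∀ w ∈ wd A B, u * w = w * u → w ∈ T := by
    rcases alt with ⟨k, -⟩ | ⟨k, -⟩ <;> obtain ⟨y, e⟩ := isConj_iff.1 k <;>
      obtain ⟨y, hy, rfl⟩ := qel_surjective y
    · exact ⟨_, h.geo.conj A h.l y, _, conj_mem_cj.2 ha, mul_mem (mul_mem hy na) (inv_mem hy),
        (mel_conj _ hy na).trans e, fun w hw => h.cW_cj hy ha a0 hw⟩
    · exact ⟨_, h.geo.conj B h.r y, _, conj_mem_cj.2 hb, mul_mem (mul_mem hy nb) (inv_mem hy),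
        (mel_conj _ hy nb).trans e, fun w hw => h.symm.cW_cj (wd_comm A B ▸ hy) hb b0 (wd_comm A B ▸ hw)⟩
  have e1 : z⁻¹ * (u * a⁻¹) ∈ wd A B := by
    have na' : a⁻¹ ∈ Nrm (wd A B) := inv_mem na
    rw [← qel_eq_iff hz (mul_mem nu na'), qel, qel, mel_mul _ nu na', mel_inv _ na]
    exact (eq_mul_inv_of_mul_eq e.symm)
  have uA : u ∈ Nrm A := by
    have := mul_mem (mul_mem (mem_nrm_iff_cj.2 zA) (h.wd_le_l e1)) (le_nrm_self ha)
    simpa using this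
  have eH : ax A B = A ⊓ wd A B :=
    le_antisymm (le_inf ax_le ax_le_wd) fun _ k => ⟨k.1, h.wd_le_r k.2⟩
  obtain ⟨x, hx, x1, x2⟩ := fix1 (T := zpowers u) (U := ax A B)
    (Two.of_mem (h.geo.pg T hT) hu).isPGroup ((h.geo.pg A h.l).to_le ax_le)
    (fun e => t1 (mem_bot.1 (e ▸ ht))) (eH ▸ nrm_inf (zpowers_le.2 uA) (zpowers_le.2 nu))
  obtain rfl := h.geo.ti T hT A h.l x (cw x (ax_le_wd hx) (x2 u (mem_zpowers u))) hx.1 x1
  have e2 : u * a⁻¹ ∈ wd T B := ax_le_wd <| mem_ax.2 ⟨T.mul_mem hu (T.inv_mem ha), by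
    simpa using mul_mem (mem_nrm_iff_cj.2 zB) (h.wd_le_r e1)⟩
  exact z1 (qel_of_mem (inv_mem_iff.1 (((wd T B).mul_mem_cancel_right e2).1 e1)))

end Pq

theorem om [Finite G] {Q : Subgroup G} (h2 : IsPGroup 2 Q) (hc : Cent Q = Q)
    (ho : ∀ N : Subgroup G, IsPGroup 2 N → N ⊴ Nrm Q → N ≤ Q) (hg : g ∈ Nrm Q)
    (h : ∀ a ∈ Q, a * a = 1 → g * a = a * g) : g ∈ Q := by
  have : Fact (Nat.Prime 2) := ⟨Nat.prime_two⟩
  let N : Subgroup G := Nrm Q ⊓ centralizer {a | a ∈ Q ∧ a * a = 1}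
  obtain ⟨n, hn⟩ := IsPGroup.iff_card.1 h2
  refine ho N (fun x => ?_) ⟨inf_le_left, fun y hy => mem_nrm_of_cj_le ?_⟩
    ⟨hg, fun a ha => (h a ha.1 ha.2).symm⟩
  · have k : (x : G) ^ 2 ^ n ∈ Q := hc.le fun a ha => (pow_cent
      (fun a ha b hb => mem_cent.1 (hc.ge hb) a ha) x.2.1
      (fun a ha e => (x.2.2 a ⟨ha, e⟩).symm) n a ha (by
        have := congrArg Subtype.val (pow_card_eq_one' (x := (⟨a, ha⟩ : Q)))
        rwa [hn] at this)).symm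
    obtain ⟨j, e⟩ := Two.of_mem h2 k
    exact ⟨n + j, Subtype.ext (by rw [pow_add, pow_mul]; exact e)⟩
  · intro x hx
    rw [mem_cj] at hx
    refine ⟨by simpa [mul_assoc] using mul_mem (mul_mem hy hx.1) (inv_mem hy), fun a ha => ?_⟩
    have := hx.2 (y⁻¹ * a * y) ⟨conj_mem_of_mem_nrm' hy ha.1, by
      calc _ = y⁻¹ * (a * a) * y := by group
        _ = 1 := by rw [ha.2]; group⟩
    calc _ = y * (y⁻¹ * a * y * (y⁻¹ * x * y)) * y⁻¹ := by group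
      _ = _ := by rw [this]; group

theorem elem {G : Type u} [Group G] [Finite G] (Q : Subgroup G) (h2 : IsPGroup 2 Q)
    (hc : Cent Q = Q) (hti : ∀ g, cj g Q = Q ∨ cj g Q ⊓ Q = ⊥)
    (ho : ∀ N : Subgroup G, IsPGroup 2 N → N ⊴ Nrm Q → N ≤ Q)
    (hx : ∃ g, cj g Q ≠ Q ∧ cj g Q ⊓ Nrm Q ≠ ⊥) : ∀ a ∈ Q, a * a = 1 := by
  have geo : Geo2 {P | ∃ g, P = cj g Q} := by
    refine ⟨?_, ?_, ?_, ?_, ?_⟩
    · rintro _ ⟨g, rfl⟩ x
      exact ⟨x * g, (cj_mul _ _ _).symm⟩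
    · rintro _ ⟨g, rfl⟩
      exact h2.of_equiv (cjEquiv g Q)
    · rintro _ ⟨g, rfl⟩
      rw [← cj_cent, hc]
    · rintro _ ⟨g, rfl⟩ _ ⟨k, rfl⟩ a ha hb h1
      rcases hti (k⁻¹ * g) with e | e
      · rw [cj_mul, cj_eq_iff, inv_inv] at e; exact e
      · have m : k⁻¹ * a * k ∈ cj (k⁻¹ * g) Q := by
          rw [cj_mul]
          simpa using conj_mem_cj (g := k⁻¹).2 ha
        have := mem_bot.1 (e.le ⟨m, mem_cj.1 hb⟩)
        exact absurd (by rw [← mul_inv_cancel_left k (a * k⁻¹⁻¹), ← mul_assoc k⁻¹, inv_inv, this,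
          mul_one] : a * k⁻¹⁻¹ = k) (by simpa using h1)
    · rintro _ ⟨g, rfl⟩ x hx k
      rw [← cj_nrm, mem_cj] at hx
      refine mem_cj.2 (om h2 hc ho hx fun a ha e => ?_)
      have := k _ (conj_mem_cj.2 ha) (by rw [conj_mul, e]; simp)
      calc _ = g⁻¹ * (x * (g * a * g⁻¹)) * g := by group
        _ = _ := by rw [this]; group
  obtain ⟨g, h0, h1⟩ := hx
  obtain ⟨⟨d, hd⟩, d1⟩ := ne_bot_iff_exists_ne_one.1 h1
  intro a ha
  have := Pq.main ⟨geo, ⟨1, (cj_one Q).symm⟩, ⟨g, rfl⟩, h0.symm⟩ hd (fun e => d1 (Subtype.ext e))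
    (conj_mem_cj.2 ha)
  rw [conj_mul] at this
  simpa using this

end H78.TE
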