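import Cfsg.Agent.H78.U5M
import Cfsg.Agent.H78.XS
import Cfsg.Agent.H32.SHKit2

/-! Facts on the model of the Sylow `2`-subgroup of `U₅(2)`. -/

set_option autoImplicit false

namespace H78.U5

open E U

/-- the central involution -/
abbrev ez : U := el o o o o false true
/-- a transvection outside `Q` -/
abbrev es : U := el o o o o true false
/-- a non-singular involution of `V` -/
abbrev ec : U := el o o i o false false
/-- an element outside `Q V` -/
abbrev ed : U := el o o o i false false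

theorem mul_def (s t : U) : s * t = U.mul s t := rfl
theorem inv_def (s : U) : s⁻¹ = U.inv s := rfl

/-- the extraspecial subgroup of order `2 ^ 7` -/
def Q : Subgroup U where
  carrier := {s | s.d = o ∧ s.e = o}
  one_mem' := ⟨rfl, rfl⟩
  mul_mem' := by
    rintro s t ⟨h1, h2⟩ ⟨h3, h4⟩
    simp [mul_def, U.mul, h1, h2, h3, h4, add, E.mul]
  inv_mem' := by
    rintro s ⟨h1, h2⟩
    simp [inv_def, U.inv, h1, h2, cj]

/-- the elementary abelian subgroup of order `16` -/
def V : Subgroup U where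
  carrier := {s | s.a = o ∧ s.d = o ∧ s.b = o}
  one_mem' := ⟨rfl, rfl, rfl⟩
  mul_mem' := by
    rintro s t ⟨h1, h2, h3⟩ ⟨h4, h5, h6⟩
    simp [mul_def, U.mul, h1, h2, h3, h4, h5, h6, add, E.mul]
  inv_mem' := by
    rintro s ⟨h1, h2, h3⟩
    simp [inv_def, U.inv, h1, h2, h3, add, E.mul]

/-- the centralizer of `V` -/
def W : Subgroup U where
  carrier := {s | s.a = o}
  one_mem' := rfl
  mul_mem' := by
    rintro s t (h1 : s.a = o) (h2 : t.a = o)
    simp [mul_def, U.mul, h1, h2, add]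
  inv_mem' := by
    rintro s (h1 : s.a = o)
    simp [inv_def, U.inv, h1]

instance decQ : DecidablePred (· ∈ Q) := fun s => inferInstanceAs (Decidable (s.d = o ∧ s.e = o))
instance decV : DecidablePred (· ∈ V) := fun s =>
  inferInstanceAs (Decidable (s.a = o ∧ s.d = o ∧ s.b = o))
instance decW : DecidablePred (· ∈ W) := fun s => inferInstanceAs (Decidable (s.a = o))

/-- the five transvections in `V` -/
def Sg (t : U) : Prop := t ∈ V ∧ t ≠ 1 ∧ E.mul t.e t.w = E.mul t.c (cj t.c)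

instance decSg : DecidablePred Sg := fun t =>
  inferInstanceAs (Decidable (t ∈ V ∧ t ≠ 1 ∧ E.mul t.e t.w = E.mul t.c (cj t.c)))

theorem Q_el : ∀ s ∈ Q, s = el s.a s.b s.c o false false ∨ s = el s.a s.b s.c o false true := by
  decide +kernel

theorem all_Q {p : U → Prop} (h : ∀ a b c y, p (el a b c o false y)) : ∀ s ∈ Q, p s := fun s hs => by
  rcases Q_el s hs with e | e <;> rw [e] <;> exact h ..

theorem all_V {p : U → Prop} (h : ∀ c x y, p (el o o c o x y)) : ∀ s ∈ V, p s := fun s hs => by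
  obtain ⟨x, y, e⟩ := exists_el s
  rw [e, hs.1, hs.2.1, hs.2.2]; exact h ..

theorem all_W {p : U → Prop} (h : ∀ d b c x y, p (el o b c d x y)) : ∀ s ∈ W, p s := fun s hs => by
  obtain ⟨x, y, e⟩ := exists_el s
  rw [e, show s.a = o from hs]; exact h ..

instance decAllQ (p : U → Prop) [DecidablePred p] : Decidable (∀ s ∈ Q, p s) :=
  decidable_of_iff (∀ a b c y, p (el a b c o false y)) ⟨all_Q, fun h _ _ _ _ => h _ ⟨rfl, rfl⟩⟩

instance decAllV (p : U → Prop) [DecidablePred p] : Decidable (∀ s ∈ V, p s) :=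
  decidable_of_iff (∀ c x y, p (el o o c o x y)) ⟨all_V, fun h _ _ _ => h _ ⟨rfl, rfl, rfl⟩⟩

instance decAllW (p : U → Prop) [DecidablePred p] : Decidable (∀ s ∈ W, p s) :=
  decidable_of_iff (∀ d b c x y, p (el o b c d x y)) ⟨all_W, fun h _ _ _ _ _ => h _ rfl⟩

theorem z_comm : ∀ s : U, ez * s = s * ez := by decide +kernel

theorem card_Q : Nat.card Q = 128 :=
  (card_eq_cnt Q (fun s => decide (s ∈ Q)) fun _ => decide_eq_true_iff.symm).trans (by decide +kernel)

theorem card_V : Nat.card V = 16 :=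
  (card_eq_cnt V (fun s => decide (s ∈ V)) fun _ => decide_eq_true_iff.symm).trans (by decide +kernel)

theorem inv_mem : ∀ s : U, s * s = 1 → s ∈ Q ∨ s ∈ V := by decide +kernel

theorem V_sq : ∀ s ∈ V, s * s = 1 := by decide +kernel

theorem W_V : ∀ s ∈ W, ∀ t ∈ V, s * t = t * s := by decide +kernel

theorem V_le_W : V ≤ W := fun _ h => h.1

theorem V_comm : ∀ s ∈ V, ∀ t ∈ V, s * t = t * s := fun s hs => W_V s (V_le_W hs)

/-- the list of the transvections -/
def SL : List U := [ez, es, el o o i o true true, el o o w o true true, el o o v o true true]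

theorem Sg_mem (t : U) (h : Sg t) : t ∈ SL :=
  (by decide +kernel : ∀ t ∈ V, Sg t → t ∈ SL) t h.1 h

theorem Sg_z : Sg ez := by decide +kernel
theorem Sg_s : Sg es := by decide +kernel
theorem not_Sg_c : ¬ Sg ec := by decide +kernel
theorem c_mem : ec ∈ V ∧ ec ≠ 1 := by decide +kernel
theorem z_ne : ez ≠ 1 := by decide +kernel
theorem s_ne_z : es ≠ ez := by decide +kernel
theorem s_not_Q : es ∉ Q := by decide +kernel

theorem Sg_Q (t : U) (h : Sg t) : t ∈ Q → t = ez :=
  (by decide +kernel : ∀ t ∈ V, Sg t → t ∈ Q → t = ez) t h.1 h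

theorem mem_W : ∀ s : U, s * es = es * s → s ∈ W := by decide +kernel

theorem Sg_conj (t : U) (h : Sg t) (h1 : t ≠ ez) : ∃ g, g * es * g⁻¹ = t := by
  obtain ⟨g, -, e⟩ := (by decide +kernel : ∀ t ∈ V, Sg t → t ≠ ez → ∃ g ∈ [1, el i o o o false false,
    el w o o o false false, el v o o o false false], g * es * g⁻¹ = t) t h.1 h h1
  exact ⟨g, e⟩

theorem W_sq : ∀ s ∈ W, s * s = 1 ∨ Sg (s * s) := by decide +kernel

theorem Sg_sq (t : U) (h : Sg t) : ∃ s ∈ W, s * s = t := by
  obtain ⟨g, -, e⟩ := (by decide +kernel : ∀ t ∈ V, Sg t → ∃ s ∈ [el o i o o false false, ed,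
    el o i o i false false, el o w o i false false, el o v o i false false], s ∈ W ∧ s * s = t) t h.1 h
  exact ⟨g, e⟩

/-- a non-singular element of `V` is the product of exactly one pair of transvections -/
theorem V_gen (t : U) (h : t ∈ V) (h1 : t ≠ 1) (h2 : ¬ Sg t) : ∃ s, Sg s ∧ Sg (s * t) ∧
    ∀ r, Sg r → Sg (r * t) → r = s ∨ r = s * t := by
  obtain ⟨s, -, e1, e2, e3⟩ := (by decide +kernel : ∀ t ∈ V, t ≠ 1 → ¬ Sg t → ∃ s ∈ SL, Sg s ∧
    Sg (s * t) ∧ ∀ r ∈ SL, Sg (r * t) → r = s ∨ r = s * t) t h h1 h2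
  exact ⟨s, e1, e2, fun r hr => e3 r (Sg_mem r hr)⟩

theorem V_not_Q : ∀ t ∈ V, t ∈ Q ∨ Sg t ∨ Sg (t * ez) := by decide +kernel

theorem Q_sq : ∀ s ∈ Q, s * s = 1 ∨ s * s = ez := by decide +kernel

theorem eq_or {s t : U} (h1 : s.a = t.a) (h2 : s.b = t.b) (h3 : s.c = t.c) (h4 : s.d = t.d)
    (h5 : s.e = t.e) : s = t ∨ s = t * ez := by
  have h6 : s.w + σ s.w = t.w + σ t.w := by
    have e1 := s.hw
    rw [h1, h2, h3] at e1
    linear_combination e1 - t.hw
  have k : ∀ t : U, (t * ez).a = t.a ∧ (t * ez).b = t.b ∧ (t * ez).c = t.c ∧ (t * ez).d = t.d ∧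
      (t * ez).e = t.e ∧ (t * ez).w = t.w + 1 := by decide +kernel
  obtain ⟨k1, k2, k3, k4, k5, k6⟩ := k t
  exact ((by decide : ∀ x y : E, x + σ x = y + σ y → x = y ∨ x = y + 1) _ _ h6).imp
    (U.ext h1 h2 h3 h4 h5) fun h => U.ext (h1.trans k1.symm) (h2.trans k2.symm) (h3.trans k3.symm)
      (h4.trans k4.symm) (h5.trans k5.symm) (h.trans k6.symm)

theorem Q_comm : ∀ s ∈ Q, ∀ t ∈ Q, s * t = t * s ∨ s * t = t * s * ez := fun s hs t ht => by
  have h1 : s.d = 0 := hs.1
  have h2 : s.e = 0 := hs.2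
  have h3 : t.d = 0 := ht.1
  have h4 : t.e = 0 := ht.2
  refine eq_or ?_ ?_ ?_ ?_ ?_ <;>
    simp only [mul_def, mul_a, mul_b, mul_c, mul_d, mul_e, h1, h2, h3, h4, map_zero] <;> ring

theorem cen_Q (s : U) (h : ∀ t ∈ Q, s * t = t * s) : s = 1 ∨ s = ez :=
  (by decide +kernel : ∀ s : U, (∀ t ∈ [el i o o o false false, el w o o o false false,
    el o i o o false false, el o w o o false false, ec, el o o w o false false], s * t = t * s) →
    s = 1 ∨ s = ez) s fun t ht => h t (by revert t; decide +kernel)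

theorem xs_Q : XS Q ez where
  z_mem := by decide +kernel
  z_ne := z_ne
  z_sq := by decide +kernel
  z_comm x _ := z_comm x
  center x _ := cen_Q x
  sq := Q_sq
  comm := Q_comm
  nonab := ⟨el w o o o false false, by decide +kernel, ec, by decide +kernel, by decide +kernel⟩

theorem inv_a (s : U) : s⁻¹.a = -s.a := rfl
theorem inv_b (s : U) : s⁻¹.b = s.a * s.d - s.b := rfl
theorem inv_d (s : U) : s⁻¹.d = -s.d := rfl
theorem inv_e (s : U) : s⁻¹.e = σ s.e := rfl

instance normalQ : Q.Normal := ⟨fun s hs g => by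
  have h1 : s.d = 0 := hs.1
  have h2 : s.e = 0 := hs.2
  refine ⟨show _ = (0 : E) from ?_, show _ = (0 : E) from ?_⟩
  · simp only [mul_def, mul_d, inv_d, h1]; ring
  · simp only [mul_def, mul_d, mul_e, inv_d, inv_e, h1, h2, map_neg, map_zero]
    linear_combination g.he⟩

instance normalV : V.Normal := ⟨fun s hs g => by
  have h1 : s.a = 0 := hs.1
  have h2 : s.d = 0 := hs.2.1
  have h3 : s.b = 0 := hs.2.2
  refine ⟨show _ = (0 : E) from ?_, show _ = (0 : E) from ?_, show _ = (0 : E) from ?_⟩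
  · simp only [mul_def, mul_a, inv_a, h1]; ring
  · simp only [mul_def, mul_d, inv_d, h2]; ring
  · simp only [mul_def, mul_a, mul_b, inv_b, inv_d, h1, h2, h3]; ring⟩

theorem cen_le_Q {u s : U} (hu : u ∈ Q) (u2 : u * u = 1) (hV : u ∉ V) (h : s * u = u * s) :
    s ∈ Q := by
  have h0 : u.a ≠ 0 := (by decide +kernel : ∀ u ∈ Q, u * u = 1 → u ∉ V → u.a ≠ o) u hu u2 hV
  have h1 : u.d = 0 := hu.1
  have h2 : u.e = 0 := hu.2
  have h3 := congrArg U.b h
  have h4 := congrArg U.c h
  simp only [mul_def, mul_b, mul_c, h1, h2, map_zero] at h3 h4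
  have h5 : s.d = 0 := (mul_eq_zero.1 (show u.a * s.d = 0 by linear_combination -h3)).resolve_left h0
  rw [h5, map_zero] at h4
  exact ⟨h5, (mul_eq_zero.1 (show u.a * s.e = 0 by linear_combination -h4)).resolve_left h0⟩

/-- the involutions centralizing an element outside `Q` lie in `V` -/
theorem mem_V {x y : U} (hy : y ∉ Q) (x2 : x * x = 1) (h : y * x = x * y) : x ∈ V :=
  by_contra fun hx => hy (cen_le_Q ((inv_mem x x2).resolve_right hx) x2 hx h)

set_option synthInstance.maxSize 1000 in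
theorem rank3 : ∀ u ∈ [el i o o o false false, el w o o o false false, el v o o o false false],
    u ∈ Q ∧ u * u = 1 ∧ u ∉ V ∧ ∀ x ∈ Q, x * x = 1 → x * u = u * x →
    x ∈ [1, u, ez, u * ez] ∨ ∀ y ∈ Q, y * y = 1 → y * u = u * y → y * x = x * y →
      y ∈ [1, u, ez, u * ez, x, u * x, ez * x, u * ez * x] := by decide +kernel

theorem exists_rep : ∀ u ∈ Q, u * u = 1 → u ∉ V → ∃ c ∈ [o, i, w], ∃ d ∈ [o, i, w, v],
    ∃ x ∈ [false, true], el o o c d x false * u * (el o o c d x false)⁻¹ ∈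
      [el i o o o false false, el w o o o false false, el v o o o false false] := by decide +kernel

theorem exists_not_mem {A : Subgroup U} (l : List U) (h : l.length < Nat.card A) :
    ∃ x ∈ A, x ∉ l := by
  by_contra hc
  push Not at hc
  have h1 : (A : Set U).ncard ≤ (l.toFinset : Set U).ncard :=
    Set.ncard_le_ncard (fun x hx => by simpa using hc x hx) (Finset.finite_toSet _)
  rw [Set.ncard_coe_finset] at h1
  have h2 := l.toFinset_card_le
  have h3 : Nat.card A = (A : Set U).ncard := rfl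
  omega

/-- `V` is the only elementary abelian subgroup of order `16` -/
theorem le_V {A : Subgroup U} (h : 16 ≤ Nat.card A) (h2 : ∀ x ∈ A, x * x = 1)
    (hc : ∀ x ∈ A, ∀ y ∈ A, x * y = y * x) : A ≤ V := fun u hu => by
  by_contra hV
  obtain ⟨c, -, d, -, r, -, h3⟩ := exists_rep u ((inv_mem u (h2 u hu)).resolve_right hV) (h2 u hu) hV
  generalize el o o c d r false = g at h3
  have h4 := H98.conj_mem_cj (g := g) hu
  rw [← H98.card_cj g] at h
  replace h2 : ∀ x ∈ H98.cj g A, x * x = 1 := by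
    rintro _ ⟨x, hx, rfl⟩
    rw [← map_mul, h2 x hx, map_one]
  replace hc : ∀ x ∈ H98.cj g A, ∀ y ∈ H98.cj g A, x * y = y * x := by
    rintro _ ⟨x, hx, rfl⟩ _ ⟨y, hy, rfl⟩
    rw [← map_mul, hc x hx y hy, map_mul]
  generalize H98.cj g A = B at *
  generalize g * u * g⁻¹ = t at *
  obtain ⟨hQ, t2, tV, h5⟩ := rank3 t h3
  have k : ∀ x ∈ B, x ∈ Q := fun x hx => cen_le_Q hQ t2 tV (hc x hx t h4)
  obtain ⟨x, hx, h6⟩ := exists_not_mem (A := B) [1, t, ez, t * ez] (by simp; omega)
  obtain ⟨y, hy, h7⟩ := exists_not_mem (A := B) [1, t, ez, t * ez, x, t * x, ez * x, t * ez * x]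
    (by simp; omega)
  exact h7 ((h5 x (k x hx) (h2 x hx) (hc x hx t h4)).resolve_left h6 y (k y hy)
    (h2 y hy) (hc y hy t h4) (hc y hy x hx))

/-- every element of `Q` centralizes a dihedral group -/
theorem exists_D8 (u : U) (h : u ∈ Q) : ∃ x y : U, x * x = 1 ∧ y * y = 1 ∧ x * y = y * x * ez ∧
    x * u = u * x ∧ y * u = u * y := by
  obtain ⟨p, -, e⟩ := (by decide +kernel : ∀ u ∈ Q, ∃ p ∈ [
    (el o o i o false false, el w o o o false false), (el o o w o false false, el i o o o false false),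
    (el o o v o false false, el i i w o false false), (el i o i o false false, el i i v o false false),
    (el w o w o false false, el v i w o false false), (el v o o o false false, el v i i o false false),
    (el o o v o false false, el i o o o false false)], p.1 * u = u * p.1 ∧ p.2 * u = u * p.2 ∧
      p.1 * p.1 = 1 ∧ p.2 * p.2 = 1 ∧ p.1 * p.2 = p.2 * p.1 * ez) u h
  exact ⟨p.1, p.2, e.2.2.1, e.2.2.2.1, e.2.2.2.2, e.1, e.2.1⟩

/-- the commutator of two involutions -/
theorem comm_mem {x y r : U} (x2 : x * x = 1) (y2 : y * y = 1) (h : x * y = y * x * r) :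
    r ∈ Q ∧ r ∈ V := by
  have e : r = x⁻¹ * (y⁻¹ * x * y⁻¹⁻¹) := by rw [inv_inv, mul_assoc y⁻¹, h]; group
  have e' : r = x⁻¹ * y⁻¹ * x⁻¹⁻¹ * y := by rw [e]; group
  have kQ : ∀ {A : Subgroup U} [A.Normal], x ∈ A ∨ y ∈ A → r ∈ A := fun {A} hA h => h.elim
    (fun h => e ▸ mul_mem (Subgroup.inv_mem _ h) (hA.conj_mem _ h _))
    fun h => e' ▸ mul_mem (hA.conj_mem _ (Subgroup.inv_mem _ h) _) h
  have k1 : x * y = y * x → r ∈ Q ∧ r ∈ V := fun h1 => by
    obtain rfl : r = 1 := by rw [h1] at h; exact left_eq_mul.1 h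
    exact ⟨one_mem _, one_mem _⟩
  rcases inv_mem x x2 with hx | hx <;> rcases inv_mem y y2 with hy | hy
  · refine (Q_comm x hx y hy).elim k1 fun h1 => ?_
    obtain rfl : r = ez := mul_left_cancel (h.symm.trans h1)
    exact ⟨xs_Q.z_mem, Sg_z.1⟩
  · exact ⟨kQ (.inl hx), kQ (.inr hy)⟩
  · exact ⟨kQ (.inr hy), kQ (.inl hx)⟩
  · exact k1 (V_comm x hx y hy)

theorem mem_W_of_sq : ∀ y : U, y * y = ez → y ∉ Q → y ∈ W := by decide +kernel

theorem card_cen (y : U) (h : y ∈ W) (h2 : y * y = ez) : Nat.card (H1.Gold.cen1 y) = 128 := by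
  obtain ⟨g, -, r, hr, rfl⟩ := (by decide +kernel : ∀ y ∈ W, y * y = ez → ∃ g ∈ [1,
    el o o o i false false, el o o o w false false, el o o o v false false, el o i o o false false,
    el o i o i false false, el o i o w false false, el o i o v false false, el o w o o false false,
    el o w o i false false, el o w o w false false, el o w o v false false],
    ∃ r ∈ [el o i o o false false, el o w o o false false, el o v o o false false,
      el o i o o true false, el o w o o true false, el o v o o true false], g * r * g⁻¹ = y) y h h2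
  rw [← H1.Gold.cj_cen1, H98.card_cj,
    card_eq_cnt _ (fun s => decide (s * r = r * s)) fun _ => by simp [H1.Gold.mem_cen1]]
  clear h h2
  revert r
  decide +kernel

instance decIn6 (z a b x : U) : Decidable (H32.SH.In6 z a b x) :=
  inferInstanceAs (Decidable (x = a ∨ x = a * z ∨ x = b ∨ x = b * z ∨ x = a * b ∨ x = a * b * z))

set_option synthInstance.maxSize 1000 in
theorem no_Q8 : ∀ a ∈ Q, a * a = ez → ∀ b ∈ Q, b * b = ez → a * b = b * a * ez →
    ¬ ((H32.SH.In6 ez a b (ed * a * ed⁻¹) ∧ H32.SH.In6 ez a b (ed * b * ed⁻¹)) ∨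
      (∀ x ∈ [a, b], ∀ y ∈ [a, b], ed * x * ed⁻¹ * y = y * (ed * x * ed⁻¹))) := by decide +kernel

theorem mem_Qs : ∀ x : U, x ∉ Q → x * es ∈ Q ∨ x * x * es ∈ Q := by decide +kernel

end H78.U5
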