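import Cfsg.Agent.H78.U5F
import Cfsg.Agent.H78.IsoCon

/-! Fusion in a group with a Sylow `2`-subgroup of type `U₅(2)` (blueprint `SYL2H.md`, part 2). -/

set_option autoImplicit false
set_option linter.unusedSectionVars false

namespace H78.U5

open Cfsg Subgroup H14 H98 H1.Gold H31.S2 H32.SH H78.Iso

universe u

variable {G : Type u} [Group G] [Finite G] {φ : U →* G} {g n : G} {s t x y : U}

/-- `φ` identifies `U` with a Sylow `2`-subgroup of `G` -/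
structure Md (φ : U →* G) : Prop where
  inj : Function.Injective φ
  syl : IsSyl 2 φ.range ⊤

theorem range_le_nor (φ : U →* G) (A : Subgroup U) [A.Normal] : φ.range ≤ nor (A.map φ) := by
  rw [MonoidHom.range_eq_map]
  exact map_le_normalizer_map φ le_normalizer_of_normal

theorem V_le_cen (hs : s ∈ W) : V.map φ ≤ cen1 (φ s) := by
  rintro _ ⟨v, hv, rfl⟩
  rw [mem_cen1, ← map_mul, ← map_mul, W_V s hs v hv]

namespace Md

variable (h : Md φ)
include h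

theorem syl' : IsSyl 2 (φ.range ⊓ cen1 (φ ez)) (⊤ ⊓ cen1 (φ ez)) :=
  isSyl_inf_cen1_of_le h.syl (by
    rintro _ ⟨s, rfl⟩
    rw [mem_cen1, ← map_mul, ← map_mul, z_comm])

theorem sq (e : g * φ s * g⁻¹ = φ t) : g * φ (s * s) * g⁻¹ = φ (t * t) := by
  rw [map_mul, map_mul, ← e, conj_mul]

theorem sq_one (e : g * φ s * g⁻¹ = φ t) (s2 : s * s = 1) : t * t = 1 := h.inj (by
  rw [← h.sq e, s2]; simp)

theorem cjV (hg : cj g (V.map φ) ≤ φ.range) : cj g (V.map φ) = V.map φ := by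
  have hA : ((cj g (V.map φ)).comap φ).map φ = cj g (V.map φ) := map_comap_eq_self hg
  have hc : Nat.card ((cj g (V.map φ)).comap φ) = 16 := by
    rw [← card_map_of_injective h.inj, hA, card_cj, card_map_of_injective h.inj, card_V]
  refine eq_of_le_of_card_ge (hA ▸ map_mono (le_V hc.ge ?_ ?_)) (card_cj _ _).ge
  · rintro x ⟨_, ⟨v, hv, rfl⟩, e⟩
    exact h.sq_one e (V_sq v hv)
  · rintro x ⟨_, ⟨v, hv, rfl⟩, e⟩ y ⟨_, ⟨w, hw, rfl⟩, e'⟩
    refine h.inj ?_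
    rw [map_mul, map_mul, ← e, ← e', ← map_mul, ← map_mul, ← map_mul, ← map_mul, V_comm v hv w hw]

theorem wcV : H98.WC 2 (V.map φ) ⊤ :=
  haveI : Fact (Nat.Prime 2) := ⟨Nat.prime_two⟩
  wc_of_isSyl h.syl (map_le_range _ _) fun _ _ => h.cjV

theorem mem_of_nor {A : Subgroup U} (hn : n ∈ nor (A.map φ)) (hs : s ∈ A)
    (e : n * φ s * n⁻¹ = φ t) : t ∈ A :=
  (mem_map_iff_mem h.inj).1 (e ▸ conj_mem_of_mem_normalizer hn (mem_map_of_mem φ hs))

/-- `N(V)` controls fusion in `C(V)` -/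
theorem fusV (hs : s ∈ W) (ht : t ∈ W) (e : g * φ s * g⁻¹ = φ t) :
    ∃ n ∈ nor (V.map φ), n * φ s * n⁻¹ = φ t := by
  obtain ⟨n, hn, e'⟩ := wc_conj (K := ⊤) h.wcV le_top (mem_top g) (V_le_cen hs)
    (by rw [e]; exact V_le_cen ht)
  exact ⟨n, hn.2, e'.trans e⟩

theorem inf_cenV : φ.range ⊓ cen (V.map φ) = W.map φ := by
  refine le_antisymm ?_ ?_
  · rintro _ ⟨⟨s, rfl⟩, hs⟩
    refine mem_map_of_mem φ (mem_W s (h.inj ?_))
    rw [map_mul, map_mul]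
    exact (hs _ (mem_map_of_mem φ Sg_s.1)).symm
  · rintro _ ⟨s, hs, rfl⟩
    exact ⟨⟨s, rfl⟩, le_cen1_iff.1 (V_le_cen hs)⟩

theorem sgV (hs : Sg s) (ht : t ∈ V) (e : g * φ s * g⁻¹ = φ t) : Sg t := by
  have : Fact (Nat.Prime 2) := ⟨Nat.prime_two⟩
  obtain ⟨n, hn, e'⟩ := h.fusV (V_le_W hs.1) (V_le_W ht) e
  have h1 := h.syl.inf_of_le_normalizer (N := cen (V.map φ)) le_top
    (le_normalizer_centralizer (range_le_nor φ V))
  rw [h.inf_cenV] at h1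
  obtain ⟨a, ha, c, hc, rfl⟩ := h1.frattini_mem (normalizer_le_normalizer_centralizer _ hn)
  obtain ⟨x, hx, rfl⟩ := Sg_sq s hs
  obtain ⟨y, hy, e1⟩ := conj_mem_of_mem_normalizer ha (mem_map_of_mem φ hx)
  have e2 : φ (y * y) = φ t := by
    rw [← h.sq e1.symm, ← e', mul_assoc a c, ← hc _ (mem_map_of_mem φ hs.1)]; group
  rw [← h.inj e2]
  refine (W_sq y hy).resolve_left fun e3 => hs.2.1 (h.inj ?_)
  have := h.sq e1.symm
  rw [e3, map_one, mul_inv_eq_one, mul_eq_left] at this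
  rw [this, map_one]

/-- an extremal conjugate of an element of `C(V)` -/
theorem extW (hs : s ∈ W) : ∃ g ∈ nor (V.map φ), ∃ y ∈ W, g * φ s * g⁻¹ = φ y ∧
    IsSyl 2 (φ.range ⊓ cen1 (φ y)) (⊤ ⊓ cen1 (φ y)) := by
  obtain ⟨g, -, ⟨y, hy⟩, h1, h2⟩ := exists_ext h.syl (x := φ s) ⟨s, rfl⟩
  have h3 := h.cjV ((cj_mono g (le_inf (map_le_range _ _) (V_le_cen hs))).trans h1)
  refine ⟨g, cj_eq_self_iff.1 h3, y, ?_, hy.symm, hy ▸ h2⟩
  rw [← mem_map_iff_mem h.inj, ← h.inf_cenV]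
  refine ⟨⟨y, rfl⟩, le_cen1_iff.1 ?_⟩
  rw [← h3, hy, ← cj_cen1]
  exact cj_mono g (V_le_cen hs)

theorem pull (hy : IsSyl 2 (φ.range ⊓ cen1 (φ y)) (⊤ ⊓ cen1 (φ y))) (e : g * φ s * g⁻¹ = φ y) :
    ∃ k α, k * φ s * k⁻¹ = φ y ∧ Pull φ k (cen1 s) α ∧ α s = y := by
  obtain ⟨k, -, e1, h1⟩ := exists_conj_ext h.syl hy (mem_top g) e
  obtain ⟨α, hα⟩ := exists_pull_cen1 h.inj h1
  exact ⟨k, α, e1, hα, hα.of_eq (mem_cen1.2 rfl) e1⟩

/-- an element of `Q` is not conjugate to an extremal element outside `Q` -/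
theorem mem_Q (hs : s ∈ Q) (hy : IsSyl 2 (φ.range ⊓ cen1 (φ y)) (⊤ ⊓ cen1 (φ y)))
    (e : g * φ s * g⁻¹ = φ y) : y ∈ Q := by
  by_contra hQ
  obtain ⟨k, α, -, hα, rfl⟩ := h.pull hy e
  obtain ⟨a, b, a2, b2, hab, ha, hb⟩ := exists_D8 s hs
  have ha' := mem_cen1.2 ha
  have hb' := mem_cen1.2 hb
  have k : ∀ a ∈ cen1 s, a * a = 1 → α a ∈ V := fun a ha a2 =>
    mem_V hQ (hα.sq ha a2) (hα.comm (mem_cen1.2 rfl) ha (mem_cen1.1 ha).symm)
  have h1 := V_comm _ (k a ha' a2) _ (k b hb' b2)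
  rw [← hα.mul ha' hb', ← hα.mul hb' ha'] at h1
  rw [hα.inj (mul_mem ha' hb') (mul_mem hb' ha') h1, left_eq_mul] at hab
  exact z_ne hab

/-- F1: the transvections are weakly closed -/
theorem sg (hs : Sg s) (e : g * φ s * g⁻¹ = φ t) : Sg t := by
  by_cases hV : t ∈ V
  · exact h.sgV hs hV e
  exfalso
  have hQ := (inv_mem t (h.sq_one e (V_sq s hs.1))).resolve_right hV
  obtain ⟨k, hk, y, -, e1, hy⟩ := h.extW (V_le_W hs.1)
  have e2 : k * g⁻¹ * φ t * (k * g⁻¹)⁻¹ = φ y := by rw [← e, ← e1]; group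
  obtain rfl := Sg_Q y (h.sgV hs (h.mem_of_nor hk hs.1 e1) e1) (h.mem_Q hQ hy e2)
  obtain ⟨k, α, -, hα, e3⟩ := h.pull hy e2
  obtain ⟨a, b, a2, b2, hab, ha, hb⟩ := exists_D8 t hQ
  have hz : ez ∈ cen1 t := mem_cen1.2 (z_comm t)
  obtain ⟨h1, h2⟩ := comm_mem (hα.sq (mem_cen1.2 ha) a2) (hα.sq (mem_cen1.2 hb) b2)
    (hα.comm' (mem_cen1.2 ha) (mem_cen1.2 hb) hz hab)
  have h3 := Sg_Q _ (h.sgV Sg_z h2 (hα.eq _ hz)) h1
  exact hV (hα.inj hz (mem_cen1.2 rfl) (h3.trans e3.symm) ▸ Sg_z.1)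

theorem sg' (ht : Sg t) (e : g * φ s * g⁻¹ = φ t) : Sg s :=
  h.sg (g := g⁻¹) ht (by rw [← e]; group)

theorem card_inf (s : U) : Nat.card (φ.range ⊓ cen1 (φ s) : Subgroup G) = Nat.card (cen1 s) := by
  rw [← card_map_of_injective (K := cen1 s) h.inj]
  congr 2
  refine le_antisymm ?_ (map_cen1_le φ s)
  rintro _ ⟨⟨t, rfl⟩, ht⟩
  exact mem_map_of_mem φ (mem_cen1.2 (h.inj (by rw [map_mul, map_mul]; exact mem_cen1.1 ht)))

theorem ext_of_sq (hz : φ ez ∈ center G) (hy : y ∈ W) (y2 : y * y = ez) :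
    IsSyl 2 (φ.range ⊓ cen1 (φ y)) (⊤ ⊓ cen1 (φ y)) := by
  have : Fact (Nat.Prime 2) := ⟨Nat.prime_two⟩
  obtain ⟨g, -, t, ht, e, h1⟩ := h.extW hy
  have t2 : t * t = ez := h.inj (by
    rw [← h.sq e, y2, mem_center_iff.1 hz, mul_inv_cancel_right])
  have h2 := h1.cj g⁻¹
  rw [cj_inf (H := ⊤), cj_top, cj_cen1, ← e, show g⁻¹ * (g * φ y * g⁻¹) * g⁻¹⁻¹ = φ y by group] at h2
  refine h2.of_card_ge (h.syl.isPGroup.to_le inf_le_left) (inf_le_inf_right _ le_top) ?_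
  rw [card_cj, e, h.card_inf, h.card_inf, card_cen y hy y2, card_cen t ht t2]

/-- F2: `Q` is strongly closed if `z` is central -/
theorem scQ (hz : φ ez ∈ center G) : IsStronglyClosed (Q.map φ) φ.range := by
  refine ⟨map_le_range _ _, ?_⟩
  rintro _ ⟨x, hx, rfl⟩ g ⟨y, e⟩
  rw [← e]
  refine mem_map_of_mem φ (by_contra fun hy => ?_)
  have zc : g * φ ez * g⁻¹ = φ ez := by rw [mem_center_iff.1 hz, mul_inv_cancel_right]
  rcases Q_sq x hx with x2 | x2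
  · have hV := (inv_mem y (h.sq_one e.symm x2)).resolve_left hy
    rcases (V_not_Q y hV).resolve_left hy with h1 | h1
    · obtain rfl := Sg_Q x (h.sg' h1 e.symm) hx
      exact hy (h.inj (e.trans zc) ▸ hx)
    · have h2 := Sg_Q _ (h.sg' (g := g) (s := x * ez) h1 (by
        rw [map_mul, map_mul, e, ← conj_mul, zc])) (mul_mem hx xs_Q.z_mem)
      obtain rfl : x = 1 := mul_eq_right.1 h2
      obtain rfl : y = 1 := h.inj (by rw [e]; simp)
      exact hy (one_mem _)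
  · have y2 : y * y = ez := h.inj (by rw [← h.sq e.symm, x2, zc])
    exact hy (h.mem_Q hx (h.ext_of_sq hz (mem_W_of_sq y y2 hy) y2) e.symm)

theorem xs : XS (Q.map φ) (φ ez) := by
  have k := xs_Q
  refine ⟨mem_map_of_mem φ k.z_mem, fun e => k.z_ne (h.inj (by rw [e, map_one])),
    by rw [← map_mul, k.z_sq, map_one], ?_, ?_, ?_, ?_, ?_⟩
  · rintro _ ⟨x, hx, rfl⟩
    rw [← map_mul, ← map_mul, z_comm]
  · rintro _ ⟨x, hx, rfl⟩ e
    exact (cen_Q x fun y hy => h.inj (by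
      rw [map_mul, map_mul]; exact e _ (mem_map_of_mem φ hy))).imp
      (fun e => by rw [e, map_one]) (congrArg φ)
  · rintro _ ⟨x, hx, rfl⟩
    rw [← map_mul]
    exact (Q_sq x hx).imp (fun e => by rw [e, map_one]) (congrArg φ)
  · rintro _ ⟨x, hx, rfl⟩ _ ⟨y, hy, rfl⟩
    rw [← map_mul, ← map_mul, ← map_mul]
    exact (Q_comm x hx y hy).imp (congrArg φ) (congrArg φ)
  · obtain ⟨x, hx, y, hy, e⟩ := k.nonab
    exact ⟨_, mem_map_of_mem φ hx, _, mem_map_of_mem φ hy, fun e' => e (h.inj (by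
      rw [map_mul, map_mul, e']))⟩

/-- QN: `Q` is normal if `z` is central and `O(G) = 1` -/
theorem normal (hO : oddCore G = ⊥) (hz : φ ez ∈ center G) : (Q.map φ).Normal := by
  refine (xs_normal hO hz h.syl h.xs (h.scQ hz)).resolve_right ?_
  rintro ⟨_, ⟨a, ha, rfl⟩, _, ⟨b, hb, rfl⟩, a2, b2, hab, h1⟩
  have h2 := h1 (φ ed) ⟨ed, rfl⟩
  simp only [In6, List.forall_mem_cons, List.not_mem_nil, false_imp_iff, implies_true, and_true,
    ← map_inv, ← map_mul, h.inj.eq_iff] at a2 b2 hab h2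
  refine no_Q8 a ha a2 b hb b2 hab ?_
  simpa only [In6, List.forall_mem_cons, List.not_mem_nil, false_imp_iff, implies_true, and_true]
    using h2

theorem cenQ (hO : oddCore G = ⊥) (hz : φ ez ∈ center G) : cen (Q.map φ) ≤ Q.map φ := by
  have := h.normal hO hz
  refine (le_zp hO h.syl hz h.xs.z_sq ?_).trans (zpowers_le.2 h.xs.z_mem)
  rintro _ ⟨⟨s, rfl⟩, hs⟩
  rcases cen_Q s fun t ht => h.inj (by
    rw [map_mul, map_mul]; exact (hs _ (mem_map_of_mem φ ht)).symm) with rfl | rfl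
  · rw [map_one]; exact one_mem _
  · exact mem_zpowers _

theorem mem_cen (s : U) : φ s ∈ cen1 (φ ez) := by
  rw [mem_cen1, ← map_mul, ← map_mul, z_comm]

theorem restrict : Md (φ.codRestrict (cen1 (φ ez)) h.mem_cen) :=
  ⟨fun _ _ e => h.inj (congrArg Subtype.val e), isSyl_codRestrict h.syl _⟩

theorem restrict_center : φ.codRestrict (cen1 (φ ez)) h.mem_cen ez ∈ center _ :=
  mem_center_iff.2 fun g => Subtype.ext (mem_cen1.1 g.2)

theorem con_top (hz : φ ez ∈ center G) : IsPConstrained 2 G := by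
  have : Fact (Nat.Prime 2) := ⟨Nat.prime_two⟩
  have sf := QuotientGroup.mk'_surjective (oddCore G)
  have h1 : Md ((QuotientGroup.mk' (oddCore G)).comp φ) :=
    ⟨inj_mk_oddCore h.inj h.syl, isSyl_comp h.syl sf⟩
  have hO : oddCore (G ⧸ oddCore G) = ⊥ := H2.pPrimeCore_quotient_pPrimeCore 2 G
  have h2 : (QuotientGroup.mk' (oddCore G)).comp φ ez ∈ center _ := mem_center_iff.2 fun q => by
    obtain ⟨q, rfl⟩ := sf q
    rw [MonoidHom.comp_apply, ← map_mul, ← map_mul, mem_center_iff.1 hz]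
  have := h1.normal hO h2
  exact H10.isPConstrained_iff_isCharP_quotient.2 (H10.isCharP_of_normal
    (h1.syl.isPGroup.to_le (map_le_range _ _)) (h1.cenQ hO h2))

theorem con_z : IsPConstrained 2 (cen1 (φ ez)) := h.restrict.con_top h.restrict_center

end Md

end H78.U5
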