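import Cfsg.Agent.Base

/-! A model of the Sylow `2`-subgroup of `U₅(2)`: unitriangular matrices over the field with four
elements preserving the antidiagonal hermitian form (blueprint `SYL2H.md`, part 2). -/

set_option autoImplicit false

namespace H78.U5

/-- the field with four elements `0, 1, ω, ω²` -/
inductive E
  | o | i | w | v

namespace E

def add (a b : E) : E :=
  E.casesOn (motive := fun _ => E) a b (E.casesOn (motive := fun _ => E) b i o v w)
    (E.casesOn (motive := fun _ => E) b w v o i) (E.casesOn (motive := fun _ => E) b v w i o)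

def mul (a b : E) : E :=
  E.casesOn (motive := fun _ => E) a o b (E.casesOn (motive := fun _ => E) b o w v i)
    (E.casesOn (motive := fun _ => E) b o v i w)

def cj (a : E) : E := E.casesOn (motive := fun _ => E) a o i v w

def beq (a b : E) : Bool :=
  E.casesOn (motive := fun _ => Bool) a (E.casesOn (motive := fun _ => Bool) b true false false false)
    (E.casesOn (motive := fun _ => Bool) b false true false false)
    (E.casesOn (motive := fun _ => Bool) b false false true false)
    (E.casesOn (motive := fun _ => Bool) b false false false true)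

theorem beq_iff (a b : E) : beq a b = true ↔ a = b := by
  cases a <;> cases b <;> simp [beq]

instance decEqE : DecidableEq E := fun a b => decidable_of_iff _ (beq_iff a b)

theorem forall_iff {p : E → Prop} : (∀ x, p x) ↔ p o ∧ p i ∧ p w ∧ p v :=
  ⟨fun h => ⟨h _, h _, h _, h _⟩, fun h x => by cases x <;> simp [h]⟩

instance decAllE (p : E → Prop) [DecidablePred p] : Decidable (∀ x, p x) :=
  decidable_of_iff _ forall_iff.symm

instance addE : Add E := ⟨add⟩
instance mulE : Mul E := ⟨mul⟩
instance negE : Neg E := ⟨fun x => x⟩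
instance zeroE : Zero E := ⟨o⟩
instance oneE : One E := ⟨i⟩

instance ringE : CommRing E := CommRing.ofMinimalAxioms (by decide) (by decide) (by decide)
  (by decide) (by decide) (by decide) (by decide)

instance fieldE : Field E where
  inv := cj
  exists_pair_ne := ⟨o, i, by decide⟩
  mul_inv_cancel := by decide
  inv_zero := rfl
  nnqsmul := _
  qsmul := _

instance finE : Fintype E := ⟨⟨[o, i, w, v], by decide⟩, fun x => by cases x <;> decide⟩

theorem card : Fintype.card E = 4 := rfl

theorem sum_eq (f : E → ℕ) : ∑ x, f x = f o + f i + f w + f v := by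
  show f o + (f i + (f w + (f v + 0))) = _
  omega

/-- the Frobenius automorphism -/
def σ : E →+* E where
  toFun := cj
  map_one' := rfl
  map_zero' := rfl
  map_mul' := by decide
  map_add' := by decide

theorem σσ (x : E) : σ (σ x) = x := by cases x <;> rfl

theorem sq_eq (x : E) : x ^ 2 = σ x := by rw [pow_two]; cases x <;> rfl

def bit (x : Bool) : E := Bool.casesOn (motive := fun _ => E) x o i

theorem tr_eq : ∀ e n : E, e + σ e + n = 0 → ∃ x : Bool, e = add (bit x) (mul w n) := by decide

end E

open E

/-- the entries `12, 13, 14, 23, 24, 15` of a unitriangular unitary matrix -/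
@[ext] structure U where
  a : E
  b : E
  c : E
  d : E
  e : E
  w : E
  he : e + σ e + d * σ d = 0
  hw : w + σ w + (a * σ c + b * σ b + c * σ a) = 0

namespace U

def mul (s t : U) : U where
  a := add s.a t.a
  b := add (add s.b t.b) (E.mul s.a t.d)
  c := add (add (add s.c t.c) (E.mul s.a t.e)) (E.mul s.b (cj t.d))
  d := add s.d t.d
  e := add (add s.e t.e) (E.mul s.d (cj t.d))
  w := add (add (add (add s.w t.w)
    (E.mul s.a (add (add (cj t.c) (E.mul (cj t.a) t.e)) (E.mul (cj t.b) t.d))))
    (E.mul s.b (cj (add (E.mul t.a t.d) t.b)))) (E.mul s.c (cj t.a))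
  he := by
    show (s.e + t.e - s.d * σ t.d) + σ (s.e + t.e - s.d * σ t.d) + (s.d + t.d) * σ (s.d + t.d) = 0
    simp only [map_add, map_sub, map_mul, σσ]
    linear_combination s.he + t.he
  hw := by
    show (s.w + t.w - s.a * (σ t.c + σ t.a * t.e + σ t.b * t.d) + s.b * σ (t.a * t.d - t.b) -
        s.c * σ t.a) +
      σ (s.w + t.w - s.a * (σ t.c + σ t.a * t.e + σ t.b * t.d) + s.b * σ (t.a * t.d - t.b) -
        s.c * σ t.a) +
      ((s.a + t.a) * σ (s.c + t.c + s.a * t.e - s.b * σ t.d) +
        (s.b + t.b + s.a * t.d) * σ (s.b + t.b + s.a * t.d) +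
        (s.c + t.c + s.a * t.e - s.b * σ t.d) * σ (s.a + t.a)) = 0
    simp only [map_add, map_sub, map_mul, σσ]
    linear_combination s.hw + t.hw + s.a * σ s.a * t.he

def inv (s : U) : U where
  a := s.a
  b := add (E.mul s.a s.d) s.b
  c := add (add s.c (E.mul s.a (cj s.e))) (E.mul s.b (cj s.d))
  d := s.d
  e := cj s.e
  w := cj s.w
  he := by
    show σ s.e + σ (σ s.e) + -s.d * σ (-s.d) = 0
    simp only [map_neg, σσ]
    linear_combination s.he
  hw := by
    show σ s.w + σ (σ s.w) + (-s.a * σ (-(s.c + s.a * σ s.e + s.b * σ s.d)) +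
      (s.a * s.d - s.b) * σ (s.a * s.d - s.b) + -(s.c + s.a * σ s.e + s.b * σ s.d) * σ (-s.a)) = 0
    simp only [map_neg, map_add, map_sub, map_mul, σσ]
    linear_combination s.hw + s.a * σ s.a * s.he

def one : U := ⟨o, o, o, o, o, o, by decide, by decide⟩

theorem mul_a (s t : U) : (mul s t).a = s.a + t.a := rfl
theorem mul_b (s t : U) : (mul s t).b = s.b + t.b + s.a * t.d := rfl
theorem mul_c (s t : U) : (mul s t).c = s.c + t.c + s.a * t.e - s.b * σ t.d := rfl
theorem mul_d (s t : U) : (mul s t).d = s.d + t.d := rfl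
theorem mul_e (s t : U) : (mul s t).e = s.e + t.e - s.d * σ t.d := rfl
theorem mul_w (s t : U) : (mul s t).w = s.w + t.w - s.a * (σ t.c + σ t.a * t.e + σ t.b * t.d) +
    s.b * σ (t.a * t.d - t.b) - s.c * σ t.a := rfl

def beq (s t : U) : Bool :=
  E.beq s.a t.a && E.beq s.d t.d && E.beq s.b t.b && E.beq s.e t.e && E.beq s.c t.c && E.beq s.w t.w

theorem beq_iff (s t : U) : beq s t = true ↔ s = t := by
  simp only [beq, Bool.and_eq_true, E.beq_iff, U.ext_iff]
  tauto

instance decEqU : DecidableEq U := fun a b => decidable_of_iff _ (beq_iff a b)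

theorem el_e : ∀ (d : E) (x : Bool), add (bit x) (E.mul E.w (d * σ d)) +
    σ (add (bit x) (E.mul E.w (d * σ d))) + d * σ d = 0 := by decide

theorem el_w : ∀ (a b c : E) (x : Bool), add (bit x) (E.mul E.w (a * σ c + b * σ b + c * σ a)) +
    σ (add (bit x) (E.mul E.w (a * σ c + b * σ b + c * σ a))) + (a * σ c + b * σ b + c * σ a) = 0 := by
  decide

/-- the element with the given free entries -/
def el (a b c d : E) (x y : Bool) : U where
  a := a
  b := b
  c := c
  d := d
  e := add (bit x) (E.mul E.w (E.mul d (cj d)))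
  w := add (bit y) (E.mul E.w (add (add (E.mul a (cj c)) (E.mul b (cj b))) (E.mul c (cj a))))
  he := el_e d x
  hw := el_w a b c y

theorem exists_el (s : U) : ∃ x y, s = el s.a s.b s.c s.d x y := by
  obtain ⟨x, hx⟩ := tr_eq _ _ s.he
  obtain ⟨y, hy⟩ := tr_eq _ _ s.hw
  exact ⟨x, y, U.ext rfl rfl rfl rfl hx hy⟩

theorem forall_iff {p : U → Prop} : (∀ s, p s) ↔ ∀ a d b c x y, p (el a b c d x y) :=
  ⟨fun h _ _ _ _ _ _ => h _, fun h s => by
    obtain ⟨x, y, e⟩ := exists_el s
    rw [e]; exact h ..⟩

instance (priority := low) decAllU (p : U → Prop) [DecidablePred p] : Decidable (∀ s, p s) :=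
  decidable_of_iff _ forall_iff.symm

instance groupU : Group U where
  mul := mul
  one := one
  inv := inv
  mul_assoc s t u := by
    show mul (mul s t) u = mul s (mul t u)
    ext
    · simp only [mul_a]; ring
    · simp only [mul_a, mul_b, mul_d]; ring
    · simp only [mul_a, mul_b, mul_c, mul_d, mul_e, map_add]; ring
    · simp only [mul_d]; ring
    · simp only [mul_d, mul_e, map_add]; ring
    · simp only [mul_a, mul_b, mul_c, mul_d, mul_e, mul_w, map_add, map_sub, map_mul, σσ]
      linear_combination (s.a * σ t.a) * u.he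
  one_mul := by
    show ∀ s, mul one s = s
    decide +kernel
  mul_one := by
    show ∀ s, mul s one = s
    decide +kernel
  inv_mul_cancel := by
    show ∀ s, mul (inv s) s = one
    decide +kernel

theorem add_bit_inj : ∀ (x y : Bool) (n : E), add (bit x) n = add (bit y) n → x = y := by decide

/-- the free entries as coordinates -/
noncomputable def eqv : E × E × E × E × Bool × Bool ≃ U :=
  Equiv.ofBijective (fun p => el p.1 p.2.2.1 p.2.2.2.1 p.2.1 p.2.2.2.2.1 p.2.2.2.2.2) ⟨by
    rintro ⟨a, d, b, c, x, y⟩ ⟨a', d', b', c', x', y'⟩ h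
    obtain rfl : a = a' := congrArg U.a h
    obtain rfl : b = b' := congrArg U.b h
    obtain rfl : c = c' := congrArg U.c h
    obtain rfl : d = d' := congrArg U.d h
    obtain rfl := add_bit_inj _ _ _ (congrArg U.e h)
    obtain rfl := add_bit_inj _ _ _ (congrArg U.w h)
    rfl, fun s => by
    obtain ⟨x, y, e⟩ := exists_el s
    exact ⟨(s.a, s.d, s.b, s.c, x, y), e.symm⟩⟩

instance finiteU : Finite U := Finite.of_equiv _ eqv

theorem card : Nat.card U = 2 ^ 10 := by
  rw [← Nat.card_congr eqv]
  simp [E.card]

def sE (f : E → ℕ) : ℕ := f o + f i + f E.w + f v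

def sB (f : Bool → ℕ) : ℕ := f true + f false

/-- the number of elements with a property -/
def cnt (p : U → Bool) : ℕ :=
  sE fun a => sE fun d => sE fun b => sE fun c => sB fun x => sB fun y =>
    Bool.casesOn (motive := fun _ => ℕ) (p (el a b c d x y)) 0 1

theorem card_eq_cnt (A : Subgroup U) (p : U → Bool) (h : ∀ s, s ∈ A ↔ p s = true) :
    Nat.card A = cnt p := by
  classical
  have e : {q : E × E × E × E × Bool × Bool // p (eqv q) = true} ≃ A :=
    eqv.subtypeEquiv fun q => (h _).symm
  rw [← Nat.card_congr e, Nat.card_eq_fintype_card, Fintype.card_subtype, Finset.card_filter]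
  simp only [Fintype.sum_prod_type, E.sum_eq, Fintype.sum_bool]
  have k : ∀ b : Bool, (if b = true then 1 else 0 : ℕ) = Bool.casesOn (motive := fun _ => ℕ) b 0 1 :=
    by decide
  simp only [k]
  rfl

end U

end H78.U5
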