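import Cfsg.Agent.H78.U6Spec
import Cfsg.Agent.H78.U6FW
import Cfsg.Agent.H78.U6FX
import Cfsg.Agent.H59.SU

/-! STD-UM (row S3128): `JobFB`, inclusions and orders in `X = SU_(n+1)(q)`. -/

set_option autoImplicit false
set_option linter.unusedSectionVars false

namespace H78.U6.H55.UMFB
open _root_.H55

open H64.SG (Syl Cz Cs Ns Is2 fx mem_fx mem_Cs)
open Matrix H57 Subgroup H67 H67.UA
open H67.SA (SLn Au la cm)

/-- Fixed points and inverted points of an involutory automorphism. -/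
theorem card_le_fx {G : Type*} [Group G] [Finite G] (U : Subgroup G) (τ : MulAut G)
    (hU : ∀ u ∈ U, τ u ∈ U) (hτ : ∀ g, τ (τ g) = g) :
    Nat.card U ≤ Nat.card (U.subgroupOf (fx τ)) * Nat.card {h // h ∈ U ∧ τ h⁻¹ = h} := by
  have e : Nat.card (U.subgroupOf (fx τ)) = Nat.card ((fx τ).subgroupOf U) := by
    rw [← inf_subgroupOf_right, Nat.card_congr (subgroupOfEquivOfLe inf_le_right).toEquiv,
      ← inf_subgroupOf_right (fx τ), Nat.card_congr (subgroupOfEquivOfLe inf_le_right).toEquiv, inf_comm]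
  rw [e, ← card_mul_index ((fx τ).subgroupOf U)]
  refine Nat.mul_le_mul_left _ (Nat.card_le_card_of_injective
    (fun c => ⟨c.out.1 * τ c.out.1⁻¹, mul_mem c.out.2 (hU _ (inv_mem c.out.2)), by
      rw [_root_.mul_inv_rev, map_mul, ← map_inv τ, hτ, inv_inv]⟩) fun c c' h => ?_)
  have h1 : c.out.1 * τ c.out.1⁻¹ = c'.out.1 * τ c'.out.1⁻¹ := congrArg Subtype.val h
  rw [← c.out_eq', ← c'.out_eq', QuotientGroup.eq, mem_subgroupOf, mem_fx, coe_mul, coe_inv, map_mul,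
    eq_inv_mul_iff_mul_eq, ← mul_assoc, h1, mul_assoc, ← map_mul, inv_mul_cancel, map_one, mul_one]

variable {n : ℕ} {K : Type} [Field K] [StarRing K] [CharP K 2] [Finite K]

theorem tau_UU (u : SLn n K) (h : u ∈ SA.UU n K) : tau n K u ∈ SA.UU n K := by
  obtain ⟨h1, h2⟩ := SA.mem_UU.1 (inv_mem h)
  rw [← inv_inv u, SA.mem_UU]
  exact ⟨fun i => by rw [tau_inv_apply, h1, star_one],
    fun i j r => by rw [tau_inv_apply, h2 _ _ (Fin.rev_lt_rev.2 r), star_zero]⟩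

/-- The hermitian unitriangular matrices. -/
theorem card_herm [FQ K] :
    Nat.card {h // h ∈ SA.UU n K ∧ tau n K h⁻¹ = h} ≤ qK K ^ SA.NN n := by
  obtain ⟨η, hη⟩ := FQ.eta (K := K)
  rw [← Nat.pow_le_pow_iff_left two_ne_zero, ← pow_mul, mul_comm, pow_mul, ← FQ.card, ← SA.card_UU, sq,
    ← Nat.card_prod]
  have t : ∀ h : {h // h ∈ SA.UU n K ∧ tau n K h⁻¹ = h}, ∀ i j, star (h.1.1 j.rev i.rev) = h.1.1 i j :=
    fun h i j => by rw [← tau_inv_apply, h.2.2]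
  have k : ∀ a b : SLn n K, a ∈ SA.UU n K → b ∈ SA.UU n K →
      ∃ g : SA.UU n K, g.1.1 = a.1 + η • (b.1 - 1) := fun a b ha hb => by
    obtain ⟨a1, a2⟩ := SA.mem_UU.1 ha
    obtain ⟨b1, b2⟩ := SA.mem_UU.1 hb
    have d1 : ∀ i, (a.1 + η • (b.1 - 1)) i i = 1 := fun i => by simp [a1, b1]
    have d2 : ∀ i j, j < i → (a.1 + η • (b.1 - 1)) i j = 0 := fun i j r => by
      simp [a2 i j r, b2 i j r, r.ne']
    exact ⟨⟨⟨_, by rw [det_of_isUpperTriangular fun i j r => d2 i j r]; simp only [d1, Finset.prod_const_one]⟩,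
      SA.mem_UU.2 ⟨d1, d2⟩⟩, rfl⟩
  choose f hf using k
  refine Nat.card_le_card_of_injective (fun p => f p.1.1 p.2.1 p.1.2.1 p.2.2.1) fun p p' e => ?_
  have e1 : p.1.1.1 + η • (p.2.1.1 - 1) = p'.1.1.1 + η • (p'.2.1.1 - 1) := by
    rw [← hf _ _ p.1.2.1 p.2.2.1, ← hf _ _ p'.1.2.1 p'.2.2.1]; exact congrArg (·.1.1) e
  have e2 : ∀ i j, p.1.1.1 i j + η * p.2.1.1 i j = p'.1.1.1 i j + η * p'.2.1.1 i j := fun i j => by
    have := congrFun (congrFun e1 i) j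
    simp only [Matrix.add_apply, Matrix.smul_apply, Matrix.sub_apply, smul_eq_mul] at this
    linear_combination this
  have e3 : ∀ i j, p.2.1.1 i j = p'.2.1.1 i j := fun i j => by
    have := congrArg star (e2 j.rev i.rev)
    simp only [star_add, star_mul', t] at this
    linear_combination this + e2 i j - (p.2.1.1 i j - p'.2.1.1 i j) * hη -
      (p.1.1.1 i j - p'.1.1.1 i j) * two0 K
  exact Prod.ext (Subtype.ext (Subtype.ext (Matrix.ext fun i j => by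
    linear_combination e2 i j - η * e3 i j))) (Subtype.ext (Subtype.ext (Matrix.ext e3)))

theorem le_cardU [FQ K] : qK K ^ SA.NN n ≤ Nat.card (GA.UU (XU n K)) := by
  have h := (card_le_fx _ _ tau_UU tau_tau).trans (Nat.mul_le_mul_left _ (card_herm (n := n) (K := K)))
  obtain ⟨f, -, hf⟩ := FQ.pow2 (K := K)
  rw [SA.card_UU, FQ.card, ← pow_mul, mul_comm 2, pow_mul, sq] at h
  exact Nat.le_of_mul_le_mul_right h (by rw [hf]; positivity)

theorem isP : IsPGroup 2 (GA.UU (XU n K)) := SA.isP_UU.comap_of_injective _ Subtype.val_injective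

theorem card_X [FQ K] [FX n K] : ∃ m, Odd m ∧ Nat.card (XU n K) ∣ qK K ^ SA.NN n * m := by
  cases nonempty_fintype K
  obtain ⟨e⟩ := FX.iso (n := n) (K := K)
  obtain ⟨f, f1, hf⟩ := FQ.pow2 (K := K)
  have h := H59.card_SU (Nat.card_eq_fintype_card.symm.trans (FQ.card (K := K))) (n := n + 1) (by omega)
  have ev : ∀ i, Even (qK K ^ (i + 1)) := fun i => by
    rw [hf, ← pow_mul]; exact (Nat.even_pow.2 ⟨even_two, by positivity⟩)
  refine ⟨_, ?_, Nat.card_congr e.toEquiv ▸ Dvd.intro_left _ h⟩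
  refine Finset.prod_induction _ _ (fun _ _ => Odd.mul) odd_one fun i _ => ?_
  split_ifs
  · exact (ev i).add_one
  · exact Nat.Even.sub_odd (Nat.one_le_pow _ _ (by rw [hf]; positivity)) (ev i) odd_one

theorem cardU_syl [FQ K] [FX n K] :
    Nat.card (GA.UU (XU n K)) = qK K ^ SA.NN n ∧ Syl (GA.UU (XU n K)) ⊤ := by
  have := Fact.mk Nat.prime_two
  obtain ⟨m, m1, m2⟩ := card_X (n := n) (K := K)
  obtain ⟨f, -, hf⟩ := FQ.pow2 (K := K)
  obtain ⟨a, ha⟩ := IsPGroup.iff_card.1 (isP (n := n) (K := K))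
  have h1 : Nat.card (GA.UU (XU n K)) ∣ qK K ^ SA.NN n :=
    Nat.Coprime.dvd_of_dvd_mul_right (ha ▸ (Nat.coprime_two_left.2 m1).pow_left a)
      ((card_subgroup_dvd_card _).trans m2)
  have h2 := le_antisymm (Nat.le_of_dvd (by rw [hf]; positivity) h1) le_cardU
  refine ⟨h2, le_top, isP, ?_⟩
  rw [← card_mul_index (GA.UU (XU n K)), h2] at m2
  rw [relIndex_top_right]
  exact m1.of_dvd_nat (Nat.dvd_of_mul_dvd_mul_left (by rw [hf]; positivity) m2)

section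
variable [FV n K] {k : ℕ} (hk : 2 * k ≤ n + 1) {a b : XU n K} (ha : a ∈ GA.Qk (XU n K) k)
include hk ha

theorem wk_Q (v : Vn n K) : Wk (n + 1 - k) (ac a v + v) := (FV.wk_perp k (by omega) _).2 fun w hw => by
  rw [hf_add_left, hf_ac_left, Qk_fix hk (inv_mem ha) hw, CharTwo.add_self_eq_zero]

theorem wk_QQ (hb : b ∈ GA.Qk (XU n K) k) (v : Vn n K) :
    Wk k (ac a (ac b v) + ac a v + (ac b v + v)) := by
  rw [← ac_add]; exact ((FV.mem_Qk k hk a).1 ha).2 _ (wk_Q hk hb v)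

end

theorem jobFB : JobFB := fun n K _ _ _ _ hp _ _ => by
  have := H59.UM.jobFW n K ‹_› ‹_›
  have := H81.UAX.jobFX n K ‹_› ‹_› ‹_›
  have h5 := hp.five
  obtain ⟨f, f1, hf⟩ := FQ.pow2 (K := K)
  have e0 : (ev 0 : Vn n K) ≠ 0 := ev_ne 0
  have ZM : ∀ k, GA.Rg (XU n K) k → GA.ZZ (XU n K) ≤ GA.Mk (XU n K) k := fun k hk g hg =>
    SA.Mk_mono hk.1 hg
  refine ⟨cardU_syl.2, by rw [ll_eq]; omega, ?_, SA.three_le_NN (by omega),
    SA.Par.lt_bg (F := selfAdjoint K) ⟨by omega, by omega⟩, cardU_syl.1, ?_, ?_, fun g hg => ?_,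
    fun g hg => mem_Cs.2 fun z hz => ?_, eq_bot_iff.2 fun g hg => ?_, fun h => ?_,
    fun k hk g hg => SA.Ml_le_Qk k (SA.Mk_le_Ml le_rfl (by have := (rg_iff.1 hk).2; omega) hg),
    fun k _ g hg => SA.Qk_le_UU k hg,
    fun k hk g hg => mem_Cs.2 fun z hz => Subtype.ext (SA.Qk_le_Cs (rg_iff.1 hk).2 hg z.1 hz), ZM,
    fun k hk => mem_Mk.2 (FV.xk_val (K := K) k (rg_iff.1 hk).2 ▸ SA.xk_mem_Mk (rg_iff.1 hk).2),
    fun k hk e => SA.xk_ne_one (F := K) hk.1 (rg_iff.1 hk).2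
      ((FV.xk_val k (rg_iff.1 hk).2).symm.trans (congrArg Subtype.val e)),
    fun k hk g hg => Subtype.ext (SA.sq_Mk (rg_iff.1 hk).2 hg), fun k hk g hg => ?_,
    fun k hk a ha b hb => ?_⟩
  · rw [qq_eq, hf]; exact Nat.le_self_pow (by omega) 2
  · refine (Nat.card_congr (Equiv.ofBijective (fun c : selfAdjoint K =>
      (⟨Tc c.1 (ev 0), (FV.mem_Z _).2 ⟨c.1, c.2, rfl⟩⟩ : GA.ZZ (XU n K))) ⟨fun c d e => ?_, fun g => ?_⟩)).symm
    · have e1 : Tc c.1 (ev 0 : Vn n K) = Tc d.1 (ev 0) := congrArg Subtype.val e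
      have : c.1 + d.1 = 0 := Tc_eq_one e0 iso0 (c + d).2 (by
        rw [Tc_add iso0 c.2 d.2, e1, Tc_mul_self iso0 d.2])
      exact Subtype.ext (by linear_combination this - d.1 * two0 K)
    · obtain ⟨c, hc, e⟩ := (FV.mem_Z _).1 g.2
      exact ⟨⟨c, hc⟩, Subtype.ext e.symm⟩
  · have l2 : 2 * GA.ll (XU n K) ≤ n + 1 := by rw [ll_eq]; omega
    have l3 : 2 ≤ GA.ll (XU n K) := by rw [ll_eq]; omega
    cases nonempty_fintype (GA.Mk (XU n K) (GA.ll (XU n K)))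
    rw [Nat.card_eq_fintype_card, Fintype.two_lt_card_iff]
    refine ⟨1, ⟨_, Tc_mem l2 (w0 (by omega)) (star_one K)⟩, ⟨_, Tc_mem l2 (w1 l3) (star_one K)⟩,
      fun e => one_ne_zero (Tc_eq_one e0 iso0 (star_one K) (congrArg Subtype.val e).symm),
      fun e => one_ne_zero (Tc_eq_one (ev_ne 1) pp01.r (star_one K) (congrArg Subtype.val e).symm),
      fun e => ?_⟩
    have e1 := congrArg (fun g => ac g.1 (ev (0 : Fin (n + 1)).rev) 0) e
    simp [ac_Tc iso0 (star_one K), ac_Tc pp01.r (star_one K), hf_ev, ev_apply, show n ≠ 0 by omega] at e1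
  · have := (FV.mem_U g).1 hg 0 (ev 0) (w0 le_rfl)
    refine funext fun i => ?_
    have r : ac g (ev 0) i + ev 0 i = 0 := this i (Nat.zero_le _)
    linear_combination r - ev 0 i * two0 K
  · obtain ⟨c, hc, rfl⟩ := (FV.mem_Z _).1 hz
    rw [mul_inv_eq_iff_eq_mul.1 (Tc_conj iso0 hc g), mem_PP.1 hg]
  · obtain ⟨a, ha⟩ := (FV.cen g).1 hg.2
    have h1 : a = 1 := by simpa [ev_apply] using congrFun ((ha _).symm.trans (mem_PP.1 hg.1)) 0
    exact ac_ext fun v => by rw [ha, h1, one_smul, ac_one]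
  · obtain ⟨c, hc, e⟩ := (FV.mem_Z _).1 (h ((FV.mem_Q _).2 ⟨_, _, pp01.ok, rfl⟩))
    obtain ⟨a, h1, -⟩ := EE_inj e0 pp01.ok (ok_zero iso0 hc) e
    exact one_ne_zero (li_ev (n := n) a 1 (by rw [one_smul, add_comm, ← h1])).2
  · refine (FV.mem_M k (rg_iff.1 hk).2 _).2 fun v => ?_
    have := wk_QQ (rg_iff.1 hk).2 hg hg v
    rwa [add_assoc, ← add_assoc (ac g v), v_add_self, zero_add, ← ac_mul] at this
  · refine (FV.mem_M k (rg_iff.1 hk).2 _).2 fun v => ?_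
    have := (wk_QQ (rg_iff.1 hk).2 ha hb (ac a⁻¹ (ac b⁻¹ v))).add
      (wk_QQ (rg_iff.1 hk).2 hb ha (ac a⁻¹ (ac b⁻¹ v)))
    rw [ac_mul, ac_mul, ac_mul]
    intro i hi
    have r := this i hi
    simp only [Pi.add_apply, ac_ac_inv] at r ⊢
    linear_combination r - (ac b⁻¹ v i + ac b (ac a⁻¹ (ac b⁻¹ v)) i + ac a⁻¹ (ac b⁻¹ v) i) * two0 K

end H78.U6.H55.UMFB
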