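import Cfsg.Agent.H78.U6Spec

/-! STD-UM: `JobFP`. -/

set_option autoImplicit false
set_option linter.unusedSectionVars false

namespace H78.U6
open H67 H67.UA

open H64.SG (O2 Syl Cz Cs Ns cjs Is2 Inv2 UF IsO2 fx mem_Cs mem_Cz is2_of_sq)
open Matrix H57 Subgroup
open H67.SA (SLn Au la St cI cm)
open scoped commutatorElement

variable {n : ℕ} {K : Type} [Field K] [StarRing K] [CharP K 2] [Finite K]

theorem qq_mul_self {u v : Vn n K} (h : Pp u v) : qq v u * qq v u = 1 := by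
  rw [← qq_add h h h.r, v_add_self, qq, EE_zero]

/-- the stabiliser of `W_k` -/
def StW (k : ℕ) : Subgroup (XU n K) where
  carrier := {g | ∀ v, Wk k v ↔ Wk k (ac g v)}
  one_mem' := fun v => by rw [ac_one]
  mul_mem' := fun {a b} ha hb v => by rw [ac_mul, ← ha, ← hb]
  inv_mem' := fun {a} ha v => by rw [ha (ac a⁻¹ v), ac_ac_inv]

theorem StW_le [FV n K] {k : ℕ} (hk : 2 * k ≤ n + 1) :
    StW k ≤ Ns (GA.Qk (XU n K) k) ⊓ Ns (GA.Mk (XU n K) k) := fun g hg => by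
  have h1 : ∀ u v, ac (g * u * g⁻¹) v + v = ac g (ac u (ac g⁻¹ v) + ac g⁻¹ v) := fun u v => by
    rw [ac_add, ac_ac_inv, ac_mul, ac_mul]
  refine ⟨GA.conj_mem_St.1 (GA.mem_St_of_finite fun u hu => ?_),
    GA.conj_mem_St.1 (GA.mem_St_of_finite fun u hu => ?_)⟩
  · rw [FV.mem_Qk k hk] at hu ⊢
    refine ⟨fun v hv => ?_, fun v hv => ?_⟩
    · rw [MulAut.conj_apply, ac_mul, ac_mul, hu.1 _ ((inv_mem hg v).1 hv), ac_ac_inv]
    · rw [MulAut.conj_apply, h1, ← hg]
      refine hu.2 _ ((FV.wk_perp k (by omega) _).2 fun w hw => ?_)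
      rw [hf_ac_left, inv_inv]
      exact (FV.wk_perp k (by omega) _).1 hv _ ((hg w).1 hw)
  · rw [FV.mem_M k hk] at hu ⊢
    exact fun v => by rw [MulAut.conj_apply, h1, ← hg]; exact hu _

theorem mem_StW {k : ℕ} {g : XU n K} (h2 : g * g = 1) (h : ∀ v, Wk k v → Wk k (ac g v)) :
    g ∈ StW k := fun v => ⟨h v, fun hv => by simpa [← ac_mul, h2] using h _ hv⟩

theorem jobFP : JobFP := by
  intro n K _ _ _ _ hp B
  have h5 := hp.five
  have i0 := l0 (n := n)
  have i1 := l1 (n := n) K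
  have i2 := l2 (n := n) K
  have I := @ir n K _ _ _
  have n1 := ne01 (n := n) (K := K)
  have n2 := ne02 (n := n) (K := K)
  have n3 := ne12 (n := n) (K := K)
  have u0 := iso0 (n := n) (K := K)
  have P : ∀ {i j : Fin (n + 1)}, i.val < 3 → j.val < 3 → i ≠ j → ∀ a : K,
      Pp (ev j.rev : Vn n K) (a • ev i) := fun hi hj h a => (pp_ev
        (by rw [Fin.rev_rev]; exact (I hj hj).symm) (I hi hi) (by rwa [Fin.rev_rev])).smul_right a
  have px := P i0 i1 n1
  have py := P i1 i0 n1.symm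
  have sx : ∀ a : K, ss 0 1 a ∈ GA.SS (XU n K) := fun a => subset_closure ⟨a, Or.inl rfl⟩
  have sy : ∀ a : K, ss 1 0 a ∈ GA.SS (XU n K) := fun a => subset_closure ⟨a, Or.inr rfl⟩
  have sw : ∀ b : K, ss 0 1 b * ss 1 0 b⁻¹ * ss 0 1 b ∈ GA.SS (XU n K) := fun b =>
    mul_mem (mul_mem (sx _) (sy _)) (sx _)
  have w : ∀ b : K, b ≠ 0 → ac (ss 0 1 b * ss 1 0 b⁻¹ * ss 0 1 b : XU n K) (ev 0) = b⁻¹ • ev 1 ∧
      ac (ss 0 1 b * ss 1 0 b⁻¹ * ss 0 1 b : XU n K) (ev 1) = b • ev 0 ∧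
      ac (ss 0 1 b * ss 1 0 b⁻¹ * ss 0 1 b : XU n K) (ev (Fin.rev 1)) =
        (star b)⁻¹ • ev (Fin.rev 0) := fun b hb => by
    have hs : star b ≠ 0 := by simpa using hb
    simp only [ac_mul, ac_qq (px _), ac_qq (py _), hf_add_left, hf_smul_left, hf_smul_right, hf_ev,
      Fin.rev_rev, Fin.rev_inj, I i0 i0, I i0 i1, I i1 i0, I i1 i1, (I i0 i0).symm, (I i0 i1).symm,
      (I i1 i0).symm, (I i1 i1).symm, n1, n1.symm, if_true, if_false, mul_zero, mul_one, zero_smul,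
      one_smul, add_zero, zero_add, smul_smul, star_inv₀, inv_mul_cancel₀ hb, mul_inv_cancel₀ hb,
      mul_inv_cancel₀ hs, zero_mul, one_mul, CharTwo.add_self_eq_zero]
    refine ⟨by rw [add_right_comm, v_add_self, zero_add], by rw [add_right_comm, v_add_self, zero_add],
      by rw [add_right_comm, v_add_self, zero_add]⟩
  have tP : ∀ v, Pp (ev 0) v → TT v ∈ GA.PP (XU n K) := fun v hv => by
    rw [mem_PP, ac_Tc hv.r (star_one K), hv.p]; simp
  have sW : GA.SS (XU n K) ≤ StW 2 := by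
    rw [SS_eq, closure_le]
    have k : ∀ {i j : Fin (n + 1)}, i.val < 2 → ∀ a : K, Pp (ev j.rev : Vn n K) (a • ev i) →
        ss i j a ∈ StW (n := n) (K := K) 2 := fun hi a p => mem_StW (qq_mul_self p) fun v hv => by
      rw [ac_qq p, hv.perp ((wk_ev hi).smul a) (by omega), zero_smul, add_zero]
      exact hv.add (((wk_ev hi).smul a).smul _)
    rintro _ ⟨a, rfl | rfl⟩
    · exact k (by simp) a (px a)
    · exact k (by rw [v1 K]; omega) a (py a)
  refine ⟨FW.genP _ fun v hv => ?_, ?_, FW.genP _ fun v hv => GA.mem_Iv (tP v hv)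
    (Tc_mul_self hv.r (star_one K)), ?_, fun g hg => ?_, fun g hg => (StW_le (by omega) (sW hg)).1,
    fun g hg => (StW_le (by omega) (sW hg)).2, FW.genT _ fun v hv => ?_⟩
  · obtain ⟨η, hη⟩ := FQ.eta (K := K)
    obtain ⟨x, y, x1, y1, x2, y2, h⟩ : ∃ x y, Pp v x ∧ Pp v y ∧ hf (ev 0) x = 0 ∧ hf (ev 0) y = 0 ∧
        tr (hf x y) = 1 := by
      have e1 : tr (hf (η • ev 2 : Vn n K) (ev (Fin.rev 2))) = 1 := by
        rw [hf_smul_left, hf_ev, if_pos rfl, mul_one, hη]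
      have e2 := (pp02 (n := n) (K := K)).smul_right η
      have e3 : Pp (ev 0 : Vn n K) (ev (Fin.rev 2)) := by simpa using (P i0 i2 n2 1).symm
      by_cases h : Li (ev 0) v
      · obtain ⟨g, g1, rfl⟩ := FW.w2 _ _ hv h
        refine ⟨_, _, (pp12.smul_right η).ac g, (by simpa using (P i1 i2 n3 1).symm : Pp (ev 1) _).ac g,
          ?_, ?_, by rw [hf_ac, e1]⟩
        · rw [← g1, hf_ac, e2.p]
        · rw [← g1, hf_ac, e3.p]
      · obtain ⟨c, rfl⟩ := exists_smul_of_not_li (ev_ne 0) h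
        exact ⟨_, _, (e2.symm.smul_right c).symm, (e3.symm.smul_right c).symm, e2.p, e3.p, e1⟩
    rw [TT, ← h, ← EE_cm x1.ok y1.ok]
    exact commutator_mem_commutator (mem_PP.2 (ac_EE_fix x1.ok hv.p x2))
      (mem_PP.2 (ac_EE_fix y1.ok hv.p y2))
  · have k1 : ∀ a b : K, b ≠ 0 → ss 1 0 (a * b⁻¹ * b⁻¹) * (ss 0 1 a)⁻¹ ∈
        ⁅GA.SS (XU n K), GA.SS (XU n K)⁆ := fun a b hb => by
      have := commutator_mem_commutator (sw b) (sx a)
      rwa [commutatorElement_def, EE_conj (px a).ok, ac_smul, (w b hb).1, (w b hb).2.2, EE_smul,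
        mul_zero, star_inv₀, star_star, smul_smul, smul_smul, mul_comm b⁻¹, mul_right_comm] at this
    have k2 : ∀ a : K, ss 1 0 a ∈ ⁅GA.SS (XU n K), GA.SS (XU n K)⁆ := fun a => by
      obtain ⟨b, b1, b2⟩ := FQ.n1 (K := K)
      have hb : b ≠ 0 := by rintro rfl; simp at b1
      have h1 : (b + 1) ^ 2 ≠ 0 := pow_ne_zero _ fun e => b2 (by linear_combination e - two0 K)
      have := mul_mem (k1 (a / (b + 1) ^ 2) b⁻¹ (inv_ne_zero hb)) (inv_mem (k1 (a / (b + 1) ^ 2) 1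
        one_ne_zero))
      rw [_root_.mul_inv_rev, inv_inv, inv_inv, mul_assoc, inv_mul_cancel_left,
        inv_eq_of_mul_eq_one_right (qq_mul_self (py _)), ← qq_add (py _) (py _)
          ((pp01.r.pp.smul _ _).p), ← add_smul] at this
      convert this using 3
      rw [inv_one, mul_one, mul_one, mul_assoc, ← mul_add_one,
        show b * b + 1 = (b + 1) ^ 2 by rw [CharTwo.add_sq]; ring, div_mul_cancel₀ _ h1]
    rw [SS_eq, closure_le, ← SS_eq]
    rintro _ ⟨a, rfl | rfl⟩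
    · simpa using inv_mem (mul_mem (inv_mem (k2 a)) (k1 a 1 one_ne_zero))
    · exact k2 a
  · rw [SS_eq, closure_le, ← SS_eq]
    rintro _ ⟨a, rfl | rfl⟩
    · exact GA.mem_Iv (sx a) (qq_mul_self (px a))
    · exact GA.mem_Iv (sy a) (qq_mul_self (py a))
  · obtain ⟨x, c, o, rfl⟩ := (FV.mem_Q g).1 hg
    refine FW.span _ u0 (fun x => ∀ c, Ok (ev 0) x c → EE (ev 0) x c ∈ GA.Iv (GA.QQ (XU n K)))
      (fun x hx c o => GA.mem_Iv ((FV.mem_Q _).2 ⟨x, c, o, rfl⟩) (by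
        rw [EE_mul o o, v_add_self, CharTwo.add_self_eq_zero, hx.r, add_zero, EE_zero]))
      (fun x y hx hy Hx Hy c o => ?_) x o.perp c o
    obtain ⟨d, hd⟩ := FQ.trs (hf x x) (star_hf _ _)
    have o1 : Ok (ev 0) x d := ⟨u0, hx, hd⟩
    have o2 := o1.star.add o
    rw [← add_assoc, v_add_self, zero_add] at o2
    have := mul_mem (Hx d o1) (Hy _ o2)
    rw [EE_mul o1 o2] at this
    convert this using 2
    rw [hf_add_left, ← hd, tr]
    linear_combination -(d + star d + hf y x) * two0 K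
  · by_cases h0 : hf (ev 0) v = 0
    · exact mem_sup_left (tP v ⟨u0, hv, h0⟩)
    have hg := mem_sup_right (S := GA.PP (XU n K))
      (mul_mem (sw 1) (inv_mem (sx (hf (ev 1) v / hf (ev 0) v))))
    refine (mul_mem_cancel_left hg).1 ((mul_mem_cancel_right (inv_mem hg)).1 ?_)
    rw [Tc_conj hv (star_one K)]
    refine mem_sup_left (tP _ ⟨u0, hv.ac _, ?_⟩)
    have := (w 1 one_ne_zero).2.1
    rw [one_smul] at this
    rw [ac_mul]
    nth_rewrite 1 [← this]
    rw [hf_ac, ← hf_ac_left, ac_qq (px _)]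
    simp only [hf_add_left, hf_smul_left, hf_smul_right, hf_ev, I i0 i1, if_true, if_false, mul_zero,
      zero_mul, add_zero, one_mul, div_mul_cancel₀ _ h0, CharTwo.add_self_eq_zero]

end H78.U6
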