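import Cfsg.Agent.H67.UATA
import Cfsg.Agent.H67.UAFQ

/-! Row S3133: the fact slots on `SU_(n+1)(q)` without the restriction `q ≥ 4` for `n = 5` and
without the statement on the multiplier.  The files `H78/U6*` are copies of the STD-UM and STD-SP
files with the classes `Par`, `GA.FO`, `Base` of this file. -/

set_option autoImplicit false
set_option linter.unusedSectionVars false

namespace H78.U6.GA

open H64.SG (O2 Syl Cz Cs Ns cjs Is2 Inv2 UF IsO2 fx mem_Cs mem_Cz mem_fx)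
open H57 Subgroup
open H67.GA

/-- `X` is quasisimple; the automorphisms. -/
class FO (X : Type) [Group X] [Dat X] : Prop where
  perf : commutator X = ⊤
  oddZ : Odd (Nat.card (center X))
  nrm : ∀ N : Subgroup X, N.Normal → N ≤ center X ∨ N = ⊤
  qs : Function.Surjective (quotCenterAut X)
  out_conj : ∀ g : X, out X (MulAut.conj g) = 1
  out_comm : ∀ a b : Dat.A X, a * b = b * a
  inn : ∀ β : MulAut X, out X β = 1 → Is2 β → ∃ s, β = MulAut.conj s

variable {X : Type} [Group X] [Dat X]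

section O

variable [FO X]

theorem perfect : commutator X = ⊤ := FO.perf

theorem hom_eq_one {G : Type*} [Group G] (f : X →* G) (hf : ∀ a b, f a * f b = f b * f a) (s : X) :
    f s = 1 := hom_eq_one' perfect f hf s

theorem hom_eq_of_central {G : Type*} [Group G] (f g : X →* G)
    (hc : ∀ a b, Commute (f a * (g a)⁻¹) (g b)) (hc' : ∀ a b, Commute (f a * (g a)⁻¹) (f b)) :
    f = g := hom_eq_of_central' perfect f g hc hc'

theorem mem_center_of_cm {g : X} (hg : ∀ a, cm g a ∈ center X) : g ∈ center X :=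
  mem_center_of_cm' perfect hg

theorem normal_le_center_or (N : Subgroup X) [h : N.Normal] : N ≤ center X ∨ N = ⊤ := FO.nrm N h

theorem quot_surjective : Function.Surjective (quotCenterAut X) := FO.qs

theorem odd_card_center : Odd (Nat.card (center X)) := FO.oddZ

theorem out_conj (g : X) : out X (MulAut.conj g) = 1 := FO.out_conj g

theorem out_comm (a b : Dat.A X) : a * b = b * a := FO.out_comm a b

theorem out_cm (α β : MulAut X) : out X (cm α β) = 1 := by
  rw [cm, map_mul, map_mul, map_mul, out_comm (out X α), map_inv, map_inv]; group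

theorem out_conj_eq (α β : MulAut X) : out X (α * β * α⁻¹) = out X β := by
  rw [map_mul, map_mul, out_comm (out X α), map_inv]; group

variable [Finite X]

theorem odd_of_center {g : X} (h : g ∈ center X) : Odd (orderOf g) :=
  H64.SG.odd_orderOf_of_mem odd_card_center h

theorem eq_one_of_center {g : X} (h : g ∈ center X) (h2 : Is2 g) : g = 1 :=
  h2.eq_one (odd_of_center h)

/-- `2`-elements that differ by a central element are equal. -/
theorem eq_of_is2 {a b : X} (ha : Is2 a) (hb : Is2 b) (h : a * b⁻¹ ∈ center X) : a = b := by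
  have hc : a * b⁻¹ = b⁻¹ * a := by
    have := mem_center_iff.1 h b
    rw [inv_mul_cancel_right, ← mul_assoc, mul_inv_eq_iff_eq_mul] at this
    rw [mul_inv_eq_iff_eq_mul, mul_assoc, ← this, inv_mul_cancel_left]
  exact mul_inv_eq_one.1 (eq_one_of_center h (ha.mul hb.inv hc))

theorem conj_inj {a b : X} (ha : Is2 a) (hb : Is2 b) (h : MulAut.conj a = MulAut.conj b) :
    a = b := eq_of_is2 ha hb (conj_eq_one.1 (by rw [map_mul, map_inv, h, mul_inv_cancel]))

/-- A `2`-element with trivial outer part is inner. -/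
theorem inner_of_out {β : MulAut X} (h1 : out X β = 1) (h2 : Is2 β) :
    ∃ s, Is2 s ∧ β = MulAut.conj s := by
  obtain ⟨s, rfl⟩ := FO.inn β h1 h2
  obtain ⟨a, b, e, ha, hb⟩ := H64.SG.exists_two_odd s
  have h3 : MulAut.conj (s ^ b) = 1 := by
    refine H64.SG.Is2.eq_one ?_ (hb.of_dvd_nat (orderOf_map_dvd _ _))
    rw [map_pow]; exact h2.pow b
  exact ⟨_, ha, by conv_lhs => rw [e, map_mul, h3, mul_one]⟩

end O

section A

variable [Finite X] [FO X] [FB X] [FA X]

theorem UU_le_Ns_Mk {k : ℕ} (h : Rg X k) : UU X ≤ Ns (Mk X k) := fun _ hu =>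
  conj_mem_St.1 (FA.nu _ (conj_mem_St.2 (le_normalizer hu)) k h).1
theorem UU_le_Ns_Qk {k : ℕ} (h : Rg X k) : UU X ≤ Ns (Qk X k) := fun _ hu =>
  conj_mem_St.1 (FA.nu _ (conj_mem_St.2 (le_normalizer hu)) k h).2

/-- `C(Qk k) = Mk k Z(X)`. -/
theorem exists_of_Cs_Qk {k : ℕ} (h : Rg X k) {g : X} (hg : g ∈ Cs (Qk X k)) :
    ∃ m ∈ Mk X k, g * m⁻¹ ∈ center X := by
  obtain ⟨m, hm, e⟩ := mem_cI.1 (FA.ctK k h (MulAut.conj g) fun u hu => by
    rw [MulAut.conj_apply, ← hg u hu, mul_inv_cancel_right])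
  exact ⟨m, hm, conj_eq_one.1 (by rw [map_mul, map_inv, e, mul_inv_cancel])⟩

/-- A `2`-element centralising `Qk k` lies in `Mk k`. -/
theorem mem_Mk_of_Cs {k : ℕ} (h : Rg X k) {g : X} (hg : g ∈ Cs (Qk X k)) (h2 : Is2 g) :
    g ∈ Mk X k := by
  obtain ⟨m, hm, e⟩ := exists_of_Cs_Qk h hg
  rwa [eq_of_is2 h2 (is2_of_UU (Mk_le_UU h hm)) e]

theorem ctQ (β : MulAut X) (h : ∀ u ∈ QQ X, β u = u) : β ∈ cI (ZZ X) := FA.ctK 1 rg1 β h

/-- `Z(U) = Z`. -/
theorem mem_ZZ_of_Cs {g : X} (hg : g ∈ Cs (UU X)) (h2 : Is2 g) : g ∈ ZZ X :=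
  mem_Mk_of_Cs rg1 (centralizer_le QQ_le_UU hg) h2

theorem st_ZZ {β : MulAut X} (h : β ∈ St (UU X)) : β ∈ St (ZZ X) := (FA.nu β h 1 rg1).1
theorem st_QQ {β : MulAut X} (h : β ∈ St (UU X)) : β ∈ St (QQ X) := (FA.nu β h 1 rg1).2

/-- A nontrivial subgroup of `U` normalised by `U` meets `Z`. -/
theorem exists_ZZ_of_Ns {N : Subgroup X} (h1 : N ≤ UU X) (h2 : UU X ≤ Ns N) (h3 : N ≠ ⊥) :
    ∃ z ∈ ZZ X, z ∈ N ∧ z ≠ 1 := by
  obtain ⟨z, hz, z1⟩ := (bot_or_exists_ne_one _).resolve_left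
    (H98.inf_centralizer_ne_bot (isP_UU.to_le h1) isP_UU h2 h3)
  exact ⟨z, mem_ZZ_of_Cs hz.2 (is2_of_UU (h1 hz.1)), hz.1, z1⟩

theorem ct [FI X] (g : X) (Q : Subgroup X) (hg : Inv2 g) (hQ : IsO2 Q (Cz g)) :
    ∀ y ∈ Cs Q, Is2 y → y ∈ Q ∧ y * y = 1 := fun y hy h2 => by
  obtain ⟨h, k, hk, e⟩ := FI.ic g hg
  have h1 : cjs h Q = Qk X k := by
    rw [hQ.eq, (FI.qk k hk).eq, ← e, ← H64.SG.cj_Cz]
    exact H98.cj_pCoreOf _ _
  have h3 := mem_Mk_of_Cs hk (g := h * y * h⁻¹)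
    (by rw [← h1, ← H64.SG.cj_Cs]; exact conj_mem_cjs.2 hy) (h2.map (MulAut.conj h).toMonoidHom)
  refine ⟨conj_mem_cjs.1 (h1 ▸ Mk_le_Qk hk h3), ?_⟩
  have := FB.sqM k hk _ h3
  rwa [conj_mul, conj_eq_one_iff] at this

theorem nzn : ∀ β ∈ St (UU X), β ∉ cI (ZZ X) → ∀ N : Subgroup X, UU X ≤ Ns N →
    (∀ u ∈ UU X, β u * u⁻¹ ∈ N) → ZZ X ≤ N := fun β hβ h1 N h2 h3 z hz => by
  by_cases c : ∀ u ∈ QQ X, β u * u⁻¹ ∈ ZZ X
  · obtain ⟨v, hv, rfl⟩ := mem_cI.1 (FA.n2 β c fun z hz => by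
      obtain ⟨v, hv, v1⟩ := SetLike.not_le_iff_exists.1 (FB.QZ (X := X))
      obtain ⟨u, hu, rfl⟩ := FA.qz v hv v1 z hz
      have k : ∀ a ∈ QQ X, ∀ b ∈ UU X, β a * b * (β a)⁻¹ = a * b * a⁻¹ := fun a ha b hb => by
        have := UU_le_Cs (mul_mem (mul_mem (QQ_le_UU ha) hb) (inv_mem (QQ_le_UU ha))) _ (c a ha)
        calc β a * b * (β a)⁻¹ = β a * a⁻¹ * (a * b * a⁻¹) * (β a * a⁻¹)⁻¹ := by group
          _ = _ := by rw [this]; group
      have m := ((st_QQ hβ) u).1 hu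
      simp only [map_mul, map_inv]
      rw [k v hv _ (QQ_le_UU m)]
      calc v * β u * v⁻¹ * (β u)⁻¹ = v * (β u * v⁻¹ * (β u)⁻¹) := by group
        _ = _ := by rw [k u hu _ (inv_mem (QQ_le_UU hv)), cm]; group)
    obtain ⟨u, hu, rfl⟩ := FA.qz v hv (fun h => h1 (mem_cI.2 ⟨v, h, rfl⟩)) z hz
    exact h3 u (QQ_le_UU hu)
  · push Not at c
    obtain ⟨u, hu, c⟩ := c
    obtain ⟨w, hw, rfl⟩ := FA.qz _ (mul_mem (((st_QQ hβ) u).1 hu) (inv_mem hu)) c z hz
    rw [cm, mul_assoc, mul_assoc, ← mul_assoc w]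
    exact mul_mem (h3 u (QQ_le_UU hu))
      (H98.conj_mem_of_mem_normalizer (h2 (QQ_le_UU hw)) (inv_mem (h3 u (QQ_le_UU hu))))

end A

end H78.U6.GA

namespace H78.U6

open H64.SG (O2 Syl Cz Cs Ns cjs Is2 Inv2 UF IsO2 fx mem_Cs mem_Cz is2_of_sq)
open Matrix H57 Subgroup H67 H67.UA
open H67.SA (SLn Au la St cI cm)

/-- The range of the parameters: `n + 1 ≥ 6`. -/
class Par (n : ℕ) (K : Type) [Field K] [StarRing K] : Prop extends Hf K where
  five : 5 ≤ n

/-- The facts that every later slot may use. -/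
class Base (n : ℕ) (K : Type) [Field K] [StarRing K] [CharP K 2] [Finite K] : Prop extends
  FQ K, FV n K, FW n K, FX n K, GA.FO (XU n K), GA.FB (XU n K)

/-- A statement for all parameters. -/
def All (P : ∀ (_ : ℕ) (K : Type) [Field K] [StarRing K] [CharP K 2] [Finite K], Prop) : Prop :=
  ∀ (n : ℕ) (K : Type) [Field K] [StarRing K] [CharP K 2] [Finite K] [Par n K], P n K

/-- A statement that may use `Base`. -/
def AllB (P : ∀ (_ : ℕ) (K : Type) [Field K] [StarRing K] [CharP K 2] [Finite K], Prop) : Prop :=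
  All fun n K _ _ _ _ => Base n K → P n K

def JobFQ : Prop := All fun _ K _ _ _ _ => FQ K
def JobFV : Prop := All fun n K _ _ _ _ => FQ K → FV n K
def JobFW : Prop := All fun n K _ _ _ _ => FQ K → FV n K → FW n K
def JobFX : Prop := All fun n K _ _ _ _ => FQ K → FV n K → FW n K → FX n K
def JobFO : Prop := All fun n K _ _ _ _ => FQ K → FV n K → FW n K → FX n K → GA.FO (XU n K)
def JobFB : Prop := All fun n K _ _ _ _ => FQ K → FV n K → GA.FB (XU n K)
def JobFY : Prop := AllB fun n K _ _ _ _ => FY n K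
def JobFA : Prop := AllB fun n K _ _ _ _ => FY n K → GA.FA (XU n K)
def JobFP : Prop := AllB fun n K _ _ _ _ => GA.FP (XU n K)
def JobIC : Prop := AllB fun n K _ _ _ _ => IC n K
def JobQK : Prop := AllB fun n K _ _ _ _ => QK n K

section Idx

variable {n : ℕ} {K : Type} [Field K] [StarRing K] [CharP K 2] [Finite K]

variable (K) [hp : Par n K]
include hp

theorem v1 : (1 : Fin (n + 1)).val = 1 := by
  have := hp.five
  rw [Fin.val_one', Nat.mod_eq_of_lt (by omega)]
theorem v2 : (2 : Fin (n + 1)).val = 2 := by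
  have := hp.five
  exact Nat.mod_eq_of_lt (show 2 < n + 1 by omega)
theorem six : 2 * 3 ≤ n + 1 := by have := hp.five; omega
theorem rgk {k : ℕ} (h1 : 1 ≤ k) (h3 : k ≤ 3) : GA.Rg (XU n K) k :=
  rg_iff.2 ⟨h1, by have := hp.five; omega⟩
variable {K}
theorem w0 {k : ℕ} (h : 1 ≤ k) : Wk k (ev 0 : Vn n K) := wk_ev h
theorem w1 {k : ℕ} (h : 2 ≤ k) : Wk k (ev 1 : Vn n K) := wk_ev (by rw [v1 K]; omega)
theorem w2 {k : ℕ} (h : 3 ≤ k) : Wk k (ev 2 : Vn n K) := wk_ev (by rw [v2 K]; omega)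
theorem iso0 : Iso (ev 0 : Vn n K) := ((w0 le_rfl).pp (w0 le_rfl) (by have := hp.five; omega)).l
theorem pp01 : Pp (ev 0 : Vn n K) (ev 1) := (w0 (by omega)).pp (w1 (by omega)) (six K)
theorem pp02 : Pp (ev 0 : Vn n K) (ev 2) := (w0 (by omega)).pp (w2 le_rfl) (six K)
theorem pp12 : Pp (ev 1 : Vn n K) (ev 2) := (w1 (by omega)).pp (w2 le_rfl) (six K)
theorem ne01 : (0 : Fin (n + 1)) ≠ 1 := fun h => by
  have := congrArg Fin.val h
  rw [v1 K] at this; simp at this
theorem ne02 : (0 : Fin (n + 1)) ≠ 2 := fun h => by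
  have := congrArg Fin.val h
  rw [v2 K] at this; simp at this
theorem ne12 : (1 : Fin (n + 1)) ≠ 2 := fun h => by
  have := congrArg Fin.val h
  rw [v1 K, v2 K] at this; omega
theorem li3_ev : Li3 (ev 0 : Vn n K) (ev 1) (ev 2) := fun a b c h =>
  ⟨by simpa [ev_apply, ne01 (K := K), ne02 (K := K)] using congrFun h 0,
    by simpa [ev_apply, (ne01 (K := K)).symm, ne12 (K := K)] using congrFun h 1,
    by simpa [ev_apply, (ne02 (K := K)).symm, (ne12 (K := K)).symm] using congrFun h 2⟩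
theorem li_ev : Li (ev 0 : Vn n K) (ev 1) := fun a b h =>
  have := li3_ev (n := n) a b 0 (by simpa using h)
  ⟨this.1, this.2.1⟩

end Idx

section Idx

variable {n : ℕ} (K : Type) [Field K] [StarRing K] [hp : Par n K]
include hp

variable {K} in
theorem ir {i j : Fin (n + 1)} (hi : i.val < 3) (hj : j.val < 3) : i ≠ j.rev := fun h => by
  have := hp.five
  have := congrArg Fin.val h
  rw [Fin.val_rev] at this; omega
omit hp in
theorem l0 : (0 : Fin (n + 1)).val < 3 := by simp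
theorem l1 : (1 : Fin (n + 1)).val < 3 := by
  have := hp.five
  rw [Fin.val_one', Nat.mod_eq_of_lt (by omega)]; omega
theorem l2 : (2 : Fin (n + 1)).val < 3 := by
  have := hp.five
  exact (Nat.mod_le _ _).trans_lt (show 2 < 3 by omega)

end Idx

theorem jobFQ : JobFQ := fun _ K _ _ _ _ _ =>
  { card := Q.card, pow2 := Q.pow2, star_eq := Q.star_eq
    aut_star := fun σ a => (H81.SU.aut_star σ a), gal := Q.gal, star_rt := Q.star_rt, eta := Q.eta
    trs := Q.trs
    trn := fun a h => by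
      by_contra h0
      obtain ⟨η, hη⟩ := Q.eta (K := K)
      have := h (η / a)
      rw [div_mul_cancel₀ _ h0, hη] at this
      exact one_ne_zero this
    dec := Q.dec, h90 := Q.h90, n1 := Q.n1, n7 := Q.n7
    odd := fun a ha => by
      have h1 := orderOf_dvd_natCard (Units.mk0 a ha)
      rw [Nat.card_units, ← orderOf_units] at h1
      exact SA.odd_card_sub_one.of_dvd_nat h1
    core := Q.core, art := Q.art }

end H78.U6
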