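import Cfsg.Agent.H78.U6Spec

/-! STD-UM (row S3128), job FJ: centralisers of the involutions that are not transvections. -/

set_option autoImplicit false
set_option linter.unusedSectionVars false

namespace H78.U6.H79.UMJ

open H64.SG (O2 Syl Cz Cs Ns Is2 Inv2 IsO2 mem_Cs mem_Cz is2_of_sq mem_O2_of_odd)
open Matrix Subgroup H67 H67.UA

section Grp
variable {G : Type*} [Group G] {A : Subgroup G} {o s : G}

theorem cjO (ho : o ∈ O2 A) (hs : s ∈ A) : s * o * s⁻¹ ∈ O2 A :=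
  (mem_normalizer_iff.1 (H64.SG.Ns_le_Ns_O2 A (le_normalizer hs)) o).1 ho

theorem cmO (ho : o ∈ O2 A) (hs : s ∈ A) : o * s * o⁻¹ * s⁻¹ ∈ O2 A := by
  simpa [mul_assoc] using mul_mem ho (cjO (inv_mem ho) hs)

theorem O2_conj {g y p : G} (h : p * y * p⁻¹ ∈ O2 (Cz (p * g * p⁻¹))) : y ∈ O2 (Cz g) := by
  have : O2 (Cz (p * g * p⁻¹)) ≤ (O2 (Cz g)).comap (MulAut.conj p⁻¹).toMonoidHom :=
    (closure_le _).2 fun a ha => mem_O2_of_odd (A := Cz g) (g := MulAut.conj p⁻¹ a)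
      (mem_Cz.2 (by simpa [mul_assoc] using congrArg (MulAut.conj p⁻¹) (mem_Cz.1 ha.1)))
      (by rw [MulEquiv.orderOf_eq]; exact ha.2)
  simpa [mul_assoc] using this h

end Grp

variable {n : ℕ} {K : Type} [Field K] [StarRing K] [CharP K 2] [Finite K]

/-- `g - 1` -/
def nl (g : XU n K) (v : Vn n K) : Vn n K := ac g v + v

theorem ac_eq (g : XU n K) (v : Vn n K) : ac g v = v + nl g v := by
  rw [nl, add_comm (ac g v), ← add_assoc, v_add_self, zero_add]
theorem nl_add (g : XU n K) (v w : Vn n K) : nl g (v + w) = nl g v + nl g w := by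
  simp only [nl, ac_add]; abel
theorem nl_smul (g : XU n K) (a : K) (v : Vn n K) : nl g (a • v) = a • nl g v := by
  simp only [nl, ac_smul, smul_add]
theorem nl_zero (g : XU n K) : nl g 0 = 0 := by simp [nl]
theorem nl_mt (g : XU n K) (v : Vn n K) : (mt g - 1) *ᵥ v = nl g v := by
  rw [sub_mulVec, one_mulVec, sub_eq_iff_eq_add, add_comm (nl g v), ← ac_eq]; rfl

omit [StarRing K] in
theorem mext {M N : Matrix (Fin (n + 1)) (Fin (n + 1)) K} (h : ∀ j, M *ᵥ ev j = N *ᵥ ev j) : M = N :=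
  Matrix.ext fun i j => by simpa [ev] using congrFun (h j) i
theorem bext {g h : XU n K} (e : ∀ j, ac g (ev j) = ac h (ev j)) : g = h := X_ext (mext e)

theorem nl_comm {g s : XU n K} (h : g * s = s * g) (v : Vn n K) : nl g (ac s v) = ac s (nl g v) := by
  rw [nl, nl, ← ac_mul, h, ac_mul, ac_add]
theorem cz_of {g s : XU n K} (h : ∀ j, nl g (ac s (ev j)) = ac s (nl g (ev j))) : s ∈ Cz g :=
  mem_Cz.2 (bext fun j => by rw [ac_mul, ac_mul, ac_eq g, h, ac_eq g (ev j), ac_add])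

theorem hf0 {j : Fin (n + 1)} (hj : j ≠ Fin.last n) : hf (ev j : Vn n K) (ev 0) = 0 := by
  rw [hf_ev_right, ev_apply, if_neg (by simpa using hj.symm)]

/-- what is used about the elements of `M_k` -/
structure MK (k : ℕ) (g : XU n K) : Prop where
  w : ∀ v, Wk k (nl g v)
  sa : ∀ v w, hf (nl g v) w = hf v (nl g w)
  z : ∀ v, Wk (n + 1 - k) v → nl g v = 0

/-- the span of the last `k` basis vectors -/
def Wd (k : ℕ) (v : Vn n K) : Prop := ∀ i : Fin (n + 1), i.val + k < n + 1 → v i = 0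

theorem Wd.perp {k : ℕ} {u v : Vn n K} (h : Wd k u) (h' : Wd k v) (hk : 2 * k ≤ n + 1) :
    hf u v = 0 := Finset.sum_eq_zero fun i _ => by
  by_cases hi : i.val + k < n + 1
  · rw [h i hi, zero_mul]
  · rw [h' i.rev (by rw [Fin.val_rev]; omega), star_zero, mul_zero]
theorem wd_ev {k : ℕ} {i : Fin (n + 1)} (h : n + 1 ≤ i.val + k) (a : K) : Wd k (a • ev i : Vn n K) :=
  fun j hj => by rw [Pi.smul_apply, ev_apply, if_neg (by rintro rfl; omega), smul_zero]

theorem EE_U [FV n K] {u x : Vn n K} {α β : ℕ} (h : Ok u x 0) (hu : Wk α u) (hx : Wk β x)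
    (k : α + β ≤ n + 1) : EE u x 0 ∈ GA.UU (XU n K) := (FV.mem_U _).2 fun r v hv => by
  have e : ac (EE u x 0) v + v = hf v x • u + hf v u • x := by
    rw [ac_EE h, zero_mul, zero_smul, add_zero, add_comm, ← add_assoc, ← add_assoc, v_add_self, zero_add]
  rw [e]
  refine Wk.add ?_ ?_
  · by_cases c : α ≤ r
    · exact (hu.mono c).smul _
    · rw [hv.perp hx (by omega), zero_smul]; exact fun _ _ => rfl
  · by_cases c : β ≤ r
    · exact (hx.mono c).smul _
    · rw [hv.perp hu (by omega), zero_smul]; exact fun _ _ => rfl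

/-- the lift of a Siegel element of `SU(W_k)` -/
noncomputable def sl (g : XU n K) (f z : Vn n K) (c : K) : XU n K :=
  EE (nl g f) (z + c • f) 0 * EE f (nl g z) 0

structure SL (k : ℕ) (g : XU n K) (f z : Vn n K) (c : K) : Prop where
  hk : 2 * k ≤ n + 1
  m : MK k g
  wf : Wd k f
  wz : Wd k z
  ff : hf f (nl g f) = 0
  zf : hf z (nl g f) = 0
  tc : tr c = hf (nl g z) z

namespace SL
variable {k : ℕ} {g : XU n K} {f z : Vn n K} {c : K} (h : SL k g f z c)
include h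

theorem ok1 : Ok (nl g f) (z + c • f) 0 :=
  ⟨((h.m.w f).pp (h.m.w f) h.hk).l, by rw [hf_add_left, hf_smul_left, h.ff, h.zf]; simp, by
    simp [hf_add_left, hf_add_right, hf_smul_left, hf_smul_right, h.wf.perp h.wf h.hk,
      h.wf.perp h.wz h.hk, h.wz.perp h.wf h.hk, h.wz.perp h.wz h.hk]⟩

theorem ok2 : Ok f (nl g z) 0 :=
  ⟨h.wf.perp h.wf h.hk, by rw [h.m.sa, h.zf], by simp [((h.m.w z).pp (h.m.w z) h.hk).p]⟩

theorem act (v : Vn n K) : ac (sl g f z c) v = v + hf v (nl g z) • f + hf v f • nl g z +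
    (hf v z + c * hf v f) • nl g f + hf v (nl g f) • z + (c * hf v (nl g f)) • f := by
  have hc : hf (nl g z) z = c + star c := h.tc.symm
  rw [sl, ac_mul, ac_EE h.ok1, ac_EE h.ok2]
  simp only [hf_add_left, hf_add_right, hf_smul_left, hf_smul_right, h.ff, hc, h.ok2.perp,
    h.wf.perp h.wf h.hk, h.wf.perp h.wz h.hk, ((h.m.w z).pp (h.m.w f) h.hk).p]
  ext i
  simp only [Pi.add_apply, Pi.smul_apply, smul_eq_mul]
  linear_combination star c * hf v f * nl g f i * two0 K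

theorem actW {v : Vn n K} (hv : Wk k v) :
    ac (sl g f z c) v = v + hf v f • nl g z + (hf v z + c * hf v f) • nl g f := by
  simp [h.act, (hv.pp (h.m.w _) h.hk).p]

theorem nl_act {y : XU n K} (m : MK k y) (v : Vn n K) : nl y (ac (sl g f z c) v) =
    nl y v + hf v (nl g z) • nl y f + hf v (nl g f) • nl y z + (c * hf v (nl g f)) • nl y f := by
  have := h.hk
  simp [h.act, nl_add, nl_smul, m.z _ ((h.m.w _).mono (by omega))]

theorem mem : sl g f z c ∈ Cz g := cz_of fun j => by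
  rw [h.nl_act h.m, h.actW (h.m.w _), h.m.sa, h.m.sa]
  ext i
  simp only [Pi.add_apply, Pi.smul_apply, smul_eq_mul]
  ring

end SL

variable [hp : Par n K] [Base n K] {k : ℕ}

theorem mk_of (hk : GA.Rg (XU n K) k) {g : XU n K} (h : g ∈ GA.Mk (XU n K) k) : MK k g := by
  have hk' := rg_iff.1 hk
  have w : ∀ v, Wk k (nl g v) := (FV.mem_M k hk'.2 g).1 h
  have sa : ∀ v w, hf (nl g v) w = hf v (nl g w) := fun v w => by
    rw [nl, nl, hf_add_left, hf_add_right, hf_ac_left,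
      inv_eq_of_mul_eq_one_right (GA.FB.sqM k hk g h)]
  exact ⟨w, sa, fun v hv => eq_of_hf fun u => by
    rw [sa, hv.perp (w u) (by omega), hf_zero_left]⟩

theorem xk_ev (hk : 2 * k ≤ n + 1) {a j : Fin (n + 1)} (h : j.val + k = n + 1 + a.val) :
    nl (GA.xk (XU n K) k) (ev j) = ev a := funext fun i => by
  rw [nl, Pi.add_apply, ac_ev, UA.mt, FV.xk_val k hk]
  simp only [SA.xk, Matrix.add_apply, Matrix.one_apply, of_apply, ev_apply]
  rw [add_right_comm, CharTwo.add_self_eq_zero, zero_add]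
  exact if_congr (by rw [Fin.lt_def, Fin.ext_iff]; omega) rfl rfl

/-- the index `n + 1 - k` -/
def i0 (n k : ℕ) : Fin (n + 1) := ⟨n - (k - 1), by omega⟩

theorem sl0 (h2 : 2 ≤ k) (hk : 2 * k ≤ n + 1) {j : Fin (n + 1)} (h1 : n + 1 ≤ j.val + k)
    (hj : j ≠ Fin.last n) (a : K) : ∃ c, SL k (GA.xk (XU n K) k) (ev (i0 n k)) (a • ev j) c ∧
      nl (GA.xk (XU n K) k) (ev (i0 n k)) = ev 0 ∧ (a = 0 → c = 1) := by
  have r : GA.Rg (XU n K) k := rg_iff.2 ⟨by omega, hk⟩
  have m := mk_of r (GA.FB.xM k r)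
  have e : nl (GA.xk (XU n K) k) (ev (i0 n k)) = ev 0 := xk_ev hk (by simp [i0]; omega)
  obtain ⟨c, hc, h0⟩ : ∃ c, tr c = hf (nl (GA.xk (XU n K) k) (a • ev j)) (a • ev j) ∧
      (a = 0 → c = 1) := by
    by_cases h0 : a = 0
    · exact ⟨1, by simp [h0, tr_eq_zero], fun _ => rfl⟩
    · exact (FQ.trs _ (by rw [star_hf, m.sa])).imp fun c hc => ⟨hc, fun k => absurd k h0⟩
  refine ⟨c, ⟨hk, m, by simpa using wd_ev (i := i0 n k) (by simp [i0]; omega) (1 : K), wd_ev h1 a,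
    ?_, ?_, hc⟩, e, h0⟩
  · rw [e, hf_ev, if_neg (by simp [Fin.ext_iff, i0, Fin.val_rev]; omega)]
  · rw [e, hf_smul_left, hf0 hj, mul_zero]

theorem form (h2 : 2 ≤ k) (hk : 2 * k ≤ n + 1) {y : XU n K} (m : MK k y)
    (h : y ∈ Cs (GA.UU (XU n K) ⊓ Cz (GA.xk (XU n K) k))) : ∃ l c : K, star c = c ∧
      ∀ j, nl y (ev j) = l • nl (GA.xk (XU n K) k) (ev j) + (c * hf (ev j) (ev 0)) • ev 0 := by
  set G := GA.xk (XU n K) k
  have r : GA.Rg (XU n K) k := rg_iff.2 ⟨by omega, hk⟩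
  have mG : MK k G := mk_of r (GA.FB.xM k r)
  have l0 : hf (ev (Fin.last n) : Vn n K) (ev 0) = 1 := by simp [hf_ev]
  have key : ∀ j : Fin (n + 1), n + 1 ≤ j.val + k → j ≠ Fin.last n → ∀ a : K, ∃ c : K, (a = 0 → c = 1) ∧
      ∀ v, hf v (nl G (a • ev j)) • nl y (ev (i0 n k)) + hf v (ev 0) • nl y (a • ev j) +
        (c * hf v (ev 0)) • nl y (ev (i0 n k)) = hf v (nl y (ev (i0 n k))) • nl G (a • ev j) +
        (hf v (nl y (a • ev j)) + c * hf v (nl y (ev (i0 n k)))) • ev 0 := fun j h1 hj a => by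
    obtain ⟨c, s, e, h0⟩ := sl0 h2 hk h1 hj a
    refine ⟨c, h0, fun v => ?_⟩
    have u : sl G (ev (i0 n k)) (a • ev j) c ∈ GA.UU (XU n K) := mul_mem
      (EE_U (α := 1) (β := n) s.ok1 (e ▸ w0 le_rfl) (((wk_ev (Fin.val_lt_last hj)).smul a).add
        ((wk_ev (by simp [i0]; omega)).smul c)) (by omega))
      (EE_U (α := n + 2 - k) (β := k - 1) s.ok2 (wk_ev (by simp [i0]; omega)) (fun i hi => by
        by_cases c : k ≤ i.val
        · exact mG.w _ i c
        · have := s.ok2.perp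
          rwa [hf_ev_right, show (i0 n k).rev = i by
            simp [Fin.ext_iff, i0, Fin.val_rev]; omega] at this) (by omega))
    have := nl_comm (mem_Cs.1 h _ ⟨u, s.mem⟩).symm v
    rw [s.nl_act m, s.actW (m.w _), e, m.sa, m.sa, add_assoc, add_assoc, add_assoc,
      add_right_inj, ← add_assoc] at this
    exact this
  have j0 : n + 1 ≤ (i0 n k).val + k := by simp [i0]; omega
  have j1 : i0 n k ≠ Fin.last n := by simp [i0, Fin.ext_iff]; omega
  obtain ⟨l, hl, sl⟩ : ∃ l, nl y (ev (i0 n k)) = l • ev 0 ∧ star l = l := by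
    obtain ⟨c, h0, e⟩ := key _ j0 j1 0
    have := e (ev (Fin.last n))
    simp only [h0 rfl, zero_smul, nl_zero, hf_zero_right, smul_zero, l0, zero_add, one_mul,
      one_smul] at this
    have e := congrArg (hf (ev (Fin.last n))) this
    rw [hf_smul_right, l0, mul_one] at e
    exact ⟨_, this, e.symm⟩
  have D : ∀ j, j ≠ Fin.last n → nl y (ev j) = l • nl G (ev j) := fun j hj => by
    by_cases h1 : n + 1 ≤ j.val + k
    swap
    · rw [m.z _ (wk_ev (by omega)), mG.z _ (wk_ev (by omega)), smul_zero]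
    set μ := hf (ev (Fin.last n)) (nl y (ev j)) + l * hf (ev (Fin.last n)) (nl G (ev j))
    have q : ∀ a : K, a • (nl y (ev j) + l • nl G (ev j)) = (star a * μ) • ev 0 := fun a => by
      obtain ⟨c, -, e⟩ := key j h1 hj a
      have := e (ev (Fin.last n))
      simp only [hl, nl_smul, hf_smul_right, l0, sl] at this
      ext i
      have := congrFun this i
      simp only [Pi.add_apply, Pi.smul_apply, smul_eq_mul, μ] at this ⊢
      linear_combination this + (a * l * nl G (ev j) i -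
        star a * l * hf (ev (Fin.last n)) (nl G (ev j)) * (ev 0 : Vn n K) i) * two0 K
    obtain ⟨a, ha⟩ := hp.ne
    have q1 := q 1
    have q2 := congrFun (q a) 0
    rw [one_smul, star_one, one_mul] at q1
    simp only [q1, Pi.smul_apply, ev_apply, if_true, smul_eq_mul, mul_one] at q2
    rw [(mul_eq_mul_right_iff.1 q2).resolve_left ha.symm, zero_smul] at q1
    rw [← add_zero (l • _), ← q1, add_comm (nl y _), ← add_assoc, v_add_self, zero_add]
  refine ⟨l, hf (nl y (ev (Fin.last n)) + l • nl G (ev (Fin.last n))) (ev (Fin.last n)), ?_,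
    fun j => ?_⟩
  · rw [star_hf, hf_add_left, hf_add_right, hf_smul_left, hf_smul_right, sl, m.sa, mG.sa]
  by_cases hj : j = Fin.last n
  swap
  · rw [D j hj, hf0 hj]; simp
  subst hj
  ext i
  by_cases hi : i = 0
  · simp only [hi, l0, hf_ev_right, Fin.rev_last, Pi.add_apply, Pi.smul_apply, ev_apply, if_true,
      smul_eq_mul]
    linear_combination -(l * nl G (ev (Fin.last n)) 0) * two0 K
  · have := congrArg (hf (ev (Fin.last n))) (D i.rev (by simpa [Fin.rev_eq_iff] using hi))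
    rw [hf_smul_right, sl, ← m.sa, ← mG.sa, hf_ev_right, hf_ev_right, Fin.rev_rev] at this
    simp [ev_apply, hi, this]

theorem conj_or [GA.FA (XU n K)] (ic : IC n K) (h2 : 2 ≤ k) (hk : 2 * k ≤ n + 1) (qk : QK n K)
    {y : XU n K} (hy : Inv2 y) (h : y ∈ Cs (GA.UU (XU n K) ⊓ Cz (GA.xk (XU n K) k))) :
    IsConj (GA.xk (XU n K) k) y ∨ ∃ c, star c = c ∧ y = Tc c (ev 0) := by
  have r : GA.Rg (XU n K) k := rg_iff.2 ⟨by omega, hk⟩
  have mG := mk_of r (GA.FB.xM k r)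
  obtain ⟨l, c, sc, e⟩ := form h2 hk (mk_of r (GA.mem_Mk_of_Cs r
    (centralizer_le (le_inf (GA.Qk_le_UU r) (qk k r).1) h) (is2_of_sq hy.1))) h
  by_cases l0 : l = 0
  · exact .inr ⟨c, sc, bext fun j => by rw [ac_eq, e, l0, zero_smul, zero_add, ac_Tc iso0 sc]⟩
  refine .inl (ic.rk _ _ (GA.inv2_xk r) hy ?_)
  have e0 : nl (GA.xk (XU n K) k) (ev (i0 n k)) = ev 0 := xk_ev hk (by simp [i0]; omega)
  have : UA.mt y - 1 = (l • 1 + c • op (ev 0) (ev (i0 n k))) * (UA.mt (GA.xk (XU n K) k) - 1) :=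
    mext fun j => by
      rw [nl_mt, e, ← mulVec_mulVec, nl_mt, add_mulVec, smul_mulVec, one_mulVec, smul_mulVec,
        op_mulVec, mG.sa, e0, smul_smul]
  rw [this, rank_mul_eq_right_of_isUnit_det]
  refine isUnit_det_of_right_inverse (B := (l * l)⁻¹ • (l • 1 + c • op (ev 0) (ev (i0 n k)))) ?_
  have z : hf (ev 0 : Vn n K) (ev (i0 n k)) = 0 := hf_symm (hf0 (by simp [i0, Fin.ext_iff]; omega))
  simp only [mul_smul_comm, add_mul, mul_add, smul_mul_assoc, op_mul, z, one_mul, mul_one,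
    zero_smul, smul_zero, add_zero]
  ext i j
  simp only [Matrix.add_apply, Matrix.smul_apply, smul_eq_mul]
  field_simp
  linear_combination c * op (ev 0 : Vn n K) (ev (i0 n k)) i j * two0 K

theorem L1 (h3 : 3 ≤ k) (hk : 2 * k ≤ n + 1) {ρ : XU n K} (o : Odd (orderOf ρ))
    {d : Fin (n + 1) → K} (hd : ∀ r, ac ρ (ev r) = d r • ev r)
    (hc : ∀ a j : Fin (n + 1), j.val + k = n + 1 + a.val → d j = d a) (h1 : star (d 0) * d 1 ≠ 1)
    {c : K} (sc : star c = c) : Tc c (ev 0) ∈ O2 (Cz (GA.xk (XU n K) k)) := by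
  have r : GA.Rg (XU n K) k := rg_iff.2 ⟨by omega, hk⟩
  have mG := mk_of r (GA.FB.xM k r)
  have m : ρ ∈ Cz (GA.xk (XU n K) k) := cz_of fun j => by
    rw [hd, nl_smul]
    by_cases c : n + 1 ≤ j.val + k
    · have e : j.val + k = n + 1 + (⟨j.val + k - (n + 1), by omega⟩ : Fin (n + 1)).val := by
        simp; omega
      rw [xk_ev hk e, hd, hc _ _ e]
    · rw [mG.z _ (wk_ev (by omega)), ac_zero, smul_zero]
  have ok : ∀ a : K, Ok (ev 0 : Vn n K) (a • ev 1) 0 := fun a => by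
    simpa using (pp01.smul 1 a).ok
  have p : ∀ a b : K, hf (a • ev 1 : Vn n K) (b • ev 1) = 0 := fun a b => by
    rw [hf_smul_left, hf_smul_right, pp01.r]; simp
  have o1 := cmO (mem_O2_of_odd m o) (mem_Cz.2 (mem_Cs.1 (GA.Mk_le_Cs r
    (FV.EE_M k hk _ _ _ (ok 1) (w0 (by omega)) ((w1 (by omega)).smul 1))) _ (GA.FB.xM k r)))
  rw [EE_conj (ok 1), ac_smul, hd, hd, EE_smul, EE_inv (ok 1), mul_zero, star_zero, smul_smul,
    smul_smul, EE_mul (ok _) (ok 1), p, ← add_smul, add_zero, add_zero] at o1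
  have a0 : star (d 0) * 1 * d 1 + 1 ≠ 0 := fun e => h1 (by linear_combination e - two0 K)
  generalize star (d 0) * 1 * d 1 + 1 = a at o1 a0
  obtain ⟨η, rfl⟩ := FQ.trs c sc
  have v := v1 K (n := n)
  obtain ⟨c', s, e, -⟩ := sl0 (j := (1 : Fin (n + 1)).rev) (by omega) hk
    (by rw [Fin.val_rev]; omega) (by rw [Ne, Fin.ext_iff, Fin.val_rev, Fin.val_last]; omega)
    (star (η / a))
  have z0 : hf (ev 0 : Vn n K) (ev (i0 n k)) = 0 := hf_symm (hf0 (by simp [i0, Fin.ext_iff]; omega))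
  have z1 : hf (ev 1 : Vn n K) (ev (i0 n k)) = 0 := by
    rw [hf_ev, if_neg (by rw [Fin.ext_iff, Fin.val_rev, v]; simp [i0]; omega)]
  have o2 := mul_mem (cjO o1 s.mem) o1
  rw [EE_conj (ok a), ac_smul, s.actW (w0 (by omega)), s.actW (w1 (by omega)), e] at o2
  simp only [z0, z1, hf_smul_right, hf_ev, Fin.rev_inj, if_neg (ne01 (K := K)).symm, if_true,
    zero_smul, mul_zero, add_zero, star_star, mul_one, smul_add, smul_smul, mul_div_cancel₀ _ a0] at o2
  rw [EE_shift, EE_mul ⟨iso0, (ok a).perp, by rw [zero_add, tr_tr, p]⟩ (ok a), v_add_self, p] at o2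
  simpa using o2

theorem L2 (h1 : 1 ≤ k) (hk : 2 * k + 2 ≤ n + 1) (qk : QK n K)
    {c : K} (sc : star c = c) : Tc c (ev 0) ∈ O2 (Cz (GA.xk (XU n K) k)) := by
  have r : GA.Rg (XU n K) k := rg_iff.2 ⟨by omega, by omega⟩
  have mG := mk_of r (GA.FB.xM k r)
  obtain ⟨u, w, hu, hw, iu, iw, uw⟩ : ∃ u w : Vn n K, Wk (n + 1 - k) u ∧ Wk (n + 1 - k) w ∧ Iso u ∧
      Iso w ∧ hf u w = 1 := ⟨ev ⟨k, by omega⟩, ev (Fin.rev ⟨k, by omega⟩), wk_ev (by simp; omega),
    wk_ev (by simp [Fin.val_rev]; omega), ev_iso (by simp [Fin.ext_iff, Fin.val_rev]; omega),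
    ev_iso (by simp [Fin.ext_iff, Fin.val_rev]; omega), by simp [hf_ev]⟩
  have wu : hf w u = 1 := by rw [← star_hf, uw, star_one]
  have s1 := star_one K
  have T : ∀ v : Vn n K, Wk (n + 1 - k) v → Iso v → TT v ∈ Cz (GA.xk (XU n K) k) := fun v hv iv =>
    mem_Cz.2 (mul_inv_eq_iff_eq_mul.1 (by rw [Tc_conj iv s1, ac_eq, mG.z v hv, add_zero]))
  have p0 : ∀ v : Vn n K, Wk (n + 1 - k) v → hf v (ev 0) = 0 := fun v hv =>
    hv.perp (w0 le_rfl) (by omega)
  have Q : ∀ (v : Vn n K), Wk (n + 1 - k) v → Iso v →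
      EE (ev 0) v 0 ∈ Cz (GA.xk (XU n K) k) ∧ Ok (ev 0) v 0 := fun v hv iv =>
    have ok : Ok (ev 0) v 0 := ⟨iso0, p0 v hv, by simp [iv]⟩
    ⟨(qk k r).1 (FV.EE_Q k (by omega) _ _ _ ok (w0 h1) hv), ok⟩
  have o3 : (TT u * TT w) ^ 3 = 1 := by
    have e1 := Tc_conj iw s1 (TT u)
    have e2 := Tc_conj iu s1 (TT w)
    rw [inv_eq_of_mul_eq_one_right (Tc_mul_self iu s1), ac_Tc iu s1, wu] at e1
    rw [inv_eq_of_mul_eq_one_right (Tc_mul_self iw s1), ac_Tc iw s1, uw] at e2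
    simp only [mul_one, one_smul] at e1 e2
    rw [add_comm u] at e2
    calc (TT u * TT w) ^ 3 = TT u * TT w * TT u * (TT w * TT u * TT w) := by
          simp only [pow_succ, pow_zero, one_mul, mul_assoc]
      _ = 1 := by
        rw [e1, e2]
        exact Tc_mul_self (by simp [Iso, hf_add_left, hf_add_right, iu, iw, uw, wu,
          CharTwo.add_self_eq_zero]) s1
  have o1 := cmO (mem_O2_of_odd (mul_mem (T u hu iu) (T w hw iw))
    (Odd.of_dvd_nat (by decide) (orderOf_dvd_of_pow_eq_one o3))) (Q u hu iu).1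
  have a0 : ac (TT u * TT w) (ev 0) = ev 0 := by
    simp [ac_mul, ac_Tc iu s1, ac_Tc iw s1, hf_symm (p0 u hu), hf_symm (p0 w hw)]
  have a1 : ac (TT u * TT w) u = w := by
    simp only [ac_mul, ac_Tc iu s1, ac_Tc iw s1, uw, wu, hf_add_left, show hf u u = 0 from iu, mul_one,
      one_smul, zero_add]
    rw [add_right_comm, v_add_self, zero_add]
  rw [EE_conj (Q u hu iu).2, a0, a1, EE_inv (Q u hu iu).2, star_zero,
    EE_mul (Q w hw iw).2 (Q u hu iu).2] at o1
  obtain ⟨η, rfl⟩ := FQ.trs c sc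
  have q := Q _ (hu.smul (star η)) (iu.smul _)
  have o2 := cmO o1 q.1
  rw [← GA.cm, EE_cm ((Q w hw iw).2.add (Q u hu iu).2) q.2] at o2
  simpa [hf_add_left, hf_smul_right, wu, show hf u u = 0 from iu] using o2

end H78.U6.H79.UMJ
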