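import Cfsg.Agent.H78.U6J
import Cfsg.Agent.H78.U6FW
import Cfsg.Agent.H59.UniP

/-! STD-UM, slot QK: `O₂(C(x_k)) = Q_k`. -/

set_option autoImplicit false
set_option linter.unusedSectionVars false

namespace H78.U6.H81.UAQ
open _root_.H81

open H64.SG (Cz Ns mem_Cz)
open Matrix Subgroup H67 H67.UA H79.UMJ

variable {n : ℕ} {K : Type} [Field K] [StarRing K] [CharP K 2] [Finite K]

/-- Irreducibility under the transvections of an antidiagonal form on the indices `I`. -/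
theorem irr {I : Fin (n + 1) → Prop} {ρ : Fin (n + 1) → Fin (n + 1)} {β : Vn n K → Vn n K → K}
    {U : Submodule K (Vn n K)} (hρ : ∀ j, I j → I (ρ j) ∧ ρ (ρ j) = j)
    (h1 : ∀ a b, I a → I b → ρ a = a → ρ b = b → a = b)
    (βa : ∀ x y z, β x (y + z) = β x y + β x z) (βs : ∀ x (a : K) y, β x (a • y) = star a * β x y)
    (βe : ∀ x j, I j → β x (ev j) = x (ρ j))
    (H : ∀ x ∈ U, ∀ v, (∀ i, ¬ I i → v i = 0) → β v v = 0 → β x v ≠ 0 → v ∈ U)
    (hO : ∀ x ∈ U, ∀ j, I j → (∀ i, I i → i ≠ j → x i = 0) → x j ≠ 0 → ev j ∈ U) {η : K}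
    (hη : tr η = 1) {x : Vn n K} (hx : x ∈ U) {j : Fin (n + 1)} (hj : I j) (h0 : x j ≠ 0)
    (i : Fin (n + 1)) (hi : I i) : ev i ∈ U := by
  have sp : ∀ {a i}, I a → ¬ I i → (ev a : Vn n K) i = 0 := fun ha hi => by
    rw [ev_apply, if_neg (by rintro rfl; exact hi ha)]
  have A : ∀ j, I j → ρ j ≠ j → ∀ x ∈ U, x j ≠ 0 → ev (ρ j) ∈ U := fun j hj h x hx h0 =>
    H x hx _ (fun _ => sp (hρ j hj).1) (by rw [βe _ _ (hρ j hj).1, (hρ j hj).2, ev_apply, if_neg h.symm])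
      (by rwa [βe _ _ (hρ j hj).1, (hρ j hj).2])
  have D : ∀ a μ, I a → I μ → ρ a ≠ a → ρ μ = μ → ∀ y ∈ U, y (ρ a) + y μ + star η * y a ≠ 0 →
      ev a + ev μ + η • ev (ρ a) ∈ U := fun a μ ha hμ h2 h3 y hy h4 => by
    have e : ∀ z, β z (ev a + ev μ + η • ev (ρ a)) = z (ρ a) + z μ + star η * z a := fun z => by
      rw [βa, βa, βs, βe _ _ ha, βe _ _ hμ, βe _ _ (hρ a ha).1, (hρ a ha).2, h3]
    have h5 : a ≠ μ := by rintro rfl; exact h2 h3
    have h6 : ρ a ≠ μ := fun k => h5 (by rw [← (hρ a ha).2, k, h3])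
    refine H y hy _ (fun i hi => by simp [sp ha hi, sp hμ hi, sp (hρ a ha).1 hi]) ?_ (by rwa [e])
    simp only [e, Pi.add_apply, Pi.smul_apply, ev_apply, h2, h2.symm, h5, h5.symm, h6, h6.symm, if_true,
      if_false, smul_eq_mul]
    linear_combination hη + two0 K
  have B : ∀ j, I j → ρ j ≠ j → ev j ∈ U → ∀ i, I i → ev i ∈ U := fun j hj h hU i hi => by
    have h2 := A j hj h _ hU (by simp [ev_apply])
    by_cases e1 : i = j
    · rwa [e1]
    by_cases e2 : i = ρ j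
    · rwa [e2]
    by_cases e3 : ρ i = i
    · have := D j i hj hi h e3 _ h2 (by simp [ev_apply, e2, h.symm])
      rwa [U.add_mem_iff_left (U.smul_mem η h2), U.add_mem_iff_right hU] at this
    have e4 : ρ i ≠ j := fun k => e2 (by rw [← k, (hρ i hi).2])
    have e5 : ρ i ≠ ρ j := fun k => e1 (by rw [← (hρ i hi).2, k, (hρ j hj).2])
    refine (U.add_mem_iff_right hU).1 (H _ h2 _ (fun a ha => by simp [sp hj ha, sp hi ha]) ?_ ?_) <;>
      simp [βa, βe _ _ hi, βe _ _ hj, ev_apply, h, e3, e4, e5, Ne.symm e2]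
  have C : ∀ x ∈ U, ∀ a, I a → ρ a ≠ a → x a ≠ 0 → ev i ∈ U := fun x hx a ha h h0 =>
    B _ (hρ a ha).1 (by rw [(hρ a ha).2]; exact h.symm) (A a ha h x hx h0) i hi
  by_cases c : ∃ a, I a ∧ ρ a ≠ a ∧ x a ≠ 0
  · obtain ⟨a, ha, h, h2⟩ := c
    exact C x hx a ha h h2
  push Not at c
  have e1 : ρ j = j := by_contra fun k => h0 (c j hj k)
  have h2 := hO x hx j hj (fun a ha k => c a ha fun k' => k (h1 a j ha hj k' e1)) h0
  by_cases e2 : ρ i = i
  · rwa [h1 i j hi hj e2 e1]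
  have e3 : i ≠ j := by rintro rfl; exact e2 e1
  have e4 : ρ i ≠ j := fun k => e3 (by rw [← (hρ i hi).2, k, e1])
  exact C _ (D i j hi hj e2 e1 _ h2 (by simp [ev_apply, e3, e4])) i hi e2
    (by simp [ev_apply, e3, Ne.symm e2])

variable (n K) in
/-- `W_k` -/
def WK (k : ℕ) : Submodule K (Vn n K) where
  carrier := {v | Wk k v}
  add_mem' := Wk.add
  zero_mem' _ _ := rfl
  smul_mem' a _ h := h.smul a

/-- A normal `2`-subgroup of `C` is trivial on `W_b / W_a`. -/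
theorem layer {C R : Subgroup (XU n K)} (h1 : R ≤ C) (h2 : C ≤ Ns R) (h3 : IsPGroup 2 R) {a b : ℕ}
    (hab : a ≤ b) (ia : ∀ c ∈ C, ∀ v, Wk a v → Wk a (ac c v)) (ib : ∀ c ∈ C, ∀ v, Wk b v → Wk b (ac c v))
    {ρ : Fin (n + 1) → Fin (n + 1)} (hρ : ∀ j : Fin (n + 1), a ≤ j → j < b → (ρ j).val + j + 1 = a + b)
    {β : Vn n K → Vn n K → K} (βa : ∀ x y z, β x (y + z) = β x y + β x z)
    (βs : ∀ x (a : K) y, β x (a • y) = star a * β x y)
    (βe : ∀ x (j : Fin (n + 1)), a ≤ j.val ∧ j.val < b → β x (ev j) = x (ρ j))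
    (T : ∀ v, Wk b v → β v v = 0 → ∃ s ∈ C, ∀ y, Wk b y → ac s y = y + β y v • v) {η : K}
    (hη : tr η = 1) {r : XU n K} (hr : r ∈ R) {v : Vn n K} (hv : Wk b v) : Wk a (ac r v + v) := by
  let U : Submodule K (Vn n K) :=
    { carrier := {v | Wk b v ∧ ∀ r ∈ R, Wk a (ac r v + v)}
      add_mem' := fun {x y} hx hy => ⟨hx.1.add hy.1, fun r hr => by
        rw [ac_add, add_add_add_comm]; exact (hx.2 r hr).add (hy.2 r hr)⟩
      zero_mem' := ⟨fun _ _ => rfl, fun _ _ _ _ => by simp⟩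
      smul_mem' := fun c x hx => ⟨hx.1.smul c, fun r hr => by
        rw [ac_smul, ← smul_add]; exact (hx.2 r hr).smul c⟩ }
  have Ua : ∀ v, Wk a v → v ∈ U := fun v h => ⟨h.mono hab, fun r hr => (ia r (h1 hr) v h).add h⟩
  have key : ∀ i : Fin (n + 1), a ≤ i.val ∧ i.val < b → ev i ∈ U := fun i hi => by
    have : Finite (R.map (H59.UM.lin n K)) := Finite.of_surjective _ ((H59.UM.lin n K).subgroupMap_surjective R)
    obtain ⟨x, x1, x2, x3⟩ := H59.exists_fixed_mod (h3.map (H59.UM.lin n K)) (U₁ := WK n K a)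
      (U₂ := WK n K b) (by rintro _ ⟨r, hr, rfl⟩; exact ia r (h1 hr))
      (by rintro _ ⟨r, hr, rfl⟩; exact ib r (h1 hr))
      fun k => by simpa [ev_apply] using k (wk_ev hi.2) i hi.1
    obtain ⟨j, hj⟩ := not_forall.1 x2
    obtain ⟨j1, j2⟩ := Classical.not_imp.1 hj
    refine irr (I := fun i => a ≤ i.val ∧ i.val < b) (ρ := ρ) (U := U) (fun j hj => ?_)
      (fun i j hi hj e1 e2 => ?_)
      βa βs βe (fun x hx v v1 v2 v3 => ?_) (fun x hx j hj k1 k2 => ?_) hη (x := x)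
      ⟨x1, fun r hr => ?_⟩ ⟨j1, not_le.1 fun k => j2 (x1 j k)⟩ j2 i hi
    · have e1 := hρ j hj.1 hj.2
      have e2 := hρ (ρ j) (by omega) (by omega)
      exact ⟨by omega, Fin.ext (by omega)⟩
    · have := hρ i hi.1 hi.2
      have := hρ j hj.1 hj.2
      rw [e1, e2] at *
      exact Fin.ext (by omega)
    · obtain ⟨s, hs, e⟩ := T v (fun i hi => v1 i (by omega)) v2
      have : ac s x ∈ U := ⟨ib s hs x hx.1, fun r hr => by
        have := ia s hs _ (hx.2 _ (H98.conj_mem_of_mem_normalizer (h2 (inv_mem hs)) hr))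
        rwa [ac_add, inv_inv, ac_mul, ac_mul, ac_ac_inv] at this⟩
      rwa [e x hx.1, U.add_mem_iff_right hx, U.smul_mem_iff v3] at this
    · refine (U.smul_mem_iff k2).1 ((U.add_mem_iff_right hx).1 (Ua _ fun i hi => ?_))
      by_cases e : i = j
      · simp [e, ev_apply, CharTwo.add_self_eq_zero]
      · by_cases e' : i.val < b
        · simp [e, ev_apply, k1 i ⟨hi, e'⟩ e]
        · simp [e, ev_apply, hx.1 i (not_lt.1 e')]
    · have := x3 _ ⟨r, hr, rfl⟩
      rwa [sub_eq_add_neg, neg_eq_iff_add_eq_zero.2 (v_add_self x)] at this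
  have : ∑ i, v i • (ev i : Vn n K) ∈ U := U.sum_mem fun i _ => by
    by_cases e : b ≤ i.val
    · rw [hv i e, zero_smul]; exact U.zero_mem
    by_cases e' : a ≤ i.val
    exacts [U.smul_mem _ (key i ⟨e', not_le.1 e⟩), U.smul_mem _ (Ua _ (wk_ev (not_le.1 e')))]
  rw [show ∑ i, v i • (ev i : Vn n K) = v from funext fun j => by simp [ev_apply]] at this
  exact this.2 r hr

/-- the shift of `W_k` to the last `k` coordinates -/
def up (k : ℕ) (w : Vn n K) : Vn n K := fun i =>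
  if n + 1 ≤ i.val + k then w ⟨min (i.val + k - (n + 1)) n, by omega⟩ else 0

theorem up_add (k : ℕ) (v w : Vn n K) : up k (v + w) = up k v + up k w := funext fun i => by
  simp only [up, Pi.add_apply]; split_ifs <;> simp
theorem up_smul (k : ℕ) (a : K) (v : Vn n K) : up k (a • v) = a • up k v := funext fun i => by
  simp only [up, Pi.smul_apply]; split_ifs <;> simp
theorem up_wd (k : ℕ) (v : Vn n K) : Wd k (up k v) := fun i hi => if_neg (by omega)
theorem up_ev {k : ℕ} (hk : 2 * k ≤ n + 1) {a : Fin (n + 1)} (h : a.val < k) :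
    up k (ev a : Vn n K) = ev ⟨a.val + (n + 1) - k, by omega⟩ := funext fun i => by
  simp only [up, ev_apply, Fin.ext_iff]
  split_ifs <;> first | rfl | omega

variable [hp : Par n K] [Base n K] {k : ℕ}

theorem nl_up (hk : 2 * k ≤ n + 1) {w : Vn n K} (h : Wk k w) : nl (GA.xk (XU n K) k) (up k w) = w := by
  have e : w = ∑ i, w i • ev i := funext fun j => by simp [ev_apply]
  rw [e]
  refine Finset.sum_induction _ (fun v => nl (GA.xk (XU n K) k) (up k v) = v)
    (fun a b h1 h2 => by rw [up_add, nl_add, h1, h2])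
    (by simpa [nl_zero] using congrArg (nl (GA.xk (XU n K) k)) (up_smul k 0 0)) fun i _ => ?_
  rw [up_smul, nl_smul]
  by_cases c : i.val < k
  · rw [up_ev hk c, xk_ev hk (a := i) (by simp only; omega)]
  · simp [h i (not_lt.1 c)]

theorem jobQK : JobQK := by
  intro n K _ _ _ _ hp B k hr
  have hk := (rg_iff.1 hr).2
  have m := mk_of hr (GA.FB.xM k hr)
  obtain ⟨η, hη⟩ := FQ.eta (K := K)
  have i1 : ∀ c ∈ Cz (GA.xk (XU n K) k), ∀ v, Wk k v → Wk k (ac c v) := fun c hc v hv => by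
    rw [← nl_up hk hv, ← nl_comm (mem_Cz.1 hc)]; exact m.w _
  have i2 : ∀ c ∈ Cz (GA.xk (XU n K) k), ∀ v, Wk (n + 1 - k) v → Wk (n + 1 - k) (ac c v) :=
    fun c hc v hv => (FV.wk_perp k (by omega) _).2 fun w hw => by
      rw [hf_ac_left, hv.perp (i1 _ (inv_mem hc) w hw) (by omega)]
  refine ⟨fun g hg => mem_Cz.2 (GA.FB.QM k hr hg _ (GA.FB.xM k hr)),
    fun c hc => H98.mem_normalizer_of_cj_le ?_, GA.FB.syl.2.1.to_le (GA.FB.QU k hr),
    fun R h1 h2 h3 r hR => (FV.mem_Qk k hk r).2 ⟨fun v hv => ?_, fun v hv => ?_⟩⟩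
  · rintro _ ⟨g, hg, rfl⟩
    obtain ⟨g1, g2⟩ := (FV.mem_Qk k hk g).1 hg
    change c * g * c⁻¹ ∈ _
    refine (FV.mem_Qk k hk _).2 ⟨fun v hv => ?_, fun v hv => ?_⟩ <;> rw [ac_mul, ac_mul]
    · rw [g1 _ (i1 _ (inv_mem hc) v hv), ac_ac_inv]
    · simpa [ac_add] using i1 c hc _ (g2 _ (i2 _ (inv_mem hc) v hv))
  · have := layer h1 h2 h3 (Nat.zero_le k) (fun c _ v h => by
        rw [show v = 0 from funext fun i => h i (Nat.zero_le _), ac_zero]; exact fun _ _ => rfl) i1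
      (ρ := fun j => ⟨k - 1 - j.val, by omega⟩) (fun j _ _ => by simp only; omega)
      (β := fun x v => hf x (up k v)) (fun x y z => by rw [up_add, hf_add_right])
      (fun x a y => by rw [up_smul, hf_smul_right]) (fun x j hj => by
        rw [up_ev hk hj.2, hf_ev_right]
        exact congrArg x (Fin.ext (by simp only [Fin.val_rev]; omega))) (fun v v1 v2 => ?_) hη hR hv
    · exact add_right_cancel (b := v) (by
        rw [v_add_self]; exact funext fun i => this i (Nat.zero_le _))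
    have p : Pp (up k v) v := ⟨(up_wd k v).perp (up_wd k v) hk, (v1.pp v1 hk).l, hf_symm v2⟩
    have e : ∀ y, Wk k y → ac (qq v (up k v)) y = y + hf y (up k v) • v := fun y hy => by
      rw [ac_qq p, (hy.pp v1 hk).p, zero_smul, add_zero]
    refine ⟨_, cz_of fun j => ?_, e⟩
    rw [e _ (m.w _), m.sa, nl_up hk v1, ac_qq p, nl_add, nl_add, nl_smul, nl_smul, nl_up hk v1,
      m.z v (v1.mono (by omega)), smul_zero, add_zero]
  · refine layer h1 h2 h3 (by omega) i1 i2 (ρ := Fin.rev) (fun j _ _ => by rw [Fin.val_rev]; omega)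
      hf_add_right (fun x a y => hf_smul_right a x y) (fun x j _ => hf_ev_right x j)
      (fun v v1 v2 => ⟨TT v, cz_of fun j => ?_, fun y _ => by rw [ac_Tc v2 (star_one K), one_mul]⟩)
      hη hR hv
    rw [ac_Tc v2 (star_one K), ac_Tc v2 (star_one K), nl_add, nl_smul, m.z v v1, m.sa, m.z v v1]
    simp

end H78.U6.H81.UAQ
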