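import Cfsg.Agent.H78.YUDef
import Cfsg.Agent.H78.S2Fac
import Cfsg.Agent.H78.S2LV
import Cfsg.Agent.H78.S2CT
import Cfsg.Agent.H59.S3MU1
import Cfsg.Agent.H35.S2UM
import Cfsg.Agent.H66.UAFK

/-! STD-SP (row S3129), endgame, unitary models: the slots `QM I1 F0 F1 G0`. -/

set_option autoImplicit false
set_option linter.unusedSectionVars false

namespace H78.YU

open H64.SG (O2 Syl Cz Cs Ns cjs Is2 Inv2 IsO2 fx)
open H67 H67.UA H64.YE Subgroup Matrix H59.S3MU1
open H67.SP (Qx bc fa mt_bc mt_fa mid iv IsIns ins Alt kk vx)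
open H67.SA (cm St la)

section

variable {m : ℕ} {K : Type} [Field K] [StarRing K] [CharP K 2] [Finite K]

theorem ta_sq : ta m K * ta m K = 1 := MulEquiv.ext ta_ta

theorem wk_br {k : ℕ} {v : Vn m K} (h : Wk k v) : Wk k (br v) := fun i hi => by
  rw [br, h i hi, star_zero]

variable [p : Par m K]

theorem out_ta : GA.out (XU m K) (ta m K) = sg K := by
  have := p.five
  have h := SA.out_slField (n := m) (by omega) (sg K)
  rw [FX.out_eq (ta m K) (H57.slField _ K (sg K)) ⟨fun _ => rfl, by rw [h]⟩, h]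

theorem out_comm {β : MulAut (XU m K)} (h : β ∈ commutator (MulAut (XU m K))) :
    GA.out (XU m K) β = 1 := by
  refine (show commutator _ ≤ (GA.out (XU m K)).ker from commutator_le.2 fun a _ b _ => ?_) h
  exact GA.out_cm a b

theorem stU : ta m K ∈ St (U0 m K) := SA.mem_St_of_finite fun g hg => (FV.mem_U _).2 fun k v hv => by
  rw [← br_br v, ac_ta, ← br_add]
  exact wk_br ((FV.mem_U g).1 hg k _ (wk_br hv))

end

theorem jobQM : JobQM := fun m K _ _ _ _ p =>
  { qs := ⟨GA.FO.perf, GA.FO.oddZ, GA.FO.nrm, GA.FO.qs, fun β h h2 => GA.FO.inn β (out_comm h) h2⟩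
    stU := stU
    tne := fun h => H66.UAK.sg_ne m (out_ta.symm.trans (out_comm h))
    m3 := fun β h2 h3 o1 o2 => by
      rcases SA.out_sq_eq_one (H66.UAK.sg_ne m) H66.UAK.sg_sq (τ := GA.out (XU m K) β)
        (by rw [← map_mul, h2, map_one]) with h | h
      · obtain ⟨s, hs⟩ := GA.FO.inn β h (H64.SG.is2_of_sq h2)
        exact o1 s hs
      · obtain ⟨s, hs⟩ := GA.FO.inn (β * ta m K) (by
          rw [map_mul, out_ta, h]; exact H66.UAK.sg_sq) h3
        exact o2 s hs
    good := fun j hj => ⟨GA.Qk_le_UU hj, GA.UU_le_Ns_Qk hj, (GA.FA.nu _ stU j hj).2,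
      fun g hg => GA.Mk_le_Qk hj (GA.mem_Mk_of_Cs hj hg.1 (GA.is2_of_UU hg.2)), fun α h1 h2 => by
        obtain ⟨g, hg, rfl⟩ := SA.mem_cI.1 (GA.FA.ctK j hj α h1)
        exact H64.SG.Is2.eq_one (H64.SG.is2_of_sq (by
          rw [← map_mul, GA.FB.sqM j hj g hg, map_one])) h2⟩
    xk := fun j hj => X_ext (Matrix.ext fun a b => by
      rw [ta_apply, UA.mt, FV.xk_val j (rg_iff.1 hj).2]
      simp only [SA.xk, Matrix.add_apply, one_apply, of_apply]
      split_ifs <;> simp) }

theorem jobI1 : JobI1 := fun m K _ _ _ _ p hn =>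
  { isIns := isIns hn
    inj := ins_inj hn
    rng := ins_rng hn
    ee := fun _ _ _ h => ins_EE hn h
    tc := fun y => bc_ins (sg K : K →+* K) (fun _ => rfl) hn y
    add := iv_add
    smul := iv_smul
    hh := hf_iv hn
    hm := hf_im hn
    mm := hf_mm hn
    dec := fun z => ⟨_, _, (dec z).trans (add_comm _ _)⟩
    e0 := by
      have := p.five
      rw [iv_ev, Fin.succAbove_ne_zero_zero (by rw [Ne, Fin.ext_iff]; simp [mid]; omega)]
    bi := fun v => vext (by simp [br]) (by simp [br]) }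

theorem jobF0 : JobF0 := fun n F _ _ _ _ _ _ _ _ _ K _ _ _ _ x h =>
  { inj := fun m a b e => X_ext (Matrix.map_injective x.φ.injective (congrArg UA.mt e))
    fix := fun m y => ⟨fun e => by
      have k : ∀ i j, UA.mt y i j ∈ x.φ.range := fun i j =>
        (x.fix _).1 ((h _).symm.trans (congrFun (congrFun (congrArg UA.mt e) i) j))
      choose M hM using k
      have e1 : (of M).map x.φ = UA.mt y := Matrix.ext hM
      have e2 : ∀ v, vx x.φ (of M *ᵥ v) = ac y (vx x.φ v) := fun v => funext fun i => by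
        simp [ac, ← e1, vx, mulVec, dotProduct]
      obtain ⟨g, hg⟩ := exists_X (of M) (x.φ.injective (by
        rw [RingHom.map_det, RingHom.mapMatrix_apply, e1, mt_det, map_one])) fun a b =>
          x.φ.injective (by
            rw [← hf_vx x.φ (x.st (Or.inr h)), e2, e2, hf_ac, hf_vx x.φ (x.st (Or.inr h))])
      exact ⟨g, X_ext (by rw [mt_bc, hg, e1])⟩, by
      rintro ⟨g, rfl⟩
      exact X_ext (Matrix.ext fun i j => (x.st (Or.inr h) _).trans (congrArg x.φ (star_trivial _)))⟩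
    ac := fun m => ac_bc x.φ _
    hv := fun m => hf_vx x.φ (x.st (Or.inr h))
    ee := fun m _ _ _ o => bc_EE x.φ _ o
    ve := fun m => vx_ev x.φ
    bv := fun m v => funext fun i => (x.st (Or.inr h) _).trans (congrArg x.φ (star_trivial _)) }

theorem jobF1 : JobF1 := fun n F _ _ _ _ _ p _ _ _ K _ _ _ _ x h f i => by
  have sq : ∀ g, iV n x h g = ins n K (iU n x h g) := bc_ins x.φ _ p.odd
  refine ⟨sq, fun y => ⟨fun e => ?_, ?_⟩⟩
  · obtain ⟨g, rfl⟩ := (f.fix _ y).1 e
    have k : ∀ v : Vn (n + 1) F, hf v v = v (mid n) ^ 2 := fun v => by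
      rw [hf_mid p.odd, H86.SPI.hf_self, star_trivial, add_zero, pow_two]
    have : ac g⁻¹ (ev (mid n)) = ev (mid n) := eq_of_hf fun z => by
      rw [← star_hf, ← hf_ac_left, ← star_hf z, hf_m p.odd, hf_m p.odd]
      exact congrArg star (sq_inj (by rw [← k, ← k, hf_ac]))
    obtain ⟨a, rfl⟩ := ins_rng p.odd g (by rw [← this, ac_ac_inv, this])
    exact ⟨a, rfl⟩
  · rintro ⟨g, rfl⟩
    exact (f.fix _ _).2 ⟨_, rfl⟩

theorem jobG0 : JobG0 := fun n F _ _ _ _ _ p b c _ K _ _ _ _ x h f η hη H h1 h2 => by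
  have ct := (S2.jobCT.{0} n F b c (S2.fX n F) (S2.fY n F) K x h (S2.jobLV n F K x h)).1
  obtain ⟨M, -⟩ := H35.S2UM.jobUM n F K x h
  have five := p.five
  have mem : ∀ g, iU n x h g ∈ H := fun g => h1 ⟨g, rfl⟩
  have h01 : hf (ev 1 : Vn n F) (ev 0) = 0 := by
    rw [hf_ev, if_neg (by rw [Fin.ext_iff, Fin.val_rev, H59.UM.v1 five]; simp; omega)]
  have k : ∀ u v : Vn n F, hf v u = 0 → S2.zM x.φ u v η ∈ H := fun u v k => by
    by_cases hu : u = 0
    · have : S2.zM x.φ u v η = 1 := by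
        rw [hu]; exact (congrArg (EE · _ 0) (vx_zero x.φ)).trans (EE_zero_left _ _)
      rw [this]; exact one_mem H
    by_cases hl : Li u v
    · obtain ⟨g, rfl, rfl⟩ := SP.FW.w2 u v (hf_symm k) hl
      rw [← M.eqv g _ _ η h01]
      refine mul_mem (mul_mem (mem g) ?_) (inv_mem (mem g))
      convert h2 using 1
      exact congrArg₂ (fun a b => EE a (η • b) 0) (vx_ev x.φ 0) (vx_ev x.φ 1)
    · obtain ⟨a, rfl⟩ := S2.dep_of_not_li hu hl
      rw [M.sm a u u η (H86.SPI.hf_self u), M.dep u _ a (by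
        rw [tr, star_mul', x.st (Or.inr h), star_trivial a, ← mul_add, show η + star η = 1 from hη,
          mul_one])]
      exact mem _
  rw [eq_top_iff, ← ct]
  refine sup_le h1 ((closure_le _).2 ?_)
  rintro _ ⟨u, v, α, k0, rfl⟩
  obtain ⟨s, hs⟩ := (x.fix (tr α)).1 (by rw [← h, star_tr])
  obtain ⟨a, ha⟩ := (x.fix (α + x.φ s * η)).1 (by
    rw [← h, star_add, star_mul', x.st (Or.inr h), star_trivial s, hs]
    linear_combination (α + star α) * hη - (η * (α + star α)) * two0 K + star α * two0 K)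
  rw [show α = x.φ a + x.φ s * η by rw [ha]; linear_combination -(x.φ s * η) * two0 K,
    ← M.add _ _ _ _ k0, M.rat _ _ _ k0, ← M.sm _ _ _ _ k0]
  exact mul_mem (mem _) (k _ _ (by rw [hf_smul_left, k0, mul_zero]))

end H78.YU
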