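import Cfsg.Agent.H78.YUA

/-! STD-SP (row S3129), endgame, unitary models: the assembly. -/

set_option autoImplicit false
set_option linter.unusedSectionVars false

namespace H78.YU

open H64.SG (O2 Syl Cz Cs Ns cjs Is2 Inv2 IsO2 fx)
open H67 H67.UA H64.YE Subgroup Matrix
open H67.SP (Qx bc fa mt_bc mt_fa mid iv IsIns ins Alt kk vx)
open H67.SA (cm St la)

/-- The open slots. -/
structure SY : Prop where
  na : JobNA
  rr : JobR0
  np : JobNP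
  rn : JobRN
  qn : JobQN
  ra : JobRA
  hb : JobHB
  h1 : JobH1
  ha : JobHA
  pt : JobPT
  sd : JobSD
  s0 : JobS0
  s1 : JobS1
  bi : JobBI
  nu : JobNU
  cl : JobCL
  g1 : JobG1
  dc : JobDC
  al : JobAL
  gc : JobGC

section

variable {n : ℕ} {F : Type} [Field F] [StarRing F] [TrivialStar F] [CharP F 2] [Finite F]

theorem le_Ns_EG {Y : Type} [Group Y] [Finite Y] (ι : XU n F →* Y) (Go : XU n F → Prop)
    (B : Subgroup Y) : B ≤ Ns (EG ι Go B) := fun b hb =>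
  SA.conj_mem_St.1 (SA.mem_St_of_finite fun g hg => by
    refine (show EG ι Go B ≤ (EG ι Go B).comap (MulAut.conj b).toMonoidHom from
      (closure_le _).2 ?_) hg
    rintro _ ⟨c, hc, v, h1, h2, h3, rfl⟩
    exact subset_closure ⟨b * c, mul_mem hb hc, v, h1, h2, h3, by simp [mul_assoc]⟩)

theorem gen_of {Y : Type} [Group Y] [Finite Y] [QS Y] (X : Subgroup Y) {a : Y} (h1 : a * a ∈ X)
    (h2 : ∀ H, X ≤ H → a ∈ H → H = ⊤) (h3 : ¬ X ≤ center Y) : X ⊔ cjs a X = ⊤ := by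
  refine (QS.nrm _ (normalizer_eq_top_iff.1 (h2 _ (le_sup_left.trans le_normalizer) ?_))).resolve_left
    fun k => h3 (le_sup_left.trans k)
  refine SA.conj_mem_St.1 (SA.mem_St_of_finite fun g hg => ?_)
  refine (show X ⊔ cjs a X ≤ (X ⊔ cjs a X).comap (MulAut.conj a).toMonoidHom from
    sup_le (fun g hg => mem_sup_right ⟨g, hg, rfl⟩) ?_) hg
  rintro _ ⟨g, hg, rfl⟩
  refine mem_sup_left ?_
  convert mul_mem (mul_mem h1 hg) (inv_mem h1) using 1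
  simp [mul_assoc]

variable {m : ℕ} {K : Type} [Field K] [StarRing K] [CharP K 2] [Finite K] [p : Par m K]

theorem ppe {i j : Fin (m + 1)} (hi : 2 * i.val ≠ m) (hj : 2 * j.val ≠ m) (h : i.val + j.val ≠ m) :
    Pp (ev i : Vn m K) (ev j) :=
  pp_ev (by rw [Ne, Fin.ext_iff, Fin.val_rev]; omega) (by rw [Ne, Fin.ext_iff, Fin.val_rev]; omega)
    (by rw [Ne, Fin.ext_iff, Fin.val_rev]; omega)

theorem SY.mod (s : SY) (ι : XU n F →* XU m K) (Gd : XU n F → Prop) (hq : qK K = Nat.card F)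
    (hk : kk m = kk n) (fix : ∀ y, ta m K y = y ↔ y ∈ ι.range)
    (aq : ∀ i j, Pp (ev i : Vn m K) (ev j) → ∃ v, v * v = 1 ∧ Gd v ∧ ι v = qq (ev j) (ev i))
    (ht : ∃ u, u * u = 1 ∧ ι u = r0 m K)
    (gen : ∃ a, a * a ∈ ι.range ∧ a * (ta m K a)⁻¹ ∈ ι.range ∧ ∀ H, ι.range ≤ H → a ∈ H → H = ⊤)
    (gdc : ∀ u, u * u = 1 → Gd u → ∃ g, ι u = g * (ta m K g)⁻¹) : Mod ι (ta m K) Gd := by
  have five := p.five
  have qm := jobQM m K
  have r := s.rr m K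
  have np := s.np m K
  have rn := s.rn m K r
  have qn := s.qn m K
  have hb := s.hb m K r
  have sd := s.sd m K
  have := qm.qs
  have i0 := H59.UM.iso0 (n := m) (K := K)
  have v1 := H59.UM.v1 five
  have v2 := H59.UM.v2 five
  have ri : Inv2 (r0 m K) := by rw [r0, ← (base m K).xk_one]; exact GA.inv2_xk GA.rg1
  have rz : r0 m K ∈ Z0 m K := (FV.mem_Z _).2 ⟨1, star_one K, rfl⟩
  have tz : ∀ z ∈ Z0 m K, ta m K z = z := fun z hz => by
    obtain ⟨c, hc, rfl⟩ := (FV.mem_Z z).1 hz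
    rw [ta_EE (ok_zero i0 hc), br_ev, br_zero, hc]
  have p01 : Pp (ev 0 : Vn m K) (ev 1) :=
    ppe (by simp; omega) (by omega) (by rw [v1, Fin.val_zero]; omega)
  have p02 : Pp (ev 0 : Vn m K) (ev 2) :=
    ppe (by simp; omega) (by omega) (by rw [v2, Fin.val_zero]; omega)
  have p12 : Pp (ev 1 : Vn m K) (ev 2) := ppe (by omega) (by omega) (by omega)
  have pl1 : Pp (ev (la m) : Vn m K) (ev 1) :=
    ppe (by simp; omega) (by omega) (by rw [v1, Fin.val_last]; omega)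
  have eg : ∀ B i j, Pp (ev i : Vn m K) (ev j) → qq (ev j) (ev i) ∈ B →
      qq (ev j) (ev i) ∈ EG ι Gd B := fun B i j h hB => by
    obtain ⟨v, h1, h2, h3⟩ := aq i j h
    exact subset_closure ⟨1, one_mem B, v, h1, h2, h3 ▸ hB, by simp [h3]⟩
  have pe : ∀ B, P0 m K ≤ B → P0 m K ≤ EG ι Gd B := fun B hB =>
    np.np _ (hB.trans (le_Ns_EG ι Gd B)) (eg B _ _ p01 (hB (ac_EE_self p01.ok)))
      (eg B _ _ p12 (hB (ac_EE_fix p12.ok p01.p p02.p)))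
  have pq : P0 m K ≤ Ns (Q0 m K) := fun g hg => SA.conj_mem_St.1 (r.stq _ (SA.conj_mem_St.2
    (centralizer_le_normalizer _ (GA.PP_le_Cs hg))))
  obtain ⟨u0, t1, t2⟩ := ht
  obtain ⟨a, a1, ⟨u, a2⟩, a3⟩ := gen
  refine ⟨U0 m K, ⟨⟨ta_sq, fix, GA.FB.syl, qm.stU, qm.tne, a, u, a2.symm, gen_of _ a1 a3 fun k =>
      ri.2 (GA.eq_one_of_center (k ⟨u0, t2⟩) (H64.SG.is2_of_sq ri.1))⟩, ⟨gdc, fun v hv => ?_⟩, qm.qs,
      fun β b1 b2 b3 b4 => (qm.m3 β b1 b2 b3 b4).elim⟩,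
    .inr (.inl ⟨fun y hy => ?_, s.nu s.na m K, fun y hy => ?_, r0 m K, Z0 m K, Q0 m K,
      ⟨qm.good 1 GA.rg1, (GA.UU_le_PP.trans (pe _ pq)).trans le_sup_left, _, qm.good 2 GA.rg2,
        np.top _ ((pe _ pq).trans (le_sup_left.trans le_sup_left))
          (mem_sup_left (mem_sup_right (eg _ _ _ pl1 np.n2)))⟩,
      ⟨ri, tz _ rz, rz, GA.ZZ_le_QQ, GA.QQ_le_UU, GA.UU_le_Cs, fun _ => GA.sq_of_ZZ,
        GA.FB.sqQ 1 GA.rg1, r.rz, fun α => r.ra α _ (IsConj.refl _), r.str, r.stq,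
        (qm.good 1 GA.rg1).co, r.ce, GA.QQ_le_PP.trans (pe _ GA.PP_le_Cs)⟩,
      ⟨s.pt m K r, GA.FP.ivQ, fun u hu x hx h1 h2 => ?_⟩, s.ra m K r np qn,
      ⟨hb.pd, s.ha m K r (s.h1 m K), hb.hb⟩, rn,
      ⟨fun x hx h0 => ?_, r.zq, fun u h1 h2 h3 => .inl (rn.zp _ rz ri.2 u h1 h2 h3)⟩⟩)⟩
  · obtain ⟨g, h | h⟩ := s.cl m K v hv
    · exact ⟨g, 1, mul_one 1, by rw [map_one, mul_one, h]⟩
    · exact ⟨g, u0, t1, by rw [t2, h]⟩
  · rw [bq, ← hq, ← hk]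
    exact s.bi m K y hy
  · by_cases h1 : y = 1
    · exact ⟨1, 1, by simp [h1]⟩
    obtain ⟨g, j, hj, e⟩ := GA.FI.ic y ⟨hy, h1⟩
    obtain ⟨w, hw⟩ := (fix _).1 (qm.xk j hj)
    exact ⟨g⁻¹, w, by rw [hw, ← e]; group⟩
  · have hz := GA.FB.sqQ 1 GA.rg1 x hx
    rcases Nat.even_or_odd m with k | k
    · exact .inr ⟨tz, s.s1 m K r sd k u hu (h2 ▸ hz) (h2 ▸ h1),
        s.s1 m K r sd k x (GA.QQ_le_UU hx) hz h1⟩
    · exact .inl (s.s0 m K sd k u hu (h2 ▸ hz) (h2 ▸ h1))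
  · obtain ⟨z, c, z1, z2, z3, z4⟩ := qn x hx h0
    have o : Ok (ev 0) (c • z) (nm c) := ⟨i0, by rw [hf_smul_left, z1.symm.p, mul_zero], by
      rw [tr_eq_zero.2 (star_nm c), z1.r.smul c]⟩
    refine ⟨TT z, GA.PP_le_Cs (show ac _ _ = _ by
      rw [ac_Tc z1.r (star_one K), z1.p, mul_zero, zero_smul, add_zero]), ?_, fun k => ?_⟩
    · rw [z4, EE_mul o o, v_add_self, CharTwo.add_self_eq_zero, z1.r.smul c, add_zero, EE_zero]
    · obtain ⟨d, hd, e⟩ := (FV.mem_Z _).1 k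
      obtain ⟨b, hb, -⟩ := EE_inj (ev_ne 0) o (ok_zero i0 hd) (z4.symm.trans e)
      exact z3 (z2 b c (by rw [add_comm, ← hb])).2

end

theorem SY.mu0 (s : SY) : JobMU0 := by
  intro n F _ _ _ _ _ p b c o K _ _ _ _ x h
  have := par0 n x h
  have f : F0 x h := jobF0 n F b c o K x h
  have i := jobI1 n K p.odd
  have f1 := jobF1 n F b c o K x h f i
  have gc := s.gc n F b c o K x h f i f1 (s.dc n F b c o) (s.al n F b c o K x h f)
  obtain ⟨η, hη⟩ : ∃ η : K, tr η = 1 := (base n K).eta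
  have five := p.five
  have v1 := H59.UM.v1 five
  have p01 : Pp (ev 0 : Vn n K) (ev 1) :=
    ppe (by simp; omega) (by omega) (by rw [v1, Fin.val_zero]; omega)
  have o1 : ∀ a : K, Ok (ev 0 : Vn n K) (a • ev 1) 0 := fun a => by simpa using (p01.smul 1 a).ok
  have eq : ∀ i j, Pp (ev i : Vn n K) (ev j) → hf (ev j : Vn n F) (ev i) = 0 ∧
      iU n x h (qq (ev j) (ev i)) = qq (ev j) (ev i) := fun i j k => by
    have : hf (ev j : Vn n F) (ev i) = 0 := x.φ.injective (by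
      rw [← f.hv, f.ve, f.ve, k.symm.p, map_zero])
    exact ⟨this, by rw [f.ee _ _ _ _ (H86.SPI.ok this 0), f.ve, f.ve, map_zero]⟩
  rw [tU_eq]
  refine ⟨s.mod _ _ (qK_eq x h) rfl (f.fix n) (fun i j k => ⟨_, H86.SPI.qq_sq (eq i j k).1,
    fun v => ?_, (eq i j k).2⟩) ⟨TT (ev 0), S2.Tc_sq 1 _, ?_⟩ ⟨qq (η • ev 1) (ev 0), ⟨1, ?_⟩,
      ⟨qq (ev 1) (ev 0), ?_⟩, jobG0 n F b c o K x h f η hη⟩ gc.g0, gc.na⟩
  · rw [S2.ac_qq' (eq i j k).1, hf_add_left, hf_add_left, hf_smul_left, hf_smul_left,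
      H86.SPI.hf_self, H86.SPI.hf_comm (ev i), H86.SPI.hf_comm (ev j)]
    linear_combination hf v (ev j) * hf v (ev i) * two0 F
  · rw [f.ee _ _ _ _ (H86.SPI.ok (hf_zero_left _) 1), f.ve, map_one, H59.S3MU1.vx_zero]
  · rw [map_one, EE_mul (o1 η) (o1 η), v_add_self, p01.r.smul η]; simp
  · rw [(eq 0 1 p01).2, ta_EE (o1 η), br_smul, br_ev, br_ev, star_zero, EE_inv (o1 _), star_zero,
      EE_mul (o1 _) (o1 _), ← add_smul, show η + star η = 1 from hη, hf_smul_left, hf_smul_right,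
      p01.r]
    simp

theorem SY.mu1 (s : SY) : JobMU1 := by
  intro n F _ _ _ _ _ p b c o K _ _ _ _ x h
  have := par0 n x h
  have := par1 n x h
  have f : F0 x h := jobF0 n F b c o K x h
  have i := jobI1 n K p.odd
  have f1 := jobF1 n F b c o K x h f i
  have gc := s.gc n F b c o K x h f i f1 (s.dc n F b c o) (s.al n F b c o K x h f)
  obtain ⟨η, hη⟩ : ∃ η : K, tr η = 1 := (base n K).eta
  have i0 := H59.UM.iso0 (n := n + 1) (K := K)
  have inj : Function.Injective (iV n x h) := fun a b e =>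
    f.inj n (i.inj (by rw [← f1.sq, ← f1.sq, e]))
  have o1 : Ok (ev 0 : Vn (n + 1) K) (ev (mid n)) η :=
    ⟨i0, by rw [← i.e0]; exact hf_symm (i.hm _), by rw [hη, i.mm]⟩
  have sq : ∀ y : XU (n + 1) K, ta _ K y = y → y * y = 1 → ∃ v, v * v = 1 ∧ iV n x h v = y :=
    fun y h1 h2 => by
      obtain ⟨v, rfl⟩ := (f1.fix y).1 h1
      exact ⟨v, inj (by rw [map_mul, h2, map_one]), rfl⟩
  have t0 : ta (n + 1) K (r0 (n + 1) K) = r0 (n + 1) K := by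
    rw [ta_EE (ok_zero i0 (star_one K)), br_ev, br_zero, star_one]
  have aa : EE (ev 0) (ev (mid n)) η * EE (ev 0) (ev (mid n)) η = r0 (n + 1) K := by
    rw [EE_mul o1 o1, v_add_self, CharTwo.add_self_eq_zero, i.mm, zero_add]
  rw [tU_eq]
  refine s.mod _ _ (qK_eq x h) (by obtain ⟨k, hk⟩ := p.odd; simp only [kk]; omega) f1.fix
    (fun i j k => ?_) (sq _ t0 (Tc_mul_self i0 (star_one K))) ⟨EE (ev 0) (ev (mid n)) η,
      aa ▸ (f1.fix _).1 t0, ?_, s.g1 n F b c o K x h f i f1 (jobG0 n F b c o K x h f) η hη⟩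
    fun u h1 _ => gc.g1 u h1
  · obtain ⟨v, h1, h2⟩ := sq (qq (ev j) (ev i)) (by rw [ta_EE k.ok, br_ev, br_ev, star_zero])
      (by rw [EE_mul k.ok k.ok, v_add_self, k.r]; simp)
    exact ⟨v, h1, trivial, h2⟩
  · rw [ta_EE o1, br_ev, br_ev, EE_inv o1.star, star_star, aa]
    exact (f1.fix _).1 t0

end H78.YU
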